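/-
Unipotent subgroups of a Chevalley group over a `Good` datum, read off matrix entries.

* `Tri f h`: matrices g with g a b = δ a b whenever key a < key b + h (key: 0 on h_i, f on e_q).
* `UT T`: generated by the x_q(t), q ∈ T; `lev f T h`: the part of f-value at least h.
* `coef r g`: the coefficient of x_r in g, additive on `Tri f (f r)`; `coef_gx`.
* `mem_lev_succ`: an element of level h with vanishing coefficients has level h + 1.
-/
import Cfsg.Agent.Lib.ChevSt.Linear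
import Cfsg.Agent.Lib.ChevBN.Torus

set_option autoImplicit false

namespace Cfsg.Agent.TwistE6D4

open Cfsg.Lie Cfsg.Lie.ChevalleyDatum Cfsg.Agent.Chev Matrix
open Cfsg.Agent.ChevSt (IsLin)

variable {D : ChevalleyDatum} {K : Type*} [Field K]

/-- x_r(t) as an element of GL. -/
abbrev gx (hD : Good D) (K : Type*) [Field K] (r : ℕ) (t : K) : GL D.Idx K := ChevBN.xg hD K r t

theorem coe_gx (hD : Good D) (r : ℕ) (t : K) : (gx hD K r t : Matrix D.Idx D.Idx K) = D.x K r t := rfl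

theorem gx_inv (hD : Good D) (r : ℕ) (t : K) : (gx hD K r t)⁻¹ = gx hD K r (-t) := Units.ext rfl

theorem gx_mem (hD : Good D) (K : Type*) [Field K] (r : ℕ) (t : K) : gx hD K r t ∈ D.group K :=
  ChevBN.xg_mem_group hD r t

theorem map_gx (hD : Good D) (f : K →+* K) (r : ℕ) (t : K) :
    Matrix.GeneralLinearGroup.map f (gx hD K r t) = gx hD K r (f t) := by
  refine Units.ext ?_
  show (D.x K r t).map f = D.x K r (f t)
  by_cases hr : r < D.nroots
  · rw [x_eq_xR D hr, x_eq_xR D hr, xR_map]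
  · rw [x_of_le D (Nat.not_lt.1 hr), x_of_le D (Nat.not_lt.1 hr)]
    simp

/-- The weight of a coordinate. -/
def key (f : ℕ → ℤ) : D.Idx → ℤ := Sum.elim (fun _ => 0) (fun q => f q.val)

@[simp] theorem key_inl (f : ℕ → ℤ) (i : Fin D.rank) : key f (Sum.inl i : D.Idx) = 0 := rfl
@[simp] theorem key_inr (f : ℕ → ℤ) (q : Fin D.nroots) : key f (Sum.inr q : D.Idx) = f q.val := rfl

/-- The condition g a b = δ a b for key a < key b + h. -/
def IsTri (f : ℕ → ℤ) (h : ℤ) (M : Matrix D.Idx D.Idx K) : Prop :=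
  ∀ a b, key f a < key f b + h → M a b = (1 : Matrix D.Idx D.Idx K) a b

theorem IsTri.mul {f : ℕ → ℤ} {h : ℤ} (hh : 0 ≤ h) {M N : Matrix D.Idx D.Idx K} (hM : IsTri f h M)
    (hN : IsTri f h N) : IsTri f h (M * N) := by
  intro a b hab
  rw [Matrix.mul_apply, Finset.sum_eq_single a]
  · rcases eq_or_ne h 0 with rfl | hne
    · by_cases haa : key f a < key f a + 0
      · exact absurd haa (by omega)
      · have h1 := hN a b hab
        have hne' : a ≠ b := fun e => by subst e; omega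
        rw [h1, Matrix.one_apply_ne hne', mul_zero]
    · rw [hM a a (by omega), Matrix.one_apply_eq, one_mul, hN a b hab]
  · intro c _ hca
    by_cases hac : key f a < key f c + h
    · rw [hM a c hac, Matrix.one_apply_ne (Ne.symm hca), zero_mul]
    · have hcb : key f c < key f b + h := by omega
      rw [hN c b hcb, Matrix.one_apply_ne (fun e => by subst e; omega), mul_zero]
  · intro ha; exact absurd (Finset.mem_univ a) ha

/-- The group of elements that are triangular, with their inverses. -/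
def Tri (D : ChevalleyDatum) (K : Type*) [Field K] (f : ℕ → ℤ) (h : ℕ) : Subgroup (GL D.Idx K) where
  carrier := {g | IsTri f h (g : Matrix D.Idx D.Idx K) ∧ IsTri f h ((g⁻¹ : GL D.Idx K) : Matrix D.Idx D.Idx K)}
  mul_mem' {a b} ha hb := by
    refine ⟨?_, ?_⟩
    · rw [Units.val_mul]; exact ha.1.mul (by positivity) hb.1
    · rw [_root_.mul_inv_rev, Units.val_mul]; exact hb.2.mul (by positivity) ha.2
  one_mem' := by simp [IsTri]
  inv_mem' {a} ha := by simpa [and_comm] using ha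

theorem mem_Tri {f : ℕ → ℤ} {h : ℕ} {g : GL D.Idx K} (hg : g ∈ Tri D K f h) {a b : D.Idx}
    (hab : key f a < key f b + h) :
    (g : Matrix D.Idx D.Idx K) a b = (1 : Matrix D.Idx D.Idx K) a b := hg.1 a b hab

/-- Matrices vanishing below the weight. -/
def BTri (D : ChevalleyDatum) (K : Type*) [Field K] (f : ℕ → ℤ) : Subgroup (GL D.Idx K) where
  carrier := {g | ∀ a b, key f a < key f b → (g : Matrix D.Idx D.Idx K) a b = 0 ∧
    ((g⁻¹ : GL D.Idx K) : Matrix D.Idx D.Idx K) a b = 0}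
  mul_mem' {x y} hx hy := by
    intro a b hab
    refine ⟨?_, ?_⟩
    · rw [Units.val_mul, Matrix.mul_apply]
      refine Finset.sum_eq_zero fun c _ => ?_
      by_cases hac : key f a < key f c
      · rw [(hx a c hac).1, zero_mul]
      · rw [(hy c b (by omega)).1, mul_zero]
    · rw [_root_.mul_inv_rev, Units.val_mul, Matrix.mul_apply]
      refine Finset.sum_eq_zero fun c _ => ?_
      by_cases hac : key f a < key f c
      · rw [(hy a c hac).2, zero_mul]
      · rw [(hx c b (by omega)).2, mul_zero]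
  one_mem' := fun a b hab => by
    have : a ≠ b := fun e => by subst e; omega
    simp [this]
  inv_mem' {x} hx := fun a b hab => ⟨(hx a b hab).2, by rw [inv_inv]; exact (hx a b hab).1⟩

theorem Tri_le_BTri (f : ℕ → ℤ) (h : ℕ) : Tri D K f h ≤ BTri D K f := by
  intro g hg a b hab
  have hne : a ≠ b := fun e => by subst e; omega
  exact ⟨by rw [hg.1 a b (by omega), Matrix.one_apply_ne hne],
    by rw [hg.2 a b (by omega), Matrix.one_apply_ne hne]⟩

theorem eq_one_of_BTri_Tri {f f' : ℕ → ℤ} (hf : ∀ q, f' q = -f q) {g : GL D.Idx K} (h1 : g ∈ BTri D K f)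
    (h2 : g ∈ Tri D K f' 1) : g = 1 := by
  refine Units.ext (Matrix.ext fun a b => ?_)
  have hk : ∀ c : D.Idx, key f' c = -key f c := by
    intro c; rcases c with i | q <;> simp [hf]
  rw [Units.val_one]
  by_cases hab : key f a < key f b
  · rw [(h1 a b hab).1, Matrix.one_apply_ne (fun e => by subst e; omega)]
  · exact mem_Tri h2 (by rw [hk, hk]; omega)

/-! ### Root elements -/

theorem x_isTri (hD : Good D) {f : ℕ → ℤ} (hf : IsLin D f) {s : ℕ} (hs : s < D.nroots) {h : ℕ}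
    (hh : (h : ℤ) ≤ f s) (hh0 : 1 ≤ h) (u : K) : IsTri f h (D.x K s u) := by
  intro a b hab
  rw [x_eq_xR D hs]
  rcases b with i | ⟨q, hq⟩
  · rw [show xR D K s u a (Sum.inl i) = (xR D K s u *ᵥ Pi.single (Sum.inl i) 1) a by
      rw [Matrix.mulVec_single_one]; rfl, xR_inl]
    rcases a with j | ⟨p, hp⟩
    · simp [ev, Matrix.one_apply, Pi.single_apply]
    · simp only [key_inl, key_inr] at hab
      have : p ≠ s := fun e => by subst e; omega
      simp [ev, this]
  · rw [show xR D K s u a (Sum.inr ⟨q, hq⟩) = (xR D K s u *ᵥ ev D K q) a by rw [mulVec_ev D _ hq]]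
    have e1 : (1 : Matrix D.Idx D.Idx K) a (Sum.inr ⟨q, hq⟩) = ev D K q a := by
      rcases a with j | ⟨p, hp⟩ <;> simp [ev, Matrix.one_apply, Fin.ext_iff]
    rw [e1]
    by_cases h₁ : q = s
    · subst h₁; rw [xR_self D q u hs]
    by_cases h₂ : q = D.neg s
    · subst h₂
      rw [xR_neg D s u hq (hD.neg_ne s hs)]
      have hfq := hf.neg s hs
      rcases a with j | ⟨p, hp⟩
      · simp only [key_inl, key_inr] at hab; omega
      · simp only [key_inr] at hab
        have : p ≠ s := fun e => by subst e; omega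
        simp [ev, hv, this]
    rw [xR_gen D s u (hD.keys s hs) hq h₁ h₂, Pi.add_apply, add_eq_left]
    have key0 : ∀ (L : List (ℕ × ℤ)) (j : ℕ), (∀ (i : ℕ) (e : ℕ × ℤ), L[i]? = some e → f q + h ≤ f e.1) →
        sumCol D K u L j a = 0 := by
      intro L
      induction L with
      | nil => intro j _; simp [sumCol]
      | cons e L ih =>
        intro j hL
        obtain ⟨k, M⟩ := e
        have h0 : f q + h ≤ f k := hL 0 (k, M) rfl
        simp only [sumCol, Pi.add_apply, Pi.smul_apply,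
          ih _ fun i e he => hL (i + 1) e (by simpa using he), add_zero, smul_eq_mul]
        rcases a with j' | ⟨p, hp⟩
        · simp [ev]
        · simp only [key_inr] at hab
          have : p ≠ k := fun e => by subst e; omega
          simp [ev, this]
    refine key0 _ _ fun i e he => ?_
    obtain ⟨-, -, -, h4⟩ := ChevSt.stepOK_getElem hD hf hs (hD.step s hs q hq h₁ h₂) he
    rw [h4]
    have : f s ≤ ((i + 1 : ℕ) : ℤ) * f s := le_mul_of_one_le_left (by omega) (by exact_mod_cast Nat.succ_pos i)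
    omega

theorem gx_mem_Tri (hD : Good D) {f : ℕ → ℤ} (hf : IsLin D f) {s : ℕ} (hs : s < D.nroots) {h : ℕ}
    (hh : (h : ℤ) ≤ f s) (hh0 : 1 ≤ h) (u : K) : gx hD K s u ∈ Tri D K f h :=
  ⟨by simpa using x_isTri hD hf hs hh hh0 u,
    by rw [gx_inv]; simpa using x_isTri hD hf hs hh hh0 (-u)⟩

theorem gx_add (hD : Good D) (r : ℕ) (t u : K) : gx hD K r (t + u) = gx hD K r t * gx hD K r u := by
  refine Units.ext ?_
  rw [Units.val_mul, coe_gx, coe_gx, coe_gx]
  by_cases hr : r < D.nroots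
  · rw [hD.x_add hr]
  · simp [x_of_le D (Nat.not_lt.1 hr)]

@[simp] theorem gx_zero (hD : Good D) (r : ℕ) : gx hD K r (0 : K) = 1 :=
  Units.ext (by simp [hD.x_zero])

theorem eq_gx (hD : Good D) {r : ℕ} {t : K} {g : GL D.Idx K} (hg : (g : Matrix D.Idx D.Idx K) = D.x K r t) :
    g = gx hD K r t := Units.ext hg

/-- The subgroup generated by the root elements of a set of roots. -/
def UT (hD : Good D) (K : Type*) [Field K] (T : Set ℕ) : Subgroup (GL D.Idx K) :=
  Subgroup.closure {g | ∃ q ∈ T, ∃ t : K, g = gx hD K q t}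

theorem gx_mem_UT (hD : Good D) {T : Set ℕ} {q : ℕ} (hq : q ∈ T) (t : K) : gx hD K q t ∈ UT hD K T :=
  Subgroup.subset_closure ⟨q, hq, t, rfl⟩

theorem UT_mono (hD : Good D) {T T' : Set ℕ} (h : T ⊆ T') : UT hD K T ≤ UT hD K T' :=
  Subgroup.closure_mono fun _ ⟨q, hq, t, e⟩ => ⟨q, h hq, t, e⟩

theorem UT_le (hD : Good D) {T : Set ℕ} {P : Subgroup (GL D.Idx K)} (h : ∀ q ∈ T, ∀ t, gx hD K q t ∈ P) :
    UT hD K T ≤ P :=
  (Subgroup.closure_le _).2 fun _ ⟨q, hq, t, e⟩ => e ▸ h q hq t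

theorem UT_induction (hD : Good D) {T : Set ℕ} {P : GL D.Idx K → Prop} {g : GL D.Idx K}
    (hg : g ∈ UT hD K T) (gen : ∀ q ∈ T, ∀ t : K, P (gx hD K q t)) (one : P 1)
    (mul : ∀ a ∈ UT hD K T, ∀ b ∈ UT hD K T, P a → P b → P (a * b)) : P g := by
  induction hg using Subgroup.closure_induction'' with
  | mem g hg => obtain ⟨q, hq, t, rfl⟩ := hg; exact gen q hq t
  | inv_mem g hg => obtain ⟨q, hq, t, rfl⟩ := hg; rw [gx_inv]; exact gen q hq (-t)
  | one => exact one
  | mul a b ha hb pa pb => exact mul a ha b hb pa pb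

/-! ### Coefficients -/

/-- A combination of coroot coordinates equal to 1 at h_r. -/
noncomputable def cvec (D : ChevalleyDatum) (r : ℕ) : Fin D.rank → ℤ :=
  open Classical in
  if h : ∃ c : Fin D.rank → ℤ, ∑ i, c i * (D.coroot.getD r #[]).getD i.val 0 = 1 then h.choose else 0

theorem cvec_spec (hD : Good D) {r : ℕ} (hr : r < D.nroots) :
    ∑ i, cvec D r i * (D.coroot.getD r #[]).getD i.val 0 = 1 := by
  rw [cvec, dif_pos (hD.coroot_prim r hr)]
  exact (hD.coroot_prim r hr).choose_spec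

/-- The coefficient of x_r in a triangular element. -/
noncomputable def coef (D : ChevalleyDatum) (r : ℕ) (g : GL D.Idx K) : K :=
  ∑ i, (cvec D r i : K) * ((g : Matrix D.Idx D.Idx K) *ᵥ ev D K (D.neg r)) (Sum.inl i)

theorem coef_one (r : ℕ) : coef D r (1 : GL D.Idx K) = 0 := by simp [coef, ev]

theorem entry_mul {f : ℕ → ℤ} {h : ℕ} (hh : 1 ≤ h) {g g' : GL D.Idx K} (hg : g ∈ Tri D K f h)
    (hg' : g' ∈ Tri D K f h) {a b : D.Idx} (hab : key f a = key f b + h) :
    ((g * g' : GL D.Idx K) : Matrix D.Idx D.Idx K) a b =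
      (g : Matrix D.Idx D.Idx K) a b + (g' : Matrix D.Idx D.Idx K) a b := by
  have hne : a ≠ b := fun e => by subst e; omega
  rw [Units.val_mul, Matrix.mul_apply, Finset.sum_eq_add a b hne]
  · rw [mem_Tri hg (a := a) (b := a) (by omega), mem_Tri hg' (a := b) (b := b) (by omega),
      Matrix.one_apply_eq, Matrix.one_apply_eq, one_mul, mul_one, add_comm]
  · intro c _ hc
    by_cases hac : key f a < key f c + h
    · rw [mem_Tri hg hac, Matrix.one_apply_ne (Ne.symm hc.1), zero_mul]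
    · rw [mem_Tri hg' (a := c) (b := b) (by omega), Matrix.one_apply_ne hc.2, mul_zero]
  · intro ha; exact absurd (Finset.mem_univ a) ha
  · intro hb; exact absurd (Finset.mem_univ b) hb

theorem coef_mul (hD : Good D) {f : ℕ → ℤ} (hf : IsLin D f) {r : ℕ} (hr : r < D.nroots) {h : ℕ} (hh : 1 ≤ h)
    (hfr : f r = h) {g g' : GL D.Idx K} (hg : g ∈ Tri D K f h) (hg' : g' ∈ Tri D K f h) :
    coef D r (g * g') = coef D r g + coef D r g' := by
  have hn := hD.neg_lt r hr
  simp only [coef, mulVec_ev D _ hn, ← Finset.sum_add_distrib, ← mul_add]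
  refine Finset.sum_congr rfl fun i _ => ?_
  rw [entry_mul hh hg hg']
  simp [hf.neg r hr, hfr]

theorem coef_gx (hD : Good D) {f : ℕ → ℤ} (hf : IsLin D f) {r s : ℕ} (hr : r < D.nroots) (hs : s < D.nroots)
    (hfr : 0 < f r) (hfs : f r ≤ f s) (u : K) : coef D r (gx hD K s u) = if s = r then u else 0 := by
  have hn := hD.neg_lt r hr
  have hfn := hf.neg r hr
  have h₁ : D.neg r ≠ s := fun e => by subst e; omega
  simp only [coef, coe_gx, x_eq_xR D hs]
  split_ifs with h
  · subst h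
    rw [xR_neg D s u hn (hD.neg_ne s hs)]
    simp only [ev, hv, Pi.add_apply, Pi.sub_apply, Pi.smul_apply, Sum.elim_inl, smul_eq_mul, mul_zero,
      add_zero, zero_add, sub_zero, mul_comm u]
    simp only [← mul_assoc, ← Finset.sum_mul, ← Int.cast_mul, ← Int.cast_sum, cvec_spec hD hs, Int.cast_one,
      one_mul]
  · have h₂ : D.neg r ≠ D.neg s := fun e => h (by rw [← hD.neg_neg s hs, ← e, hD.neg_neg r hr])
    rw [xR_gen D s u (hD.keys s hs) hn h₁ h₂]
    have key0 : ∀ (L : List (ℕ × ℤ)) (j : ℕ) (i : Fin D.rank), sumCol D K u L j (Sum.inl i) = 0 := by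
      intro L
      induction L with
      | nil => intro j i; simp [sumCol]
      | cons e L ih => intro j i; obtain ⟨k, M⟩ := e; simp [sumCol, ev, ih]
    exact Finset.sum_eq_zero fun i _ => by simp [ev, key0]

/-! ### Levels -/

/-- The part of f-value at least h. -/
def lev (hD : Good D) (K : Type*) [Field K] (f : ℕ → ℤ) (T : Set ℕ) (h : ℕ) : Subgroup (GL D.Idx K) :=
  UT hD K {q | q ∈ T ∧ (h : ℤ) ≤ f q}

theorem gx_mem_lev (hD : Good D) {f : ℕ → ℤ} {T : Set ℕ} {h : ℕ} {q : ℕ} (hq : q ∈ T) (hf : (h : ℤ) ≤ f q)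
    (t : K) : gx hD K q t ∈ lev hD K f T h :=
  gx_mem_UT hD (T := {q | q ∈ T ∧ (h : ℤ) ≤ f q}) ⟨hq, hf⟩ t

theorem lev_anti (hD : Good D) (f : ℕ → ℤ) (T : Set ℕ) {h h' : ℕ} (hh : h ≤ h') :
    lev hD K f T h' ≤ lev hD K f T h :=
  UT_mono hD fun _ hq => ⟨hq.1, le_trans (by exact_mod_cast hh) hq.2⟩

/-- A set of roots of positive f-value closed under commutator terms. -/
structure PosClosed (D : ChevalleyDatum) (f : ℕ → ℤ) (T : Set ℕ) : Prop where
  lt : ∀ q ∈ T, q < D.nroots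
  pos : ∀ q ∈ T, 0 < f q
  closed : ∀ r ∈ T, ∀ s ∈ T, s ≠ r → ∀ τ ∈ D.commTerms r s, τ.1 ∈ T

theorem lev_le_Tri (hD : Good D) {f : ℕ → ℤ} (hf : IsLin D f) {T : Set ℕ} (hT : PosClosed D f T) {h : ℕ}
    (hh : 1 ≤ h) : lev hD K f T h ≤ Tri D K f h :=
  UT_le hD fun q hq t => gx_mem_Tri hD hf (hT.lt q hq.1) hq.2 hh t

theorem lev_succ_eq_bot (hD : Good D) {f : ℕ → ℤ} {T : Set ℕ} {h : ℕ} (hT : ∀ q ∈ T, f q < h) :
    lev hD K f T h = ⊥ :=
  le_bot_iff.1 (UT_le hD fun q hq => absurd (hT q hq.1) (by have := hq.2; omega))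

theorem lev_one (hD : Good D) {f : ℕ → ℤ} {T : Set ℕ} (hT : PosClosed D f T) : lev hD K f T 1 = UT hD K T :=
  le_antisymm (UT_mono hD fun _ hq => hq.1) (UT_mono hD fun q hq => ⟨hq, by have := hT.pos q hq; omega⟩)

theorem commWord_mem (hD : Good D) {f : ℕ → ℤ} (hf : IsLin D f) {T : Set ℕ} (hT : PosClosed D f T) {h : ℕ}
    {r s : ℕ} (hr : r ∈ T) (hs : s ∈ T) (hsr : s ≠ r) (hh : (h : ℤ) < f r + f s) (t u : K) :
    ∃ w ∈ lev hD K f T (h + 1), (w : Matrix D.Idx D.Idx K) = D.wordMat K (D.commWord K r s t u) := by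
  have hneg : s ≠ D.neg r := fun e => by
    subst e; have h1 := hT.pos _ hs; rw [hf.neg r (hT.lt r hr)] at h1; have := hT.pos r hr; omega
  have key : ∀ L : List (ℕ × K), (∀ e ∈ L, e.1 ∈ T ∧ f r + f s ≤ f e.1) →
      ∃ w ∈ lev hD K f T (h + 1), (w : Matrix D.Idx D.Idx K) = D.wordMat K L := by
    intro L hL
    induction L with
    | nil => exact ⟨1, one_mem _, by simp [ChevalleyDatum.wordMat]⟩
    | cons e L ih =>
      obtain ⟨w, hw, hwm⟩ := ih fun x hx => hL x (List.mem_cons_of_mem _ hx)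
      obtain ⟨heT, hef⟩ := hL e (List.mem_cons_self ..)
      exact ⟨gx hD K e.1 e.2 * w, mul_mem (gx_mem_lev hD heT (by push_cast; omega) _) hw, by
        simp [hwm, ChevalleyDatum.wordMat]⟩
  refine key _ fun e he => ?_
  simp only [ChevalleyDatum.commWord, List.mem_map] at he
  obtain ⟨τ, hτ, rfl⟩ := he
  obtain ⟨-, h4, h5, h6⟩ := hf.commTerms hD (hT.lt r hr) (hT.lt s hs) hsr hneg hτ
  refine ⟨hT.closed r hr s hs hsr τ hτ, ?_⟩
  rw [h6]
  exact add_le_add (le_mul_of_one_le_left (hT.pos r hr).le (by exact_mod_cast h4))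
    (le_mul_of_one_le_left (hT.pos s hs).le (by exact_mod_cast h5))

theorem gx_swap (hD : Good D) {f : ℕ → ℤ} (hf : IsLin D f) {T : Set ℕ} (hT : PosClosed D f T) {h : ℕ}
    {r s : ℕ} (hr : r ∈ T) (hs : s ∈ T) (hh : (h : ℤ) < f r + f s) (t u : K) :
    ∃ w ∈ lev hD K f T (h + 1), (gx hD K r t)⁻¹ * gx hD K s u * gx hD K r t = gx hD K s u * w := by
  by_cases hsr : s = r
  · subst hsr
    exact ⟨1, one_mem _, by rw [gx_inv, ← gx_add, ← gx_add, mul_one, show -t + u + t = u by ring]⟩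
  have hneg : s ≠ D.neg r := fun e => by
    subst e; have h1 := hT.pos _ hs; rw [hf.neg r (hT.lt r hr)] at h1; have := hT.pos r hr; omega
  obtain ⟨w, hw, hwm⟩ := commWord_mem hD hf hT hr hs hsr hh t u
  refine ⟨w, hw, Units.ext ?_⟩
  rw [gx_inv]
  simp only [Units.val_mul, coe_gx, hwm]
  rw [mul_assoc, hD.commutator (hT.lt r hr) (hT.lt s hs) hsr hneg, ← mul_assoc, ← mul_assoc,
    hD.x_add (hT.lt r hr), neg_add_cancel, hD.x_zero, one_mul]

theorem gx_conj_lev_succ (hD : Good D) {f : ℕ → ℤ} (hf : IsLin D f) {T : Set ℕ} (hT : PosClosed D f T) {h : ℕ}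
    {r : ℕ} (hr : r ∈ T) (t : K) {z : GL D.Idx K} (hz : z ∈ lev hD K f T (h + 1)) :
    (gx hD K r t)⁻¹ * z * gx hD K r t ∈ lev hD K f T (h + 1) := by
  refine UT_induction hD hz (P := fun z => (gx hD K r t)⁻¹ * z * gx hD K r t ∈ lev hD K f T (h + 1))
    (fun q hq u => ?_) (by simp [one_mem]) (fun a _ b _ pa pb => ?_)
  · obtain ⟨w, hw, e⟩ := gx_swap hD hf hT (h := h) hr hq.1
      (by have := hT.pos r hr; have h2 := hq.2; push_cast at h2; omega) t u
    rw [e]
    exact mul_mem (gx_mem_UT hD hq u) hw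
  · have := mul_mem pa pb
    rwa [show (gx hD K r t)⁻¹ * a * gx hD K r t * ((gx hD K r t)⁻¹ * b * gx hD K r t) =
      (gx hD K r t)⁻¹ * (a * b) * gx hD K r t by group] at this

theorem conj_lev_succ (hD : Good D) {f : ℕ → ℤ} (hf : IsLin D f) {T : Set ℕ} (hT : PosClosed D f T) {h : ℕ}
    {g : GL D.Idx K} (hg : g ∈ UT hD K T) :
    ∀ z ∈ lev hD K f T (h + 1), g * z * g⁻¹ ∈ lev hD K f T (h + 1) := by
  refine UT_induction hD hg (P := fun g => ∀ z ∈ lev hD K f T (h + 1), g * z * g⁻¹ ∈ lev hD K f T (h + 1))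
    (fun q hq u z hz => ?_) (fun z hz => by simpa using hz) (fun a _ b _ pa pb z hz => ?_)
  · have := gx_conj_lev_succ hD hf hT (h := h) hq (-u) hz
    rwa [← gx_inv, inv_inv] at this
  · rw [show a * b * z * (a * b)⁻¹ = a * (b * z * b⁻¹) * a⁻¹ by group]
    exact pa _ (pb z hz)

/-- An element of level h without coefficients at level h has level h + 1. -/
theorem mem_lev_succ (hD : Good D) {f : ℕ → ℤ} (hf : IsLin D f) {T : Set ℕ} (hT : PosClosed D f T) {h : ℕ}
    (hh : 1 ≤ h) {g : GL D.Idx K} (hg : g ∈ lev hD K f T h)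
    (hc : ∀ r ∈ T, f r = h → coef D r g = 0) : g ∈ lev hD K f T (h + 1) := by
  classical
  let L := lev hD K f T h
  let N := (lev hD K f T (h + 1)).subgroupOf L
  have hsub : L ≤ UT hD K T := UT_mono hD fun q hq => hq.1
  haveI : N.Normal := ⟨fun z hz a => conj_lev_succ hD hf hT (hsub a.2) _ hz⟩
  let π : L →* L ⧸ N := QuotientGroup.mk' N
  have hgen : ∀ q ∈ T, (h : ℤ) ≤ f q → ∀ u : K, gx hD K q u ∈ L := fun q hq hfq u =>
    gx_mem_lev hD hq hfq u
  -- the quotient is commutative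
  have hcomm : ∀ a b : L ⧸ N, a * b = b * a := by
    have h1 : ∀ r, ∀ (hr : r ∈ T) (hfr : (h : ℤ) ≤ f r) (t : K), ∀ b : L,
        Commute (π ⟨_, hgen r hr hfr t⟩) (π b) := by
      intro r hr hfr t
      rintro ⟨b, hb⟩
      revert hb
      intro hb
      refine UT_induction hD hb (P := fun b => ∀ hb : b ∈ L, Commute (π ⟨_, hgen r hr hfr t⟩) (π ⟨b, hb⟩))
        (fun s hs u hb' => ?_) (fun hb' => ?_) (fun a ha c hc pa pc hb' => ?_) hb
      · obtain ⟨w, hw, e⟩ := gx_swap hD hf hT (h := h) hr hs.1 (by have := hs.2; have := hT.pos r hr; omega) t u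
        have hwL : w ∈ L := lev_anti hD f T (Nat.le_succ h) hw
        have e' : (⟨_, hgen r hr hfr t⟩ : L)⁻¹ * ⟨gx hD K s u, hb'⟩ * ⟨_, hgen r hr hfr t⟩ =
            ⟨gx hD K s u, hb'⟩ * ⟨w, hwL⟩ := Subtype.ext e
        have hw1 : π ⟨w, hwL⟩ = 1 := (QuotientGroup.eq_one_iff _).2 hw
        have e2 := congrArg π e'
        simp only [map_mul, map_inv, hw1, mul_one] at e2
        show _ * _ = _ * _
        conv_lhs => rw [← e2]
        group
      · exact (show (⟨1, hb'⟩ : L) = 1 from rfl) ▸ (map_one π).symm ▸ Commute.one_right _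
      · rw [show (⟨a * c, hb'⟩ : L) = ⟨a, ha⟩ * ⟨c, hc⟩ from rfl, map_mul]
        exact (pa ha).mul_right (pc hc)
    intro a b
    obtain ⟨⟨a, ha⟩, rfl⟩ := QuotientGroup.mk'_surjective N a
    refine UT_induction hD ha (P := fun a => ∀ ha : a ∈ L, π ⟨a, ha⟩ * b = b * π ⟨a, ha⟩)
      (fun s hs u ha' => ?_) (fun ha' => ?_) (fun c hc d hd pc pd ha' => ?_) ha
    · obtain ⟨b, rfl⟩ := QuotientGroup.mk'_surjective N b
      exact h1 s hs.1 hs.2 u b
    · rw [show (⟨1, ha'⟩ : L) = 1 from rfl, map_one, one_mul, mul_one]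
    · rw [show (⟨c * d, ha'⟩ : L) = ⟨c, hc⟩ * ⟨d, hd⟩ from rfl, map_mul, mul_assoc, pd hd, ← mul_assoc,
        pc hc, mul_assoc]
  letI : CommGroup (L ⧸ N) := { (inferInstance : Group (L ⧸ N)) with mul_comm := hcomm }
  let Lv := (Finset.range D.nroots).filter fun r => r ∈ T ∧ f r = h
  have hLv : ∀ {r}, r ∈ Lv → r ∈ T ∧ f r = h := fun hr => (Finset.mem_filter.1 hr).2
  let ψ : (r : {r // r ∈ Lv}) → K → L ⧸ N := fun r t =>
    π ⟨_, hgen r.1 (hLv r.2).1 (hLv r.2).2.ge t⟩
  have hψ : ∀ r t u, ψ r (t + u) = ψ r t * ψ r u := fun r t u => by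
    rw [← map_mul]; exact congrArg π (Subtype.ext (gx_add hD r.1 t u))
  have hψ0 : ∀ r, ψ r 0 = 1 := fun r => by
    rw [← map_one π]; exact congrArg π (Subtype.ext (gx_zero hD r.1))
  have main : ∀ hgL : g ∈ L, π ⟨g, hgL⟩ = ∏ r : {r // r ∈ Lv}, ψ r (coef D r.1 g) := by
    refine UT_induction hD hg (P := fun g => ∀ hgL : g ∈ L,
      π ⟨g, hgL⟩ = ∏ r : {r // r ∈ Lv}, ψ r (coef D r.1 g)) (fun s hs u hgL => ?_) (fun hgL => ?_)
      (fun a ha b hb pa pb hgL => ?_)
    · have hcg : ∀ r : {r // r ∈ Lv}, coef D r.1 (gx hD K s u) = if s = r.1 then u else 0 := fun r =>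
        coef_gx hD hf (hT.lt _ (hLv r.2).1) (hT.lt s hs.1) (hT.pos _ (hLv r.2).1)
          ((hLv r.2).2.le.trans hs.2) u
      simp only [hcg]
      by_cases hsh : f s = h
      · have hsL : s ∈ Lv := Finset.mem_filter.2 ⟨Finset.mem_range.2 (hT.lt s hs.1), hs.1, hsh⟩
        rw [Finset.prod_eq_single ⟨s, hsL⟩]
        · simp [ψ]
        · intro r _ hr
          rw [if_neg (fun e => hr (Subtype.ext e.symm)), hψ0]
        · simp
      · rw [Finset.prod_eq_one]
        · refine (QuotientGroup.eq_one_iff _).2 (gx_mem_lev hD hs.1 ?_ u)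
          have := hs.2; push_cast; omega
        · intro r _
          rw [if_neg (fun e => hsh (by rw [e]; exact (hLv r.2).2)), hψ0]
    · simp only [coef_one, hψ0, Finset.prod_const_one]
      rw [show (⟨1, hgL⟩ : L) = 1 from rfl, map_one]
    · rw [show (⟨a * b, hgL⟩ : L) = ⟨a, ha⟩ * ⟨b, hb⟩ from rfl, map_mul, pa ha, pb hb,
        ← Finset.prod_mul_distrib]
      refine Finset.prod_congr rfl fun r _ => ?_
      rw [coef_mul hD hf (hT.lt _ (hLv r.2).1) hh (hLv r.2).2 (lev_le_Tri hD hf hT hh ha)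
        (lev_le_Tri hD hf hT hh hb), hψ]
  have h3 := main hg
  rw [Finset.prod_eq_one fun r _ => by rw [hc r.1 (hLv r.2).1 (hLv r.2).2, hψ0]] at h3
  exact (QuotientGroup.eq_one_iff (⟨g, hg⟩ : L)).1 h3

end Cfsg.Agent.TwistE6D4
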