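/-
The endomorphism σ = (graph symmetry) ∘ (field endomorphism φ) of GL of a Chevalley datum, and its fixed points
in unipotent subgroups.

* `Twist D`, `TwistOK`: the permutations, signs and orbit representatives, with table conditions.
* `sigma φ`: σ x_r(t) = x_{ρ r}(ε_r φ t) (`sigma_gx`); `Fix φ` its fixed points.
* `orb r t`: the fixed element of an orbit root subgroup; `orb_mem_Fix`, `coef_orb`.
* `fix_le`: fixed elements of a ρ-stable unipotent subgroup are products of orbit elements;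
  `card_fix`: their number.
-/
import Cfsg.Agent.Lib.TwistE6D4.Unip

set_option autoImplicit false

namespace Cfsg.Agent.TwistE6D4

open Cfsg.Lie Cfsg.Lie.ChevalleyDatum Cfsg.Agent.Chev Matrix
open Cfsg.Agent.ChevSt (IsLin)

/-- A symmetry of a datum: on nodes, on roots, its signs, and orbit representatives. -/
structure Twist (D : ChevalleyDatum) where
  pi : Fin D.rank → Fin D.rank
  rho : ℕ → ℕ
  eps : ℕ → ℤ
  order : ℕ
  reps : List ℕ
  len : ℕ → ℕ
  ht : ℕ → ℤ

variable {D : ChevalleyDatum}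

/-- The condition on the tables for a pair of roots. -/
def PairOK (T : Twist D) (r s : ℕ) : Prop :=
  match D.chainRoot r s 1 with
    | none => D.chainRoot (T.rho r) (T.rho s) 1 = none
    | some k => D.chainRoot (T.rho r) (T.rho s) 1 = some (T.rho k) ∧ k < D.nroots ∧ T.ht k = T.ht r + T.ht s ∧
        D.chainM (T.rho r) (T.rho s) 1 = T.eps r * T.eps s * T.eps k * D.chainM r s 1

instance (T : Twist D) (r s : ℕ) : Decidable (PairOK T r s) := by
  unfold PairOK
  cases D.chainRoot r s 1 <;> infer_instance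

/-- The conditions on a symmetry. -/
structure TwistOK (T : Twist D) : Prop where
  order_pos : 0 < T.order
  pi_bij : Function.Bijective T.pi
  rho_lt : ∀ r < D.nroots, T.rho r < D.nroots
  rho_pow : ∀ r < D.nroots, T.rho^[T.order] r = r
  rho_neg : ∀ r < D.nroots, T.rho (D.neg r) = D.neg (T.rho r)
  eps_sq : ∀ r < D.nroots, T.eps r * T.eps r = 1
  eps_neg : ∀ r < D.nroots, T.eps (D.neg r) = T.eps r
  ht_neg : ∀ r < D.nroots, T.ht (D.neg r) = -T.ht r
  ht_rho : ∀ r < D.nroots, T.ht (T.rho r) = T.ht r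
  ht_pos : ∀ r < D.nroots, D.IsPosRoot r ↔ 0 < T.ht r
  ht_negR : ∀ r < D.nroots, D.IsNegRoot r ↔ T.ht r < 0
  cartan : ∀ r < D.nroots, ∀ i : Fin D.rank, D.cartan (T.pi i).val (T.rho r) = D.cartan i.val r
  coroot : ∀ r < D.nroots, ∀ i : Fin D.rank,
    (D.coroot.getD (T.rho r) #[]).getD (T.pi i).val 0 = (D.coroot.getD r #[]).getD i.val 0
  pair : ∀ r < D.nroots, ∀ s < D.nroots, PairOK T r s
  rep_lt : ∀ r ∈ T.reps, r < D.nroots ∧ 0 < T.len r ∧ T.rho^[T.len r] r = r ∧
    ((List.range (T.len r)).map fun i => T.eps (T.rho^[i] r)).prod = 1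
  rep_cover : ∀ q < D.nroots, ∃ r ∈ T.reps, ∃ i < T.len r, T.rho^[i] r = q
  rep_inj : ∀ r ∈ T.reps, ∀ r' ∈ T.reps, ∀ i < T.len r, ∀ j < T.len r', T.rho^[i] r = T.rho^[j] r' → r = r' ∧ i = j
  orth : ∀ r ∈ T.reps, ∀ i < T.len r, ∀ j < T.len r, i ≠ j →
    T.rho^[j] r ≠ D.neg (T.rho^[i] r) ∧ D.commTerms (T.rho^[i] r) (T.rho^[j] r) = []
  rep_nodup : T.reps.Nodup

namespace TwistOK

variable {T : Twist D} (hT : TwistOK T)
include hT

theorem iter_lt {r : ℕ} (hr : r < D.nroots) : ∀ i, T.rho^[i] r < D.nroots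
  | 0 => hr
  | i + 1 => by rw [Function.iterate_succ_apply']; exact hT.rho_lt _ (iter_lt hr i)

theorem rho_inj {r s : ℕ} (hr : r < D.nroots) (hs : s < D.nroots) (h : T.rho r = T.rho s) : r = s := by
  obtain ⟨e, he⟩ := Nat.exists_eq_succ_of_ne_zero hT.order_pos.ne'
  have h1 := hT.rho_pow r hr
  have h2 := hT.rho_pow s hs
  rw [he, Function.iterate_succ_apply] at h1 h2
  rw [← h1, ← h2, h]

theorem ht_iter {r : ℕ} (hr : r < D.nroots) : ∀ i, T.ht (T.rho^[i] r) = T.ht r
  | 0 => rfl
  | i + 1 => by rw [Function.iterate_succ_apply', hT.ht_rho _ (hT.iter_lt hr i), ht_iter hr i]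

theorem eps_cast_sq {R : Type*} [CommRing R] {r : ℕ} (hr : r < D.nroots) : (T.eps r : R) * (T.eps r : R) = 1 := by
  rw [← Int.cast_mul, hT.eps_sq r hr, Int.cast_one]

theorem isLin_ht : IsLin D T.ht := by
  refine ⟨fun r hr s hs k hk => ?_, hT.ht_neg⟩
  have h := hT.pair r hr s hs
  unfold PairOK at h
  rw [hk] at h
  exact h.2.2.1

theorem isLin_neg_ht : IsLin D (fun q => -T.ht q) := by
  refine ⟨fun r hr s hs k hk => ?_, fun r hr => by rw [hT.ht_neg r hr]⟩
  rw [hT.isLin_ht.1 r hr s hs k hk]; ring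

theorem ht_rho' {f : ℕ → ℤ} (hf : f = T.ht ∨ f = fun q => -T.ht q) : ∀ r < D.nroots, f (T.rho r) = f r := by
  intro r hr
  rcases hf with rfl | rfl <;> simp [hT.ht_rho r hr]

end TwistOK

/-! ### The monomial matrix -/

variable {T : Twist D}

/-- The image of a coordinate. -/
def iota (hT : TwistOK T) : D.Idx → D.Idx :=
  Sum.map T.pi fun q => ⟨T.rho q.val, hT.rho_lt q.val q.isLt⟩

/-- The sign of a coordinate. -/
def sgn (T : Twist D) : D.Idx → ℤ := Sum.elim (fun _ => 1) fun q => T.eps q.val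

/-- The monomial matrix of the diagram symmetry. -/
def pMat (hT : TwistOK T) : Matrix D.Idx D.Idx ℤ :=
  Matrix.of fun a b => if a = iota hT b then sgn T b else 0

theorem sgn_mul_self (hT : TwistOK T) : ∀ a : D.Idx, sgn T a * sgn T a = 1
  | Sum.inl _ => rfl
  | Sum.inr q => hT.eps_sq q.val q.isLt

theorem iota_injective (hT : TwistOK T) : Function.Injective (iota hT) :=
  Function.Injective.sumMap hT.pi_bij.1 fun a b h =>
    Fin.ext (hT.rho_inj a.isLt b.isLt (congrArg Fin.val h))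

theorem iota_bijective (hT : TwistOK T) : Function.Bijective (iota hT) :=
  ⟨iota_injective hT, Finite.injective_iff_surjective.1 (iota_injective hT)⟩

theorem pMat_orth (hT : TwistOK T) : (pMat hT)ᵀ * pMat hT = 1 := by
  ext b b'
  rw [Matrix.mul_apply, Finset.sum_eq_single (iota hT b)]
  · by_cases h : b = b'
    · subst h; simp [pMat, sgn_mul_self hT]
    · simp [pMat, Matrix.one_apply_ne h, (iota_injective hT).eq_iff, h]
  · intro c _ hc; simp [pMat, hc]
  · simp

theorem pMat_mul (hT : TwistOK T) (M : Matrix D.Idx D.Idx ℤ) (c b : D.Idx) :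
    (pMat hT * M) (iota hT c) b = sgn T c * M c b := by
  rw [Matrix.mul_apply, Finset.sum_eq_single c]
  · simp [pMat]
  · intro d _ hd; simp [pMat, (iota_injective hT).eq_iff, Ne.symm hd]
  · simp

theorem mul_pMat (hT : TwistOK T) (M : Matrix D.Idx D.Idx ℤ) (a b : D.Idx) :
    (M * pMat hT) a b = M a (iota hT b) * sgn T b := by
  rw [Matrix.mul_apply, Finset.sum_eq_single (iota hT b)]
  · simp [pMat]
  · intro d _ hd; simp [pMat, hd]
  · simp

theorem ev_iota (hT : TwistOK T) {q : ℕ} (hq : q < D.nroots) (c : D.Idx) :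
    ev D ℤ (T.rho q) (iota hT c) = ev D ℤ q c := by
  rcases c with i | u
  · simp [ev, iota]
  · by_cases h : u.val = q
    · simp [ev, iota, h]
    · simp [ev, iota, h, show T.rho u.val ≠ T.rho q from fun e => h (hT.rho_inj u.isLt hq e)]

theorem pMat_adE (hT : TwistOK T) (hD : Good D) {r : ℕ} (hr : r < D.nroots) :
    pMat hT * adE D ℤ r = T.eps r • (adE D ℤ (T.rho r) * pMat hT) := by
  ext a b
  obtain ⟨c, rfl⟩ := (iota_bijective hT).2 a
  rw [pMat_mul, Matrix.smul_apply, mul_pMat]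
  simp only [adE, Matrix.of_apply, smul_eq_mul]
  have he : T.eps r * T.eps r = 1 := hT.eps_sq r hr
  rcases b with i | ⟨s, hs⟩
  · simp only [colA, iota, sgn, Sum.map_inl, Sum.elim_inl, Pi.smul_apply, smul_eq_mul, Int.cast_id, mul_one]
    rw [hT.cartan r hr i]
    have h2 := ev_iota hT hr c
    simp only [iota] at h2
    rw [h2]
    rcases c with j | u
    · simp [ev]
    · by_cases hu : u.val = r
      · subst hu; simp
      · simp [ev, hu]
  · simp only [colA, iota, sgn, Sum.map_inr, Sum.elim_inr]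
    by_cases h₁ : s = r
    · subst h₁; simp
    have h₁' : T.rho s ≠ T.rho r := fun e => h₁ (hT.rho_inj hs hr e)
    by_cases h₂ : s = D.neg r
    · subst h₂
      rw [if_neg h₁, if_pos rfl, if_neg h₁', if_pos (hT.rho_neg r hr), hT.eps_neg r hr]
      rcases c with j | u
      · simp only [hv, Sum.map_inl, Sum.elim_inl, Int.cast_id]
        rw [hT.coroot r hr j, one_mul, mul_comm _ (T.eps r), ← mul_assoc, he, one_mul]
      · simp [hv]
    have h₂' : T.rho s ≠ D.neg (T.rho r) := fun e =>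
      h₂ (hT.rho_inj hs (hD.neg_lt r hr) (by rw [e, hT.rho_neg r hr]))
    rw [if_neg h₁, if_neg h₂, if_neg h₁', if_neg h₂']
    have hp := hT.pair r hr s hs
    unfold PairOK at hp
    cases hk : D.chainRoot r s 1 with
    | none =>
      rw [hk] at hp
      simp only at hp
      simp [hp]
    | some k =>
      rw [hk] at hp
      obtain ⟨h3, hk', -, h4⟩ := hp
      have h2 := ev_iota hT hk' c
      simp only [iota] at h2
      simp only [h3, h4, Option.elim_some, Pi.smul_apply, smul_eq_mul, Int.cast_id, h2]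
      rcases c with j | u
      · simp [ev]
      · by_cases hu : u.val = k
        · subst hu
          have hs' := hT.eps_sq s hs
          simp only [Sum.elim_inr]
          linear_combination (-(T.eps u.val * D.chainM r s 1 * ev D ℤ u.val (Sum.inr u))) * he +
            (-(T.eps r * T.eps r * T.eps u.val * D.chainM r s 1 * ev D ℤ u.val (Sum.inr u))) * hs'
        · simp [ev, hu]

/-! ### σ -/

variable {K : Type*} [Field K]

theorem pMat_orth_map (hT : TwistOK T) :
    ((pMat hT)ᵀ.map (Int.cast : ℤ → K)) * (pMat hT).map (Int.cast : ℤ → K) = 1 := by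
  rw [← Matrix.map_mul_intCast, pMat_orth, Matrix.map_one _ Int.cast_zero Int.cast_one]

/-- The monomial element. -/
def pUnit (hT : TwistOK T) (K : Type*) [Field K] : GL D.Idx K where
  val := (pMat hT).map (Int.cast : ℤ → K)
  inv := (pMat hT)ᵀ.map (Int.cast : ℤ → K)
  val_inv := mul_eq_one_comm.1 (pMat_orth_map hT)
  inv_val := pMat_orth_map hT

/-- σ: the field endomorphism followed by the diagram symmetry. -/
def sigma (hT : TwistOK T) (φ : K →+* K) : GL D.Idx K →* GL D.Idx K :=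
  (MulAut.conj (pUnit hT K)).toMonoidHom.comp (Matrix.GeneralLinearGroup.map φ)

theorem sigma_gx (hT : TwistOK T) (hD : Good D) (φ : K →+* K) {r : ℕ} (hr : r < D.nroots) (t : K) :
    sigma hT φ (gx hD K r t) = gx hD K (T.rho r) ((T.eps r : K) * φ t) := by
  have h := conj_xR_of_conj_adE D hr (hT.rho_lt r hr) hD (pMat hT) (T.eps r) (pMat_adE hT hD hr) (φ t)
  rw [← x_eq_xR D hr, ← x_eq_xR D (hT.rho_lt r hr)] at h
  show pUnit hT K * Matrix.GeneralLinearGroup.map φ (gx hD K r t) * (pUnit hT K)⁻¹ = _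
  rw [map_gx hD, mul_inv_eq_iff_eq_mul]
  exact Units.ext h

/-- The fixed points of σ. -/
def Fix (hT : TwistOK T) (φ : K →+* K) : Subgroup (GL D.Idx K) :=
  (sigma hT φ).eqLocus (MonoidHom.id _)

theorem mem_Fix {hT : TwistOK T} {φ : K →+* K} {g : GL D.Idx K} : g ∈ Fix hT φ ↔ sigma hT φ g = g := Iff.rfl

/-! ### Orbit elements -/

/-- The accumulated sign along an orbit. -/
def esgn (T : Twist D) (r i : ℕ) : ℤ := ((List.range i).map fun j => T.eps (T.rho^[j] r)).prod

/-- The i-th coefficient of an orbit element. -/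
def cf (T : Twist D) (φ : K →+* K) (r : ℕ) (t : K) (i : ℕ) : K := (esgn T r i : K) * (⇑φ)^[i] t

theorem cf_zero (φ : K →+* K) (r : ℕ) (t : K) : cf T φ r t 0 = t := by simp [cf, esgn]

theorem cf_succ (φ : K →+* K) (r : ℕ) (t : K) (i : ℕ) :
    cf T φ r t (i + 1) = (T.eps (T.rho^[i] r) : K) * φ (cf T φ r t i) := by
  simp only [cf, esgn, List.range_succ, List.map_append, List.prod_append, List.map_cons, List.map_nil,
    List.prod_cons, List.prod_nil, mul_one, Int.cast_mul, map_mul, map_intCast, Function.iterate_succ_apply']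
  ring

theorem cf_len (hT : TwistOK T) (φ : K →+* K) {r : ℕ} (hr : r ∈ T.reps) (t : K) :
    cf T φ r t (T.len r) = (⇑φ)^[T.len r] t := by
  simp [cf, esgn, (hT.rep_lt r hr).2.2.2]

/-- The parameters of an orbit. -/
def Par (T : Twist D) (φ : K →+* K) (r : ℕ) : Type _ := {t : K // (⇑φ)^[T.len r] t = t}

/-- The element of an orbit root subgroup. -/
def orb (hD : Good D) (T : Twist D) (φ : K →+* K) (r : ℕ) (t : K) : GL D.Idx K :=
  ((List.range (T.len r)).map fun i => gx hD K (T.rho^[i] r) (cf T φ r t i)).prod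

theorem commute_gx (hD : Good D) {r s : ℕ} (hr : r < D.nroots) (hs : s < D.nroots) (h : s ≠ D.neg r)
    (hc : D.commTerms r s = []) (t u : K) : Commute (gx hD K r t) (gx hD K s u) := by
  by_cases hsr : s = r
  · subst hsr
    show _ * _ = _ * _
    rw [← gx_add, ← gx_add, add_comm]
  · refine (Units.ext ?_ : gx hD K s u * gx hD K r t = gx hD K r t * gx hD K s u).symm
    simp only [Units.val_mul, coe_gx]
    rw [hD.commutator hr hs hsr h, ChevalleyDatum.commWord, hc]
    simp [ChevalleyDatum.wordMat]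

theorem orbit_commute (hT : TwistOK T) (hD : Good D) {r : ℕ} (hr : r ∈ T.reps) {i j : ℕ} (hi : i < T.len r)
    (hj : j < T.len r) (t u : K) : Commute (gx hD K (T.rho^[i] r) t) (gx hD K (T.rho^[j] r) u) := by
  have hr' := (hT.rep_lt r hr).1
  by_cases hij : i = j
  · subst hij
    show _ * _ = _ * _
    rw [← gx_add, ← gx_add, add_comm]
  · obtain ⟨h1, h2⟩ := hT.orth r hr i hi j hj hij
    exact commute_gx hD (hT.iter_lt hr' i) (hT.iter_lt hr' j) h1 h2 t u

theorem orb_mem_Fix (hT : TwistOK T) (hD : Good D) {φ : K →+* K} {r : ℕ} (hr : r ∈ T.reps) {t : K}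
    (ht : (⇑φ)^[T.len r] t = t) : orb hD T φ r t ∈ Fix hT φ := by
  obtain ⟨hr', hl, hper, -⟩ := hT.rep_lt r hr
  obtain ⟨m, hm⟩ := Nat.exists_eq_succ_of_ne_zero hl.ne'
  let g : ℕ → GL D.Idx K := fun i => gx hD K (T.rho^[i] r) (cf T φ r t i)
  have hσ : ∀ i, sigma hT φ (g i) = g (i + 1) := fun i => by
    simp only [g, sigma_gx hT hD φ (hT.iter_lt hr' i), cf_succ, Function.iterate_succ_apply']
  have hlast : g (m + 1) = g 0 := by
    simp only [g, ← Nat.succ_eq_add_one, ← hm, hper, cf_len hT φ hr, ht, cf_zero, Function.iterate_zero_apply]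
  have he : orb hD T φ r t = g 0 * ((List.range m).map fun i => g (i + 1)).prod := by
    simp [orb, g, hm, List.range_succ_eq_map, List.map_map, Function.comp_def]
  rw [mem_Fix]
  conv_lhs => rw [orb, hm, List.range_succ, map_list_prod]
  simp only [List.map_append, List.map_map, Function.comp_def, List.prod_append, List.map_cons, List.map_nil,
    List.prod_cons, List.prod_nil, mul_one]
  rw [show (fun i => sigma hT φ (gx hD K (T.rho^[i] r) (cf T φ r t i))) = fun i => g (i + 1) from funext hσ,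
    show sigma hT φ (gx hD K (T.rho^[m] r) (cf T φ r t m)) = g (m + 1) from hσ m, hlast, he]
  refine (Commute.list_prod_left _ _ fun x hx => ?_).eq
  obtain ⟨i, hi, rfl⟩ := List.mem_map.1 hx
  exact orbit_commute hT hD hr (by rw [List.mem_range] at hi; omega) hl _ _

/-! ### Fixed points in unipotent subgroups -/

/-- A set of roots stable under the symmetry, with a weight it preserves. -/
structure Stable (T : Twist D) (f : ℕ → ℤ) (S : Set ℕ) : Prop where
  lin : IsLin D f
  closed : PosClosed D f S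
  inv : ∀ r < D.nroots, f (T.rho r) = f r
  stable : ∀ q ∈ S, T.rho q ∈ S

namespace Stable

variable {f : ℕ → ℤ} {S : Set ℕ} (hS : Stable T f S) (hT : TwistOK T) (hD : Good D) (φ : K →+* K)
include hS

theorem iter_mem {q : ℕ} (hq : q ∈ S) : ∀ i, T.rho^[i] q ∈ S
  | 0 => hq
  | i + 1 => by rw [Function.iterate_succ_apply']; exact hS.stable _ (iter_mem hq i)

include hT

theorem inv_iter {r : ℕ} (hr : r < D.nroots) : ∀ i, f (T.rho^[i] r) = f r
  | 0 => rfl
  | i + 1 => by rw [Function.iterate_succ_apply', hS.inv _ (hT.iter_lt hr i), inv_iter hr i]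

theorem rep_mem {q : ℕ} (hq : q ∈ S) : ∃ r ∈ T.reps, r ∈ S ∧ ∃ i < T.len r, T.rho^[i] r = q := by
  obtain ⟨r, hr, i, hi, rfl⟩ := hT.rep_cover q (hS.closed.lt q hq)
  refine ⟨r, hr, ?_, i, hi, rfl⟩
  have h := hS.iter_mem hq (T.len r - i)
  rwa [← Function.iterate_add_apply, Nat.sub_add_cancel hi.le, (hT.rep_lt r hr).2.2.1] at h

theorem sigma_lev {h : ℕ} {g : GL D.Idx K} (hg : g ∈ lev hD K f S h) : sigma hT φ g ∈ lev hD K f S h := by
  refine UT_induction hD hg (P := fun g => sigma hT φ g ∈ lev hD K f S h) (fun q hq u => ?_)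
    (by simp [one_mem]) (fun a _ b _ pa pb => by simpa using mul_mem pa pb)
  rw [sigma_gx hT hD φ (hS.closed.lt q hq.1)]
  exact gx_mem_lev hD (hS.stable q hq.1) (by rw [hS.inv q (hS.closed.lt q hq.1)]; exact hq.2) _

theorem coef_sigma {h : ℕ} (hh : 1 ≤ h) {q : ℕ} (hq : q ∈ S) (hfq : f q = h) {g : GL D.Idx K}
    (hg : g ∈ lev hD K f S h) :
    coef D (T.rho q) (sigma hT φ g) = (T.eps q : K) * φ (coef D q g) := by
  have hql := hS.closed.lt q hq
  have hfr : f (T.rho q) = h := by rw [hS.inv q hql, hfq]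
  refine UT_induction hD hg (P := fun g => coef D (T.rho q) (sigma hT φ g) = (T.eps q : K) * φ (coef D q g))
    (fun s hs u => ?_) (by simp [coef_one]) (fun a ha b hb pa pb => ?_)
  · have hsl := hS.closed.lt s hs.1
    rw [sigma_gx hT hD φ hsl, coef_gx hD hS.lin (hT.rho_lt q hql) (hT.rho_lt s hsl) (by omega)
        (by rw [hfr, hS.inv s hsl]; exact hs.2), coef_gx hD hS.lin hql hsl (by omega) (by rw [hfq]; exact hs.2)]
    by_cases hsq : s = q
    · subst hsq; simp
    · rw [if_neg (fun e => hsq (hT.rho_inj hsl hql e)), if_neg hsq, map_zero, mul_zero]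
  · have hL := lev_le_Tri (K := K) hD hS.lin hS.closed hh
    rw [map_mul, coef_mul hD hS.lin (hT.rho_lt q hql) hh hfr (hL (hS.sigma_lev hT hD φ ha))
      (hL (hS.sigma_lev hT hD φ hb)), coef_mul hD hS.lin hql hh hfq (hL ha) (hL hb), pa, pb, map_add, mul_add]

theorem coef_iter {h : ℕ} (hh : 1 ≤ h) {r : ℕ} (hr : r ∈ S) (hfr : f r = h) {g : GL D.Idx K}
    (hg : g ∈ lev hD K f S h) (hfix : g ∈ Fix hT φ) :
    ∀ i, coef D (T.rho^[i] r) g = cf T φ r (coef D r g) i
  | 0 => by rw [cf_zero, Function.iterate_zero_apply]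
  | i + 1 => by
    have := hS.coef_sigma hT hD φ hh (hS.iter_mem hr i) (by rw [hS.inv_iter hT (hS.closed.lt r hr) i, hfr]) hg
    rw [mem_Fix.1 hfix] at this
    rw [Function.iterate_succ_apply', this, coef_iter hh hr hfr hg hfix i, cf_succ]

theorem coef_mem_par {h : ℕ} (hh : 1 ≤ h) {r : ℕ} (hrep : r ∈ T.reps) (hr : r ∈ S) (hfr : f r = h)
    {g : GL D.Idx K} (hg : g ∈ lev hD K f S h) (hfix : g ∈ Fix hT φ) :
    (⇑φ)^[T.len r] (coef D r g) = coef D r g := by
  rw [← cf_len hT φ hrep, ← hS.coef_iter hT hD φ hh hr hfr hg hfix, (hT.rep_lt r hrep).2.2.1]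

theorem orb_mem_lev {h : ℕ} {r : ℕ} (hr : r ∈ S) (hfr : (h : ℤ) ≤ f r) (t : K) :
    orb hD T φ r t ∈ lev hD K f S h := by
  refine Subgroup.list_prod_mem _ fun x hx => ?_
  obtain ⟨i, -, rfl⟩ := List.mem_map.1 hx
  exact gx_mem_lev hD (hS.iter_mem hr i) (by rw [hS.inv_iter hT (hS.closed.lt r hr) i]; exact hfr) _

omit hT in
theorem coef_list_prod {ι : Type*} {h : ℕ} (hh : 1 ≤ h) {q : ℕ} (hq : q ∈ S) (hfq : f q = h)
    (F : ι → GL D.Idx K) : ∀ L : List ι, (∀ i ∈ L, F i ∈ lev hD K f S h) →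
      coef D q (L.map F).prod = (L.map fun i => coef D q (F i)).sum
  | [], _ => by simp [coef_one]
  | i :: L, hL => by
    have hl := lev_le_Tri (K := K) hD hS.lin hS.closed hh
    rw [List.map_cons, List.prod_cons, coef_mul hD hS.lin (hS.closed.lt q hq) hh hfq
      (hl (hL i (List.mem_cons_self ..))) (hl (Subgroup.list_prod_mem _ fun x hx => by
        obtain ⟨j, hj, rfl⟩ := List.mem_map.1 hx; exact hL j (List.mem_cons_of_mem _ hj))),
      coef_list_prod hh hq hfq F L fun j hj => hL j (List.mem_cons_of_mem _ hj), List.map_cons, List.sum_cons]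

theorem coef_orb {h : ℕ} (hh : 1 ≤ h) {q r : ℕ} (hq : q ∈ T.reps) (hr : r ∈ T.reps) (hrS : r ∈ S)
    (hqS : q ∈ S) (hfq : f q = h) (hfr : f r = h) (t : K) {i : ℕ} (hi : i < T.len q) :
    coef D (T.rho^[i] q) (orb hD T φ r t) = if r = q then cf T φ r t i else 0 := by
  have hql := hT.iter_lt (hS.closed.lt q hqS) i
  have hfi : f (T.rho^[i] q) = h := by rw [hS.inv_iter hT (hS.closed.lt q hqS) i, hfq]
  rw [orb, hS.coef_list_prod hD hh (hS.iter_mem hqS i) hfi _ _ fun j _ => gx_mem_lev hD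
    (hS.iter_mem hrS j) (by rw [hS.inv_iter hT (hS.closed.lt r hrS) j, hfr]) _]
  have hc : ∀ j, coef D (T.rho^[i] q) (gx hD K (T.rho^[j] r) (cf T φ r t j)) =
      if T.rho^[j] r = T.rho^[i] q then cf T φ r t j else 0 := fun j =>
    coef_gx hD hS.lin hql (hT.iter_lt (hS.closed.lt r hrS) j) (by omega)
      (by rw [hfi, hS.inv_iter hT (hS.closed.lt r hrS) j, hfr]) _
  simp only [hc]
  rw [← List.sum_toFinset _ List.nodup_range, List.toFinset_range]
  split_ifs with hrq
  · subst hrq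
    rw [Finset.sum_eq_single i]
    · simp
    · intro j hj hji
      rw [if_neg fun e => hji (hT.rep_inj r hr r hr j (Finset.mem_range.1 hj) i hi e).2]
    · intro h'; exact absurd (Finset.mem_range.2 hi) h'
  · refine Finset.sum_eq_zero fun j hj => if_neg fun e => hrq ?_
    exact (hT.rep_inj r hr q hq j (Finset.mem_range.1 hj) i hi e).1

/-- The orbit representatives at a level. -/
noncomputable def levReps (T : Twist D) (f : ℕ → ℤ) (S : Set ℕ) (h : ℕ) : Finset ℕ :=
  open Classical in T.reps.toFinset.filter fun r => r ∈ S ∧ f r = h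

omit hS hT in
theorem mem_levReps {h r : ℕ} : r ∈ levReps T f S h ↔ r ∈ T.reps ∧ r ∈ S ∧ f r = h := by
  simp [levReps]

omit hS hT in
/-- A product of orbit elements at a level. -/
noncomputable def levProd (T : Twist D) (f : ℕ → ℤ) (S : Set ℕ) (h : ℕ) (c : ℕ → K) : GL D.Idx K :=
  ((levReps T f S h).toList.map fun r => orb hD T φ r (c r)).prod

theorem levProd_mem {h : ℕ} {c : ℕ → K} (hc : ∀ r ∈ levReps T f S h, (⇑φ)^[T.len r] (c r) = c r) :
    levProd hD φ T f S h c ∈ lev hD K f S h ⊓ Fix hT φ := by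
  refine Subgroup.list_prod_mem _ fun x hx => ?_
  obtain ⟨r, hr, rfl⟩ := List.mem_map.1 hx
  rw [Finset.mem_toList] at hr
  obtain ⟨h1, h2, h3⟩ := mem_levReps.1 hr
  exact ⟨hS.orb_mem_lev hT hD φ h2 h3.ge _, orb_mem_Fix hT hD h1 (hc r hr)⟩

theorem coef_levProd {h : ℕ} (hh : 1 ≤ h) (c : ℕ → K) {q : ℕ} (hq : q ∈ levReps T f S h) {i : ℕ}
    (hi : i < T.len q) :
    coef D (T.rho^[i] q) (levProd hD φ T f S h c) = cf T φ q (c q) i := by
  obtain ⟨hq1, hq2, hq3⟩ := mem_levReps.1 hq
  rw [levProd, hS.coef_list_prod hD hh (hS.iter_mem hq2 i)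
    (by rw [hS.inv_iter hT (hS.closed.lt q hq2) i, hq3]) _ _ fun r hr => ?_]
  · rw [← List.sum_toFinset _ (Finset.nodup_toList _), Finset.toList_toFinset, Finset.sum_eq_single q]
    · rw [hS.coef_orb hT hD φ hh hq1 hq1 hq2 hq2 hq3 hq3 _ hi, if_pos rfl]
    · intro r hr hrq
      obtain ⟨h1, h2, h3⟩ := mem_levReps.1 hr
      rw [hS.coef_orb hT hD φ hh hq1 h1 h2 hq2 hq3 h3 _ hi, if_neg hrq]
    · intro h'; exact absurd hq h'
  · rw [Finset.mem_toList] at hr
    obtain ⟨-, h2, h3⟩ := mem_levReps.1 hr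
    exact hS.orb_mem_lev hT hD φ h2 h3.ge _

omit hT in
theorem coef_lev_succ {h : ℕ} {q : ℕ} (hq : q ∈ S) (hfq : f q = h) (hh : 1 ≤ h) {g : GL D.Idx K}
    (hg : g ∈ lev hD K f S (h + 1)) : coef D q g = 0 := by
  refine UT_induction hD hg (P := fun g => coef D q g = 0) (fun s hs u => ?_) (coef_one q)
    (fun a ha b hb pa pb => ?_)
  · have h2 := hs.2
    push_cast at h2
    rw [coef_gx hD hS.lin (hS.closed.lt q hq) (hS.closed.lt s hs.1) (by omega) (by omega),
      if_neg (fun e => by subst e; omega)]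
  · have hL : lev hD K f S (h + 1) ≤ Tri D K f h :=
      (lev_anti hD f S (Nat.le_succ h)).trans (lev_le_Tri hD hS.lin hS.closed hh)
    rw [coef_mul hD hS.lin (hS.closed.lt q hq) hh hfq (hL ha) (hL hb), pa, pb, add_zero]

/-- An element of level h fixed by σ, less its leading orbit elements, has level h + 1. -/
theorem split {h : ℕ} (hh : 1 ≤ h) {g : GL D.Idx K} (hg : g ∈ lev hD K f S h) (hfix : g ∈ Fix hT φ) :
    (levProd hD φ T f S h fun r => coef D r g)⁻¹ * g ∈ lev hD K f S (h + 1) ⊓ Fix hT φ := by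
  set p := levProd hD φ T f S h fun r => coef D r g with hp
  have hmem : p ∈ lev hD K f S h ⊓ Fix hT φ := hS.levProd_mem hT hD φ fun r hr => by
    obtain ⟨h1, h2, h3⟩ := mem_levReps.1 hr
    exact hS.coef_mem_par hT hD φ hh h1 h2 h3 hg hfix
  refine Subgroup.mem_inf.2 ⟨mem_lev_succ hD hS.lin hS.closed hh
    ((lev hD K f S h).mul_mem ((lev hD K f S h).inv_mem hmem.1) hg) fun q hq hfq => ?_,
    (Fix hT φ).mul_mem ((Fix hT φ).inv_mem hmem.2) hfix⟩
  obtain ⟨r, hr, hrS, i, hi, rfl⟩ := hS.rep_mem hT hq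
  have hrl : r ∈ levReps T f S h := mem_levReps.2 ⟨hr, hrS, by rw [← hfq, hS.inv_iter hT (hS.closed.lt r hrS)]⟩
  have hT' := lev_le_Tri (K := K) hD hS.lin hS.closed hh
  have hql := hS.closed.lt _ hq
  have h1 := coef_mul hD hS.lin hql hh hfq (hT' hmem.1) (hT' (mul_mem (inv_mem hmem.1) hg))
  rw [mul_inv_cancel_left, hp, hS.coef_levProd hT hD φ hh _ hrl hi,
    hS.coef_iter hT hD φ hh hrS (mem_levReps.1 hrl).2.2 hg hfix] at h1
  exact left_eq_add.1 h1

/-- Fixed elements are products of orbit elements. -/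
theorem fix_le {P : Subgroup (GL D.Idx K)}
    (hP : ∀ r ∈ T.reps, r ∈ S → ∀ t, (⇑φ)^[T.len r] t = t → orb hD T φ r t ∈ P) :
    UT hD K S ⊓ Fix hT φ ≤ P := by
  obtain ⟨M, hM⟩ : ∃ M : ℕ, ∀ q ∈ S, f q < M := by
    refine ⟨((Finset.range D.nroots).sup fun q => (f q).toNat) + 1, fun q hq => ?_⟩
    have : (f q).toNat ≤ (Finset.range D.nroots).sup fun q => (f q).toNat :=
      Finset.le_sup (f := fun q => (f q).toNat) (Finset.mem_range.2 (hS.closed.lt q hq))
    omega
  have key : ∀ n h, 1 ≤ h → M ≤ h + n → lev hD K f S h ⊓ Fix hT φ ≤ P := by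
    intro n
    induction n with
    | zero =>
      intro h _ hMh
      rw [lev_succ_eq_bot hD fun q hq => (hM q hq).trans_le (by exact_mod_cast (by omega : M ≤ h))]
      simp
    | succ n ih =>
      rintro h hh hMh g ⟨hg, hfix⟩
      have h1 := ih (h + 1) (by omega) (by omega) (hS.split hT hD φ hh hg hfix)
      have h2 : levProd hD φ T f S h (fun r => coef D r g) ∈ P := by
        refine Subgroup.list_prod_mem _ fun x hx => ?_
        obtain ⟨r, hr, rfl⟩ := List.mem_map.1 hx
        rw [Finset.mem_toList] at hr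
        obtain ⟨a, b, c⟩ := mem_levReps.1 hr
        exact hP r a b _ (hS.coef_mem_par hT hD φ hh a b c hg hfix)
      simpa using mul_mem h2 h1
  have := key M 1 le_rfl (by omega)
  rwa [lev_one hD hS.closed] at this

/-- The number of fixed elements. -/
theorem card_fix [Finite K] [DecidablePred (· ∈ S)] :
    Nat.card ↥(UT hD K S ⊓ Fix hT φ) =
      ∏ r ∈ T.reps.toFinset.filter (· ∈ S), Nat.card (Par T φ r) := by
  classical
  obtain ⟨M, hM⟩ : ∃ M : ℕ, ∀ q ∈ S, f q < M := by
    refine ⟨((Finset.range D.nroots).sup fun q => (f q).toNat) + 1, fun q hq => ?_⟩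
    have : (f q).toNat ≤ (Finset.range D.nroots).sup fun q => (f q).toNat :=
      Finset.le_sup (f := fun q => (f q).toNat) (Finset.mem_range.2 (hS.closed.lt q hq))
    omega
  have key : ∀ n h, 1 ≤ h → M ≤ h + n → Nat.card ↥(lev hD K f S h ⊓ Fix hT φ) =
      ∏ r ∈ T.reps.toFinset.filter fun r => r ∈ S ∧ (h : ℤ) ≤ f r, Nat.card (Par T φ r) := by
    intro n
    induction n with
    | zero =>
      intro h _ hMh
      rw [lev_succ_eq_bot hD fun q hq => (hM q hq).trans_le (by exact_mod_cast (by omega : M ≤ h))]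
      rw [bot_inf_eq, Subgroup.card_bot, Finset.prod_eq_one]
      intro r hr
      obtain ⟨-, hr, hfr⟩ := Finset.mem_filter.1 hr
      have := hM r hr; omega
    | succ n ih =>
      intro h hh hMh
      let Rh := levReps T f S h
      let e : ((r : {r // r ∈ Rh}) → Par T φ r.1) × ↥(lev hD K f S (h + 1) ⊓ Fix hT φ) →
          ↥(lev hD K f S h ⊓ Fix hT φ) := fun x =>
        ⟨levProd hD φ T f S h (fun r => if hr : r ∈ Rh then (x.1 ⟨r, hr⟩).1 else 0) * x.2.1,
          mul_mem (hS.levProd_mem hT hD φ fun r hr => by rw [dif_pos hr]; exact (x.1 ⟨r, hr⟩).2)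
            ⟨lev_anti hD f S (Nat.le_succ h) x.2.2.1, x.2.2.2⟩⟩
      have hco : ∀ x, ∀ r : {r // r ∈ Rh}, coef D r.1 (e x).1 = (x.1 r).1 := by
        rintro x ⟨r, hr⟩
        obtain ⟨h1, h2, h3⟩ := mem_levReps.1 hr
        have hl : levProd hD φ T f S h (fun r => if hr : r ∈ Rh then (x.1 ⟨r, hr⟩).1 else 0) ∈
            lev hD K f S h := (hS.levProd_mem hT hD φ fun r hr => by rw [dif_pos hr]; exact (x.1 ⟨r, hr⟩).2).1
        have hT' := lev_le_Tri (K := K) hD hS.lin hS.closed hh
        show coef D r (_ * _) = _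
        rw [coef_mul hD hS.lin (hS.closed.lt r h2) hh h3 (hT' hl) (hT' (lev_anti hD f S (Nat.le_succ h) x.2.2.1)),
          hS.coef_lev_succ hD h2 h3 hh x.2.2.1, add_zero]
        have h4 := hS.coef_levProd hT hD φ hh (fun r => if hr : r ∈ Rh then (x.1 ⟨r, hr⟩).1 else 0) hr
          (i := 0) (hT.rep_lt r h1).2.1
        rw [Function.iterate_zero_apply, cf_zero] at h4
        rw [h4, dif_pos hr]
      have hbij : Function.Bijective e := by
        refine ⟨fun x y hxy => ?_, fun g => ?_⟩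
        · have h1 : x.1 = y.1 := funext fun r => Subtype.ext (by rw [← hco x r, hxy, hco y r])
          refine Prod.ext h1 (Subtype.ext ?_)
          have h2 := congrArg Subtype.val hxy
          simp only [e, h1] at h2
          exact mul_left_cancel h2
        · refine ⟨(fun r => ⟨coef D r.1 g.1, hS.coef_mem_par hT hD φ hh (mem_levReps.1 r.2).1
            (mem_levReps.1 r.2).2.1 (mem_levReps.1 r.2).2.2 g.2.1 g.2.2⟩,
            ⟨_, hS.split hT hD φ hh g.2.1 g.2.2⟩), Subtype.ext ?_⟩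
          have hl : levProd hD φ T f S h (fun r => if hr : r ∈ Rh then coef D r g.1 else 0) =
              levProd hD φ T f S h (fun r => coef D r g.1) := by
            refine congrArg List.prod (List.map_congr_left fun r hr => ?_)
            simp only [Rh, dif_pos (Finset.mem_toList.1 hr)]
          show levProd hD φ T f S h _ * _ = _
          rw [hl, mul_inv_cancel_left]
      rw [← Nat.card_eq_of_bijective e hbij, Nat.card_prod, Nat.card_pi, ih (h + 1) (by omega) (by omega),
        Finset.prod_coe_sort Rh (fun r => Nat.card (Par T φ r)), ← Finset.prod_union]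
      · refine Finset.prod_congr ?_ fun _ _ => rfl
        ext r
        simp only [Rh, Finset.mem_union, mem_levReps, Finset.mem_filter, List.mem_toFinset]
        push_cast
        constructor
        · rintro (⟨a, b, c⟩ | ⟨a, b, c⟩) <;> exact ⟨a, b, by omega⟩
        · rintro ⟨a, b, c⟩
          by_cases hc : f r = h
          · exact Or.inl ⟨a, b, hc⟩
          · exact Or.inr ⟨a, b, by omega⟩
      · refine Finset.disjoint_left.2 fun r hr hr' => ?_
        have := (mem_levReps.1 hr).2.2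
        have := (Finset.mem_filter.1 hr').2.2
        push_cast at this
        omega
  have h1 := key M 1 le_rfl (by omega)
  rw [lev_one hD hS.closed] at h1
  rw [h1]
  refine Finset.prod_congr ?_ fun _ _ => rfl
  ext r
  simp only [Finset.mem_filter, Nat.cast_one]
  exact ⟨fun h => ⟨h.1, h.2.1⟩, fun h => ⟨h.1, h.2, hS.closed.pos r h.2⟩⟩

end Stable

end Cfsg.Agent.TwistE6D4
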