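/-
The diagram symmetries of E₆ and D₄ with their signs and root orbits; the table conditions are
checked by kernel evaluation.
-/
import Cfsg.Agent.Lib.TwistE6D4.Sigma

set_option autoImplicit false
set_option maxRecDepth 100000

namespace Cfsg.Agent.TwistE6D4

open Cfsg.Lie Cfsg.Lie.ChevalleyDatum

/-- The symmetry of E6 defining the twisted group. -/
def e6Twist : Twist chevE6 where
  pi := (![5, 1, 4, 3, 2, 0] : Fin 6 → Fin 6)
  rho r := ([0, 1, 2, 5, 16, 3, 6, 17, 8, 19, 22, 11, 26, 30, 33, 35, 4, 7, 18, 9, 20, 23, 10, 21, 24, 25, 12, 27, 31, 34, 13, 28, 32, 14, 29, 15, 56, 42, 57, 39, 43, 58, 37, 40, 44, 59, 46, 47, 50, 61, 48, 51, 62, 53, 64, 67, 36, 38, 41, 45, 60, 49, 52, 63, 54, 65, 68, 55, 66, 69, 70, 71] : List ℕ).getD r 0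
  eps r := if r ∈ ([4, 7, 9, 10, 12, 14, 16, 17, 19, 22, 26, 28, 31, 33, 38, 40, 43, 45, 49, 52, 54, 55, 57, 59, 61, 62, 64, 67] : List ℕ) then -1 else 1
  order := 2
  reps := [56, 46, 42, 39, 15, 25, 29, 32, 0, 1, 2, 3, 4, 6, 7, 8, 9, 10, 11, 12, 13, 14, 18, 20, 21, 24, 27, 28, 38, 40, 41, 44, 45, 47, 48, 49, 51, 52, 53, 54, 55, 60, 63, 65, 66, 69, 70, 71]
  len r := ([1, 1, 1, 2, 2, 0, 1, 2, 1, 2, 2, 1, 2, 2, 2, 2, 0, 0, 1, 0, 1, 2, 0, 0, 1, 1, 0, 1, 2, 2, 0, 0, 1, 0, 0, 0, 0, 0, 2, 1, 2, 2, 2, 0, 1, 2, 1, 1, 2, 2, 0, 1, 2, 1, 2, 2, 2, 0, 0, 0, 1, 0, 0, 1, 0, 1, 2, 0, 0, 1, 1, 1] : List ℕ).getD r 0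
  ht r := ([-11, -10, -9, -8, -7, -8, -7, -6, -6, -5, -4, -5, -4, -3, -2, -1, -7, -6, -5, -5, -4, -3, -4, -3, -2, -1, -4, -3, -2, -1, -3, -2, -1, -2, -1, -1, 1, 1, 2, 1, 2, 3, 1, 2, 3, 4, 1, 2, 3, 4, 3, 4, 5, 5, 6, 7, 1, 2, 3, 4, 5, 4, 5, 6, 6, 7, 8, 7, 8, 9, 10, 11] : List ℤ).getD r 0

theorem e6Twist_ok : TwistOK e6Twist where
  order_pos := by decide
  pi_bij := by decide +kernel
  rho_lt := by decide +kernel
  rho_pow := by decide +kernel
  rho_neg := by decide +kernel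
  eps_sq := by decide +kernel
  eps_neg := by decide +kernel
  ht_neg := by decide +kernel
  ht_rho := by decide +kernel
  ht_pos := by decide +kernel
  ht_negR := by decide +kernel
  cartan := by decide +kernel
  coroot := by decide +kernel
  pair := by decide +kernel
  rep_lt := by decide +kernel
  rep_cover := by decide +kernel
  rep_inj := by decide +kernel
  orth := by decide +kernel
  rep_nodup := by decide +kernel

/-- The symmetry of D4 defining the twisted group. -/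
def d4Twist : Twist chevD4 where
  pi := (![2, 1, 3, 0] : Fin 4 → Fin 4)
  rho r := ([0, 1, 6, 2, 7, 10, 3, 8, 4, 9, 11, 5, 18, 12, 14, 19, 15, 20, 13, 16, 21, 17, 22, 23] : List ℕ).getD r 0
  eps r := if r ∈ ([2, 4, 6, 8, 15, 17, 19, 21] : List ℕ) then -1 else 1
  order := 3
  reps := [18, 14, 5, 9, 0, 1, 2, 4, 15, 17, 22, 23]
  len r := ([1, 1, 3, 0, 3, 3, 0, 0, 0, 1, 0, 0, 0, 0, 1, 3, 0, 3, 3, 0, 0, 0, 1, 1] : List ℕ).getD r 0
  ht r := ([-5, -4, -3, -3, -2, -1, -3, -2, -2, -1, -1, -1, 1, 1, 1, 2, 2, 3, 1, 2, 3, 3, 4, 5] : List ℤ).getD r 0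

theorem d4Twist_ok : TwistOK d4Twist where
  order_pos := by decide
  pi_bij := by decide +kernel
  rho_lt := by decide +kernel
  rho_pow := by decide +kernel
  rho_neg := by decide +kernel
  eps_sq := by decide +kernel
  eps_neg := by decide +kernel
  ht_neg := by decide +kernel
  ht_rho := by decide +kernel
  ht_pos := by decide +kernel
  ht_negR := by decide +kernel
  cartan := by decide +kernel
  coroot := by decide +kernel
  pair := by decide +kernel
  rep_lt := by decide +kernel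
  rep_cover := by decide +kernel
  rep_inj := by decide +kernel
  orth := by decide +kernel
  rep_nodup := by decide +kernel

end Cfsg.Agent.TwistE6D4
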