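/-
Orbits of simple roots and the subgroup generated by their fixed root elements.

* `RootOK T node` : table conditions on the orbits of simple roots and the folded reflections `wF`.
* `Ctx D K`       : a datum, a symmetry, the conditions, a field endomorphism.
* `op`, `om`, `ns`: fixed root elements of ±(simple orbit) and n_O(t); `ns_eq`, `ns_mul_ns`, `ns_conj_gx`,
  `ns_conj_theta`; `G0`, `theta_mem_G0`.
* `repOf`, `orbS`, `Uo`, `mem_Uo`.
-/
import Cfsg.Agent.Lib.TwistE6D4.Torus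

set_option autoImplicit false

namespace Cfsg.Agent.TwistE6D4

open Cfsg.Lie Cfsg.Lie.ChevalleyDatum Cfsg.Agent.Chev Matrix
open Cfsg.Agent.ChevSt (IsLin)
open Cfsg.Agent.ChevBN (ng)

variable {D : ChevalleyDatum}

theorem prod_map_mul {M : Type*} [Monoid M] {ι : Type*} (a b : ι → M) :
    ∀ L : List ι, L.Pairwise (fun i j => Commute (b i) (a j)) →
      (L.map fun i => a i * b i).prod = (L.map a).prod * (L.map b).prod
  | [], _ => by simp
  | i :: L, h => by
    obtain ⟨h1, h2⟩ := List.pairwise_cons.1 h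
    have hc : Commute (b i) (L.map a).prod := Commute.list_prod_right _ _ fun x hx => by
      obtain ⟨j, hj, rfl⟩ := List.mem_map.1 hx
      exact h1 j hj
    simp only [List.map_cons, List.prod_cons, prod_map_mul a b L h2]
    rw [mul_assoc, ← mul_assoc (b i), hc.eq]
    simp only [mul_assoc]

theorem range_pairwise {n : ℕ} {R : ℕ → ℕ → Prop} (h : ∀ i < n, ∀ j < n, i ≠ j → R i j) :
    (List.range n).Pairwise R :=
  (List.nodup_range (n := n)).imp_of_mem fun {i j} hi hj hne => h i (List.mem_range.1 hi) j (List.mem_range.1 hj) hne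

/-- The reflection in a list of roots, the last one first. -/
def wL (D : ChevalleyDatum) (L : List ℕ) (q : ℕ) : ℕ := L.foldr (Chev.refl D) q

/-- The folded reflection of a node. -/
def wF (T : Twist D) (i : Fin D.rank) (q : ℕ) : ℕ :=
  wL D ((List.range (T.len (D.simple i.val))).map fun k => T.rho^[k] (D.simple i.val)) q

/-- The conditions on the simple orbits. -/
structure RootOK (T : Twist D) {m : ℕ} (node : Fin m → Fin D.rank) : Prop where
  simple_pi : ∀ i : Fin D.rank, T.rho (D.simple i.val) = D.simple (T.pi i).val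
  rep_simple : ∀ a, D.simple (node a).val ∈ T.reps
  rep_negSimple : ∀ a, D.neg (D.simple (node a).val) ∈ T.reps ∧
    T.len (D.neg (D.simple (node a).val)) = T.len (D.simple (node a).val)
  node_bij : Function.Bijective fun x : Σ a, Fin (T.len (D.simple (node a).val)) => T.pi^[x.2.val] (node x.1)
  eps_one : ∀ a, ∀ k < T.len (D.simple (node a).val), T.eps (T.rho^[k] (D.simple (node a).val)) = 1
  ht_one : ∀ a, T.ht (D.simple (node a).val) = 1
  ht_ne : ∀ r < D.nroots, T.ht r ≠ 0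
  simple_inj : ∀ a b, D.simple (node a).val = D.simple (node b).val → a = b
  orth_neg : ∀ a, ∀ k < T.len (D.simple (node a).val), ∀ l < T.len (D.simple (node a).val), k ≠ l →
    D.commTerms (T.rho^[k] (D.simple (node a).val)) (D.neg (T.rho^[l] (D.simple (node a).val))) = [] ∧
      D.cartan (T.pi^[k] (node a)).val (D.simple (T.pi^[l] (node a)).val) = 0
  wF_pos : ∀ a, ∀ q < D.nroots, 0 < T.ht q →
    (∀ k < T.len (D.simple (node a).val), q ≠ T.rho^[k] (D.simple (node a).val)) → 0 < T.ht (wF T (node a) q)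
  wF_rho : ∀ a, ∀ q < D.nroots, wF T (node a) (T.rho q) = T.rho (wF T (node a) q)
  wF_invol : ∀ a, ∀ q < D.nroots, wF T (node a) (wF T (node a) q) = q
  wF_neg : ∀ a, ∀ q < D.nroots, wF T (node a) (D.neg q) = D.neg (wF T (node a) q)
  wF_simple : ∀ a, wF T (node a) (D.simple (node a).val) = D.neg (D.simple (node a).val)
  reach : ∀ r ∈ T.reps, 0 < T.ht r → (∃ a, r = D.simple (node a).val) ∨
    ∃ a, 0 < T.ht (wF T (node a) r) ∧ T.ht (wF T (node a) r) < T.ht r

/-- A datum with a symmetry and a field endomorphism. -/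
structure Ctx (D : ChevalleyDatum) (K : Type*) [Field K] where
  T : Twist D
  m : ℕ
  node : Fin m → Fin D.rank
  hT : TwistOK T
  hR : RootOK T node
  hD : Good D
  φ : K →+* K

namespace Ctx

variable {K : Type*} [Field K] (C : Ctx D K)

/-- The simple root of an orbit. -/
abbrev p (a : Fin C.m) : ℕ := D.simple (C.node a).val

/-- The size of a simple orbit. -/
def L (a : Fin C.m) : ℕ := C.T.len (C.p a)

/-- The k-th node of an orbit. -/
def nd (a : Fin C.m) (k : ℕ) : Fin D.rank := C.T.pi^[k] (C.node a)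

/-- The k-th root of a simple orbit. -/
def rk (a : Fin C.m) (k : ℕ) : ℕ := C.T.rho^[k] (C.p a)

theorem p_lt (a : Fin C.m) : C.p a < D.nroots := C.hD.simple_lt _ (C.node a).isLt

theorem L_pos (a : Fin C.m) : 0 < C.L a := (C.hT.rep_lt _ (C.hR.rep_simple a)).2.1

theorem rk_lt (a : Fin C.m) (k : ℕ) : C.rk a k < D.nroots := C.hT.iter_lt (C.p_lt a) k

theorem rk_eq (a : Fin C.m) : ∀ k, C.rk a k = D.simple (C.nd a k).val
  | 0 => rfl
  | k + 1 => by
    rw [rk, Function.iterate_succ_apply', show C.T.rho^[k] (C.p a) = D.simple (C.nd a k).val from rk_eq a k,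
      C.hR.simple_pi]
    simp only [nd, Function.iterate_succ_apply']

theorem rk_len (a : Fin C.m) : C.rk a (C.L a) = C.p a := (C.hT.rep_lt _ (C.hR.rep_simple a)).2.2.1

include C in
theorem simple_injective {i j : Fin D.rank} (h : D.simple i.val = D.simple j.val) : i = j := by
  by_contra hne
  have h1 := C.hD.simple_coroot i.val i.isLt i.val i.isLt
  rw [h, C.hD.simple_coroot j.val j.isLt i.val i.isLt, if_pos rfl, if_neg fun e => hne (Fin.ext e)] at h1
  exact zero_ne_one h1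

theorem nd_len (a : Fin C.m) : C.nd a (C.L a) = C.node a :=
  C.simple_injective (by rw [← C.rk_eq, C.rk_len])

theorem neg_rk (a : Fin C.m) : ∀ k, C.T.rho^[k] (D.neg (C.p a)) = D.neg (C.rk a k)
  | 0 => rfl
  | k + 1 => by
    rw [Function.iterate_succ_apply', neg_rk a k, C.hT.rho_neg _ (C.rk_lt a k)]
    simp only [rk, Function.iterate_succ_apply']

theorem rk_inj (a : Fin C.m) {k l : ℕ} (hk : k < C.L a) (hl : l < C.L a) (h : C.rk a k = C.rk a l) : k = l :=
  (C.hT.rep_inj _ (C.hR.rep_simple a) _ (C.hR.rep_simple a) k hk l hl h).2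

/-! ### Powers of φ -/

theorem iter_negInv (k : ℕ) (t : K) : (⇑C.φ)^[k] (-t⁻¹) = -((⇑C.φ)^[k] t)⁻¹ := by
  induction k with
  | zero => rfl
  | succ k ih => simp only [Function.iterate_succ_apply', ih, map_neg, map_inv₀]

/-- φ^k on units. -/
def itU (k : ℕ) : Kˣ →* Kˣ := Units.map ((C.φ ^ k : K →+* K) : K →* K)

@[simp] theorem coe_itU (k : ℕ) (t : Kˣ) : (C.itU k t : K) = (⇑C.φ)^[k] (t : K) := by
  simp [itU, RingHom.coe_pow]

theorem itU_zero (t : Kˣ) : C.itU 0 t = t := Units.ext (by simp)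

theorem itU_succ (k : ℕ) (t : Kˣ) : C.itU (k + 1) t = Units.map (C.φ : K →* K) (C.itU k t) :=
  Units.ext (by simp [Function.iterate_succ_apply'])

theorem itU_neg (k : ℕ) (t : Kˣ) : C.itU k (-t) = -C.itU k t :=
  Units.ext (by simp [← RingHom.coe_pow])

/-- Membership in the parameters of an orbit. -/
def Pm (a : Fin C.m) (t : K) : Prop := (⇑C.φ)^[C.L a] t = t

theorem Pm_neg {a : Fin C.m} {t : K} (h : C.Pm a t) : C.Pm a (-t) := by
  unfold Pm at h ⊢; rw [← RingHom.coe_pow] at h ⊢; rw [map_neg, h]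

theorem Pm_negInv {a : Fin C.m} {t : K} (h : C.Pm a t) : C.Pm a (-t⁻¹) := by
  unfold Pm at h ⊢; rw [C.iter_negInv, h]

theorem Pm_one (a : Fin C.m) : C.Pm a 1 := by unfold Pm; rw [← RingHom.coe_pow, map_one]

/-! ### Elements of a simple orbit -/

/-- The product over an orbit. -/
def oprod (a : Fin C.m) (f : ℕ → GL D.Idx K) : GL D.Idx K := ((List.range (C.L a)).map f).prod

/-- The fixed element of a simple orbit. -/
def op (a : Fin C.m) (t : K) : GL D.Idx K := C.oprod a fun k => gx C.hD K (C.rk a k) ((⇑C.φ)^[k] t)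

/-- The fixed element of the negative of a simple orbit. -/
def om (a : Fin C.m) (t : K) : GL D.Idx K :=
  C.oprod a fun k => gx C.hD K (D.neg (C.rk a k)) ((⇑C.φ)^[k] t)

/-- n_O(t). -/
def ns (a : Fin C.m) (t : K) : GL D.Idx K := C.oprod a fun k => ng C.hD K (C.rk a k) ((⇑C.φ)^[k] t)

theorem esgn_simple (a : Fin C.m) {k : ℕ} (hk : k ≤ C.L a) : esgn C.T (C.p a) k = 1 := by
  refine List.prod_eq_one fun x hx => ?_
  obtain ⟨j, hj, rfl⟩ := List.mem_map.1 hx
  exact C.hR.eps_one a j (lt_of_lt_of_le (List.mem_range.1 hj) hk)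

theorem op_eq (a : Fin C.m) (t : K) : C.op a t = orb C.hD C.T C.φ (C.p a) t := by
  refine congrArg List.prod (List.map_congr_left fun k hk => ?_)
  rw [cf, C.esgn_simple a (List.mem_range.1 hk).le, Int.cast_one, one_mul]
  rfl

theorem om_eq (a : Fin C.m) (t : K) : C.om a t = orb C.hD C.T C.φ (D.neg (C.p a)) t := by
  have hl : C.T.len (D.neg (C.p a)) = C.L a := (C.hR.rep_negSimple a).2
  rw [orb, hl]
  refine congrArg List.prod (List.map_congr_left fun k hk => ?_)
  have hk := List.mem_range.1 hk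
  have he : esgn C.T (D.neg (C.p a)) k = 1 := by
    refine List.prod_eq_one fun x hx => ?_
    obtain ⟨j, hj, rfl⟩ := List.mem_map.1 hx
    rw [C.neg_rk, C.hT.eps_neg _ (C.rk_lt a j)]
    exact C.hR.eps_one a j ((List.mem_range.1 hj).trans hk)
  rw [cf, he, Int.cast_one, one_mul, C.neg_rk]

theorem op_mem_Fix (a : Fin C.m) {t : K} (ht : C.Pm a t) : C.op a t ∈ Fix C.hT C.φ := by
  rw [op_eq]; exact orb_mem_Fix C.hT C.hD (C.hR.rep_simple a) ht

theorem om_mem_Fix (a : Fin C.m) {t : K} (ht : C.Pm a t) : C.om a t ∈ Fix C.hT C.φ := by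
  rw [om_eq]
  refine orb_mem_Fix C.hT C.hD (C.hR.rep_negSimple a).1 ?_
  rwa [(C.hR.rep_negSimple a).2]

theorem commute_pp (a : Fin C.m) {k l : ℕ} (hk : k < C.L a) (hl : l < C.L a) (t u : K) :
    Commute (gx C.hD K (C.rk a k) t) (gx C.hD K (C.rk a l) u) :=
  orbit_commute C.hT C.hD (C.hR.rep_simple a) hk hl t u

theorem commute_mm (a : Fin C.m) {k l : ℕ} (hk : k < C.L a) (hl : l < C.L a) (t u : K) :
    Commute (gx C.hD K (D.neg (C.rk a k)) t) (gx C.hD K (D.neg (C.rk a l)) u) := by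
  rw [← C.neg_rk, ← C.neg_rk]
  have h := (C.hR.rep_negSimple a).2
  exact orbit_commute C.hT C.hD (C.hR.rep_negSimple a).1 (h.symm ▸ hk) (h.symm ▸ hl) t u

theorem commute_pm (a : Fin C.m) {k l : ℕ} (hk : k < C.L a) (hl : l < C.L a) (hkl : k ≠ l) (t u : K) :
    Commute (gx C.hD K (C.rk a k) t) (gx C.hD K (D.neg (C.rk a l)) u) := by
  refine commute_gx C.hD (C.rk_lt a k) (C.hD.neg_lt _ (C.rk_lt a l)) (fun e => hkl ?_)
    (C.hR.orth_neg a k hk l hl hkl).1 t u
  have := congrArg D.neg e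
  rw [C.hD.neg_neg _ (C.rk_lt a k), C.hD.neg_neg _ (C.rk_lt a l)] at this
  exact (C.rk_inj a hl hk this).symm

theorem commute_ng (a : Fin C.m) {k l : ℕ} (hk : k < C.L a) (hl : l < C.L a) (hkl : k ≠ l) (t u : K) :
    Commute (ng C.hD K (C.rk a k) t) (ng C.hD K (C.rk a l) u) := by
  have h1 : ∀ x, Commute (gx C.hD K (C.rk a k) x) (ng C.hD K (C.rk a l) u) := fun x => by
    rw [ng_eq]
    exact ((C.commute_pp a hk hl _ _).mul_right (C.commute_pm a hk hl hkl _ _)).mul_right (C.commute_pp a hk hl _ _)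
  have h2 : ∀ x, Commute (gx C.hD K (D.neg (C.rk a k)) x) (ng C.hD K (C.rk a l) u) := fun x => by
    rw [ng_eq]
    exact ((C.commute_pm a hl hk (Ne.symm hkl) _ _).symm.mul_right (C.commute_mm a hk hl _ _)).mul_right
      (C.commute_pm a hl hk (Ne.symm hkl) _ _).symm
  conv_lhs => rw [ng_eq]
  exact ((h1 _).mul_left (h2 _)).mul_left (h1 _)

theorem ns_eq (a : Fin C.m) (t : K) : C.ns a t = C.op a t * C.om a (-t⁻¹) * C.op a t := by
  simp only [ns, op, om, oprod, C.iter_negInv, ng_eq]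
  rw [prod_map_mul (fun k => gx C.hD K (C.rk a k) ((⇑C.φ)^[k] t) *
      gx C.hD K (D.neg (C.rk a k)) (-((⇑C.φ)^[k] t)⁻¹)) (fun k => gx C.hD K (C.rk a k) ((⇑C.φ)^[k] t)),
    prod_map_mul (fun k => gx C.hD K (C.rk a k) ((⇑C.φ)^[k] t))
      (fun k => gx C.hD K (D.neg (C.rk a k)) (-((⇑C.φ)^[k] t)⁻¹))]
  · exact range_pairwise fun i hi j hj hij => (C.commute_pm a hj hi (Ne.symm hij) _ _).symm
  · exact range_pairwise fun i hi j hj hij =>
      (C.commute_pp a hi hj _ _).mul_right (C.commute_pm a hi hj hij _ _)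

theorem ns_mem_Fix (a : Fin C.m) {t : K} (ht : C.Pm a t) : C.ns a t ∈ Fix C.hT C.φ := by
  rw [ns_eq]
  exact mul_mem (mul_mem (C.op_mem_Fix a ht) (C.om_mem_Fix a (C.Pm_negInv ht))) (C.op_mem_Fix a ht)

/-- The parameters supported on one orbit. -/
def torVec (a : Fin C.m) (t : Kˣ) : Fin D.rank → Kˣ :=
  ((List.range (C.L a)).map fun k => Pi.mulSingle (C.nd a k) (C.itU k t)).prod

theorem ns_mul_ns (a : Fin C.m) (t u : Kˣ) :
    C.ns a (t : K) * C.ns a (u : K) = theta D K (C.torVec a (t * (-u)⁻¹)) := by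
  rw [ns, ns, oprod, oprod, ← prod_map_mul, torVec, map_list_prod, List.map_map]
  · refine congrArg List.prod (List.map_congr_left fun k _ => ?_)
    rw [Function.comp_apply, C.rk_eq, ← C.coe_itU, ← C.coe_itU, ng_mul_ng C.hD]
    simp only [map_mul, map_inv, C.itU_neg]
  · exact range_pairwise fun i hi j hj hij => C.commute_ng a hi hj hij _ _

theorem torVec_one (a : Fin C.m) : C.torVec a 1 = 1 :=
  List.prod_eq_one fun x hx => by obtain ⟨k, -, rfl⟩ := List.mem_map.1 hx; simp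

theorem ns_inv (a : Fin C.m) (t : Kˣ) : (C.ns a (t : K))⁻¹ = C.ns a ((-t : Kˣ) : K) := by
  refine inv_eq_of_mul_eq_one_right ?_
  rw [C.ns_mul_ns, _root_.neg_neg, mul_inv_cancel, torVec_one, map_one]

theorem nd_inj {a b : Fin C.m} {k l : ℕ} (hk : k < C.L a) (hl : l < C.L b) (h : C.nd a k = C.nd b l) :
    a = b ∧ k = l := by
  have h' := C.hR.node_bij.1 (a₁ := ⟨a, ⟨k, hk⟩⟩) (a₂ := ⟨b, ⟨l, hl⟩⟩) h
  cases h'
  exact ⟨rfl, rfl⟩

theorem nd_surj (i : Fin D.rank) : ∃ a k, k < C.L a ∧ C.nd a k = i := by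
  obtain ⟨⟨a, k⟩, h⟩ := C.hR.node_bij.2 i
  exact ⟨a, k.val, k.isLt, h⟩

theorem torVec_apply (a b : Fin C.m) (t : Kˣ) {l : ℕ} (hl : l < C.L b) :
    C.torVec a t (C.nd b l) = if a = b then C.itU l t else 1 := by
  rw [torVec, Pi.list_prod_apply, List.map_map, ← List.prod_toFinset _ List.nodup_range, List.toFinset_range]
  split_ifs with h
  · subst h
    rw [Finset.prod_eq_single l]
    · simp
    · intro k hk hkl
      simp only [Function.comp_apply]
      exact Pi.mulSingle_eq_of_ne (fun e => hkl (C.nd_inj (Finset.mem_range.1 hk) hl e.symm).2) _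
    · intro h'; exact absurd (Finset.mem_range.2 hl) h'
  · refine Finset.prod_eq_one fun k hk => ?_
    simp only [Function.comp_apply]
    exact Pi.mulSingle_eq_of_ne (fun e => h (C.nd_inj (Finset.mem_range.1 hk) hl e.symm).1) _

theorem torVec_mem (a : Fin C.m) {t : Kˣ} (ht : C.Pm a (t : K)) : C.torVec a t ∈ TorSym C.T C.φ := by
  rw [mem_TorSym]
  intro i
  obtain ⟨b, l, hl, rfl⟩ := C.nd_surj i
  have hn : C.T.pi (C.nd b l) = C.nd b (l + 1) := by simp only [nd, Function.iterate_succ_apply']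
  rw [hn, C.torVec_apply a b t hl]
  rcases lt_or_eq_of_le (Nat.succ_le_of_lt hl) with h | h
  · rw [C.torVec_apply a b t h]
    split_ifs
    · exact C.itU_succ l t
    · rw [map_one]
  · rw [show l + 1 = C.L b from h, C.nd_len, show C.node b = C.nd b 0 from rfl,
      C.torVec_apply a b t (C.L_pos b)]
    split_ifs with hab
    · subst hab
      rw [← C.itU_succ, show l + 1 = C.L a from h, C.itU_zero]
      exact Units.ext (by rw [C.coe_itU]; exact ht.symm)
    · rw [map_one]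

theorem coefX_pi {x : Fin D.rank → Kˣ} (hx : x ∈ TorSym C.T C.φ) (i : Fin D.rank) :
    coefX (C.T.pi i) x = Units.map (C.φ : K →* K) (coefX i x) := by
  show ∏ j : Fin D.rank, x j ^ (-D.cartan j.val (D.simple (C.T.pi i).val)) =
    Units.map (C.φ : K →* K) (∏ j : Fin D.rank, x j ^ (-D.cartan j.val (D.simple i.val)))
  rw [map_prod, ← C.hT.pi_bij.prod_comp fun j : Fin D.rank => x j ^ (-D.cartan j.val (D.simple (C.T.pi i).val))]
  refine Finset.prod_congr rfl fun j _ => ?_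
  rw [← C.hR.simple_pi, C.hT.cartan _ (C.hD.simple_lt _ i.isLt) j, map_zpow, hx j]

theorem coefX_nd {x : Fin D.rank → Kˣ} (hx : x ∈ TorSym C.T C.φ) (a : Fin C.m) :
    ∀ k, coefX (C.nd a k) x = C.itU k (coefX (C.node a) x)
  | 0 => (C.itU_zero _).symm
  | k + 1 => by
    rw [show C.nd a (k + 1) = C.T.pi (C.nd a k) by simp only [nd, Function.iterate_succ_apply'],
      C.coefX_pi hx, coefX_nd hx a k, C.itU_succ]

theorem coefX_Pm {x : Fin D.rank → Kˣ} (hx : x ∈ TorSym C.T C.φ) (a : Fin C.m) :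
    C.Pm a (coefX (C.node a) x : K) := by
  have h := C.coefX_nd hx a (C.L a)
  rw [C.nd_len] at h
  unfold Pm
  rw [← C.coe_itU, ← h]

theorem ng_list_conj_theta {ι : Type*} (i : ι → Fin D.rank) (c : ι → K) (hc : ∀ k, c k ≠ 0)
    (x : Fin D.rank → Kˣ) : ∀ L : List ι,
      L.Pairwise (fun k l => D.cartan (i l).val (D.simple (i k).val) = 0) →
      (L.map fun k => ng C.hD K (D.simple (i k).val) (c k)).prod * theta D K x *
          ((L.map fun k => ng C.hD K (D.simple (i k).val) (c k)).prod)⁻¹ =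
        theta D K (x * (L.map fun k => Pi.mulSingle (i k) (coefX (i k) x)).prod)
  | [], _ => by simp
  | k :: L, h => by
    obtain ⟨h1, h2⟩ := List.pairwise_cons.1 h
    simp only [List.map_cons, List.prod_cons, _root_.mul_inv_rev]
    rw [show ∀ n P t : GL D.Idx K, n * P * t * (P⁻¹ * n⁻¹) = n * (P * t * P⁻¹) * n⁻¹ from
      fun n P t => by group, ng_list_conj_theta i c hc x L h2, ng_conj_theta C.hD _ (hc k)]
    have h0 : coefX (i k) (L.map fun l => Pi.mulSingle (i l) (coefX (i l) x)).prod = 1 := by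
      rw [map_list_prod, List.map_map]
      refine List.prod_eq_one fun y hy => ?_
      obtain ⟨l, hl, rfl⟩ := List.mem_map.1 hy
      simp [coefX_single, h1 l hl]
    rw [map_mul (coefX (i k)), h0, mul_one, mul_assoc x, mul_comm (List.prod _)]

theorem ns_conj_theta (a : Fin C.m) {t : K} (ht : t ≠ 0) {x : Fin D.rank → Kˣ} (hx : x ∈ TorSym C.T C.φ) :
    C.ns a t * theta D K x * (C.ns a t)⁻¹ = theta D K (x * C.torVec a (coefX (C.node a) x)) := by
  have hc : ∀ k, (⇑C.φ)^[k] t ≠ 0 := fun k => by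
    rw [← RingHom.coe_pow]; exact fun h => ht ((map_eq_zero _).1 h)
  have h := C.ng_list_conj_theta (fun k => C.nd a k) (fun k => (⇑C.φ)^[k] t) hc x (List.range (C.L a))
    (range_pairwise fun k hk l hl hkl => (C.hR.orth_neg a l hl k hk (Ne.symm hkl)).2)
  simp only [← C.rk_eq] at h
  rw [ns, oprod, h, torVec]
  simp only [C.coefX_nd hx]

theorem ng_list_conj_gx {ι : Type*} (e : ι → ℕ)
    (he : ∀ k, e k < D.nroots) (cc : ι → K) (hcc : ∀ k, cc k ≠ 0) : ∀ (L : List ι) {s : ℕ}, s < D.nroots →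
      ∀ u : K, wL D (L.map e) s < D.nroots ∧ ∃ v : K,
        (L.map fun k => ng C.hD K (e k) (cc k)).prod * gx C.hD K s u *
          ((L.map fun k => ng C.hD K (e k) (cc k)).prod)⁻¹ = gx C.hD K (wL D (L.map e) s) v
  | [], s, hs, u => ⟨hs, u, by simp [wL]⟩
  | k :: L, s, hs, u => by
    obtain ⟨h1, v, hv⟩ := ng_list_conj_gx e he cc hcc L hs u
    refine ⟨ChevSt.refl_lt C.hD (he k) h1,
      (nSign D (e k) (wL D (L.map e) s) : K) * cc k ^ (-D.pairing (e k) (wL D (L.map e) s)) * v, ?_⟩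
    simp only [List.map_cons, List.prod_cons, _root_.mul_inv_rev]
    rw [show ∀ n P t : GL D.Idx K, n * P * t * (P⁻¹ * n⁻¹) = n * (P * t * P⁻¹) * n⁻¹ from
      fun n P t => by group, hv, mul_inv_eq_iff_eq_mul]
    refine Units.ext ?_
    rw [Units.val_mul, Units.val_mul, ChevBN.coe_ng, coe_gx, coe_gx,
      ChevSt.nMat_conj C.hD (he k) h1 (hcc k)]
    rfl

theorem wF_eq (a : Fin C.m) (s : ℕ) : wL D ((List.range (C.L a)).map (C.rk a)) s = wF C.T (C.node a) s := rfl

theorem ns_conj_gx (a : Fin C.m) {t : K} (ht : t ≠ 0) {s : ℕ} (hs : s < D.nroots) (u : K) :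
    wF C.T (C.node a) s < D.nroots ∧
      ∃ v : K, C.ns a t * gx C.hD K s u * (C.ns a t)⁻¹ = gx C.hD K (wF C.T (C.node a) s) v := by
  have hc : ∀ k, (⇑C.φ)^[k] t ≠ 0 := fun k => by
    rw [← RingHom.coe_pow]; exact fun h => ht ((map_eq_zero _).1 h)
  exact C.ng_list_conj_gx (C.rk a) (C.rk_lt a) (fun k => (⇑C.φ)^[k] t) hc
    (List.range (C.L a)) hs u

theorem wF_lt (a : Fin C.m) {s : ℕ} (hs : s < D.nroots) : wF C.T (C.node a) s < D.nroots :=
  (C.ns_conj_gx a (one_ne_zero (α := K)) hs 0).1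

theorem wF_iter (a : Fin C.m) {q : ℕ} (hq : q < D.nroots) :
    ∀ i, wF C.T (C.node a) (C.T.rho^[i] q) = C.T.rho^[i] (wF C.T (C.node a) q)
  | 0 => rfl
  | i + 1 => by
    rw [Function.iterate_succ_apply', C.hR.wF_rho a _ (C.hT.iter_lt hq i), wF_iter a hq i,
      Function.iterate_succ_apply']

/-- The group generated by the fixed elements of the simple orbits and their negatives. -/
def G0 : Subgroup (GL D.Idx K) :=
  Subgroup.closure {g | ∃ a t, C.Pm a t ∧ (g = C.op a t ∨ g = C.om a t)}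

theorem op_mem_G0 (a : Fin C.m) {t : K} (ht : C.Pm a t) : C.op a t ∈ C.G0 :=
  Subgroup.subset_closure ⟨a, t, ht, Or.inl rfl⟩

theorem om_mem_G0 (a : Fin C.m) {t : K} (ht : C.Pm a t) : C.om a t ∈ C.G0 :=
  Subgroup.subset_closure ⟨a, t, ht, Or.inr rfl⟩

theorem ns_mem_G0 (a : Fin C.m) {t : K} (ht : C.Pm a t) : C.ns a t ∈ C.G0 := by
  rw [ns_eq]
  exact mul_mem (mul_mem (C.op_mem_G0 a ht) (C.om_mem_G0 a (C.Pm_negInv ht))) (C.op_mem_G0 a ht)

theorem G0_le_Fix : C.G0 ≤ Fix C.hT C.φ := by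
  refine (Subgroup.closure_le _).2 ?_
  rintro g ⟨a, t, ht, rfl | rfl⟩
  · exact C.op_mem_Fix a ht
  · exact C.om_mem_Fix a ht

theorem theta_mem_G0 {x : Fin D.rank → Kˣ} (hx : x ∈ TorSym C.T C.φ) : theta D K x ∈ C.G0 := by
  have hval : ∀ (a : Fin C.m) k, x (C.nd a k) = C.itU k (x (C.node a)) := by
    intro a k
    induction k with
    | zero => exact (C.itU_zero _).symm
    | succ k ih =>
      rw [show C.nd a (k + 1) = C.T.pi (C.nd a k) by simp only [nd, Function.iterate_succ_apply'],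
        hx, ih, C.itU_succ]
  have e : x = ∏ a, C.torVec a (x (C.node a)) := by
    funext i
    obtain ⟨b, l, hl, rfl⟩ := C.nd_surj i
    rw [Finset.prod_apply, Finset.prod_eq_single b]
    · rw [C.torVec_apply b b _ hl, if_pos rfl, hval]
    · intro a _ hab; rw [C.torVec_apply a b _ hl, if_neg hab]
    · simp
  rw [e]
  show _ ∈ C.G0.comap (theta D K)
  refine Subgroup.prod_mem _ fun a _ => ?_
  show theta D K (C.torVec a (x (C.node a))) ∈ C.G0
  have ht : C.Pm a (x (C.node a) : K) := by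
    have h := hval a (C.L a)
    rw [C.nd_len] at h
    unfold Pm
    rw [← C.coe_itU, ← h]
  rw [show x (C.node a) = x (C.node a) * (-(-1 : Kˣ))⁻¹ by simp, ← C.ns_mul_ns]
  exact mul_mem (C.ns_mem_G0 a ht) (C.ns_mem_G0 a (by simpa using C.Pm_neg (C.Pm_one a)))

/-! ### Orbits of roots -/

/-- The orbit of a root. -/
def orbS (r : ℕ) : Set ℕ := {q | ∃ i < C.T.len r, C.T.rho^[i] r = q}

/-- The representative of the orbit of a root. -/
def repOf (q : ℕ) : ℕ :=
  (C.T.reps.find? fun r => decide (∃ i < C.T.len r, C.T.rho^[i] r = q)).getD 0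

theorem repOf_spec {q : ℕ} (hq : q < D.nroots) : C.repOf q ∈ C.T.reps ∧ q ∈ C.orbS (C.repOf q) := by
  obtain ⟨r, hr, i, hi, e⟩ := C.hT.rep_cover q hq
  unfold repOf
  cases h : C.T.reps.find? fun r => decide (∃ i < C.T.len r, C.T.rho^[i] r = q) with
  | none =>
    rw [List.find?_eq_none] at h
    exact absurd (decide_eq_true ⟨i, hi, e⟩) (h r hr)
  | some r' =>
    have h' := List.find?_some h
    exact ⟨List.mem_of_find?_eq_some h, (of_decide_eq_true h' : ∃ i < C.T.len r', C.T.rho^[i] r' = q)⟩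

theorem repOf_eq {r q : ℕ} (hr : r ∈ C.T.reps) (hq : q ∈ C.orbS r) : C.repOf q = r := by
  obtain ⟨i, hi, rfl⟩ := hq
  obtain ⟨h1, j, hj, e⟩ := C.repOf_spec (C.hT.iter_lt (C.hT.rep_lt r hr).1 i)
  exact (C.hT.rep_inj _ h1 r hr j hj i hi e).1

theorem repOf_self {r : ℕ} (hr : r ∈ C.T.reps) : C.repOf r = r :=
  C.repOf_eq hr ⟨0, (C.hT.rep_lt r hr).2.1, rfl⟩

theorem orbS_lt {r q : ℕ} (hr : r ∈ C.T.reps) (hq : q ∈ C.orbS r) : q < D.nroots := by
  obtain ⟨i, -, rfl⟩ := hq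
  exact C.hT.iter_lt (C.hT.rep_lt r hr).1 i

theorem orbS_stable {r q : ℕ} (hr : r ∈ C.T.reps) (hq : q ∈ C.orbS r) : C.T.rho q ∈ C.orbS r := by
  obtain ⟨i, hi, rfl⟩ := hq
  rcases lt_or_eq_of_le (Nat.succ_le_of_lt hi) with h | h
  · exact ⟨i + 1, h, by rw [Function.iterate_succ_apply']⟩
  · exact ⟨0, (C.hT.rep_lt r hr).2.1, by
      rw [← Function.iterate_succ_apply' C.T.rho, show i.succ = C.T.len r from h, (C.hT.rep_lt r hr).2.2.1]; rfl⟩

theorem orbS_iter {r q : ℕ} (hr : r ∈ C.T.reps) (hq : q ∈ C.orbS r) : ∀ i, C.T.rho^[i] q ∈ C.orbS r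
  | 0 => hq
  | i + 1 => by rw [Function.iterate_succ_apply']; exact C.orbS_stable hr (orbS_iter hr hq i)

theorem repOf_rho {q : ℕ} (hq : q < D.nroots) (i : ℕ) : C.repOf (C.T.rho^[i] q) = C.repOf q :=
  C.repOf_eq (C.repOf_spec hq).1 (C.orbS_iter (C.repOf_spec hq).1 (C.repOf_spec hq).2 i)

theorem ht_repOf {q : ℕ} (hq : q < D.nroots) : C.T.ht (C.repOf q) = C.T.ht q := by
  obtain ⟨h1, i, -, e⟩ := C.repOf_spec hq
  conv_rhs => rw [← e]
  rw [C.hT.ht_iter (C.hT.rep_lt _ h1).1 i]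

/-- The weight positive on an orbit. -/
def fOf (r : ℕ) : ℕ → ℤ := fun q => if 0 < C.T.ht r then C.T.ht q else -C.T.ht q

theorem orbS_ok {r : ℕ} (hr : r ∈ C.T.reps) : Stable C.T (C.fOf r) (C.orbS r) := by
  have hr' := (C.hT.rep_lt r hr).1
  have hne := C.hR.ht_ne r hr'
  refine ⟨?_, ⟨fun q hq => C.orbS_lt hr hq, ?_, ?_⟩, ?_, fun q hq => C.orbS_stable hr hq⟩
  · by_cases h : 0 < C.T.ht r
    · rw [show C.fOf r = C.T.ht from funext fun q => if_pos h]; exact C.hT.isLin_ht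
    · rw [show C.fOf r = fun q => -C.T.ht q from funext fun q => if_neg h]; exact C.hT.isLin_neg_ht
  · rintro q ⟨i, -, rfl⟩
    simp only [fOf, C.hT.ht_iter hr']
    split_ifs <;> omega
  · rintro q ⟨i, hi, rfl⟩ s ⟨j, hj, rfl⟩ hsr τ hτ
    have hij : i ≠ j := fun e => hsr (e ▸ rfl)
    rw [(C.hT.orth r hr i hi j hj hij).2] at hτ
    cases hτ
  · intro q hq
    simp only [fOf, C.hT.ht_rho q hq]

/-- The root subgroup of an orbit. -/
def Uo (r : ℕ) : Subgroup (GL D.Idx K) := UT C.hD K (C.orbS r) ⊓ Fix C.hT C.φ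

theorem orb_add {r : ℕ} (hr : r ∈ C.T.reps) (t u : K) :
    orb C.hD C.T C.φ r (t + u) = orb C.hD C.T C.φ r t * orb C.hD C.T C.φ r u := by
  have h : ∀ i, gx C.hD K (C.T.rho^[i] r) (cf C.T C.φ r (t + u) i) =
      gx C.hD K (C.T.rho^[i] r) (cf C.T C.φ r t i) * gx C.hD K (C.T.rho^[i] r) (cf C.T C.φ r u i) := fun i => by
    rw [← gx_add, cf, cf, cf, ← RingHom.coe_pow, map_add, mul_add]
  simp only [orb, h]
  exact prod_map_mul _ _ _ (range_pairwise fun i hi j hj _ => orbit_commute C.hT C.hD hr hi hj _ _)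

theorem orb_zero (r : ℕ) : orb C.hD C.T C.φ r (0 : K) = 1 :=
  List.prod_eq_one fun x hx => by
    obtain ⟨i, -, rfl⟩ := List.mem_map.1 hx
    rw [cf, ← RingHom.coe_pow, map_zero, mul_zero, gx_zero]

theorem orb_mem_Uo {r : ℕ} (hr : r ∈ C.T.reps) {t : K} (ht : (⇑C.φ)^[C.T.len r] t = t) :
    orb C.hD C.T C.φ r t ∈ C.Uo r := by
  refine ⟨Subgroup.list_prod_mem _ fun x hx => ?_, orb_mem_Fix C.hT C.hD hr ht⟩
  obtain ⟨i, hi, rfl⟩ := List.mem_map.1 hx
  exact gx_mem_UT C.hD (T := C.orbS r) ⟨i, List.mem_range.1 hi, rfl⟩ _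

theorem mem_Uo {r : ℕ} (hr : r ∈ C.T.reps) {g : GL D.Idx K} (hg : g ∈ C.Uo r) :
    ∃ t, (⇑C.φ)^[C.T.len r] t = t ∧ g = orb C.hD C.T C.φ r t := by
  let P : Subgroup (GL D.Idx K) :=
    { carrier := {g | ∃ t, (⇑C.φ)^[C.T.len r] t = t ∧ g = orb C.hD C.T C.φ r t}
      one_mem' := ⟨0, by rw [← RingHom.coe_pow, map_zero], (C.orb_zero r).symm⟩
      mul_mem' := by
        rintro _ _ ⟨t, ht, rfl⟩ ⟨u, hu, rfl⟩
        exact ⟨t + u, by rw [← RingHom.coe_pow, map_add, RingHom.coe_pow, ht, hu], (C.orb_add hr t u).symm⟩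
      inv_mem' := by
        rintro _ ⟨t, ht, rfl⟩
        refine ⟨-t, by rw [← RingHom.coe_pow, map_neg, RingHom.coe_pow, ht], inv_eq_of_mul_eq_one_right ?_⟩
        rw [← C.orb_add hr, add_neg_cancel, orb_zero] }
  refine (C.orbS_ok hr).fix_le C.hT C.hD C.φ (P := P) (fun s hs hsS t ht => ?_) hg
  obtain rfl : s = r := by rw [← C.repOf_eq hr hsS, C.repOf_self hs]
  exact ⟨t, ht, rfl⟩

end Ctx

end Cfsg.Agent.TwistE6D4
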