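/-
The simple orbits of ²E₆ and ³D₄; the table conditions are checked by kernel evaluation.
-/
import Cfsg.Agent.Lib.TwistE6D4.Orbit
import Cfsg.Agent.Lib.TwistE6D4.Data

set_option autoImplicit false
set_option maxRecDepth 100000

namespace Cfsg.Agent.TwistE6D4

open Cfsg.Lie Cfsg.Lie.ChevalleyDatum

/-- The nodes representing the orbits {p₂}, {p₄}, {p₃, p₅}, {p₁, p₆}. -/
def e6Node : Fin 4 → Fin chevE6.rank := (![1, 3, 2, 0] : Fin 4 → Fin 6)

theorem e6Root_ok : RootOK e6Twist e6Node where
  simple_pi := by decide +kernel
  rep_simple := by decide +kernel
  rep_negSimple := by decide +kernel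
  node_bij := by decide +kernel
  eps_one := by decide +kernel
  ht_one := by decide +kernel
  ht_ne := by decide +kernel
  simple_inj := by decide +kernel
  orth_neg := by decide +kernel
  wF_pos := by decide +kernel
  wF_rho := by decide +kernel
  wF_invol := by decide +kernel
  wF_neg := by decide +kernel
  wF_simple := by decide +kernel
  reach := by decide +kernel

/-- The nodes representing the orbits {p₁, p₃, p₄}, {p₂}. -/
def d4Node : Fin 2 → Fin chevD4.rank := (![0, 1] : Fin 2 → Fin 4)

theorem d4Root_ok : RootOK d4Twist d4Node where
  simple_pi := by decide +kernel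
  rep_simple := by decide +kernel
  rep_negSimple := by decide +kernel
  node_bij := by decide +kernel
  eps_one := by decide +kernel
  ht_one := by decide +kernel
  ht_ne := by decide +kernel
  simple_inj := by decide +kernel
  orth_neg := by decide +kernel
  wF_pos := by decide +kernel
  wF_rho := by decide +kernel
  wF_invol := by decide +kernel
  wF_neg := by decide +kernel
  wF_simple := by decide +kernel
  reach := by decide +kernel

end Cfsg.Agent.TwistE6D4
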