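/-
Root group data of the group generated by the fixed root elements of the simple orbits, and the
identification of its subgroups with intersections with those of the Chevalley group.

* `rgd C`, `rgd_G` (= `G0`), `pos_inf_G0`, `borel_inf_G0`, `monomial_inf_G0`, `diagonal_inf_G0`.
-/
import Cfsg.Agent.Lib.TwistE6D4.Orbit
import Cfsg.Agent.Lib.ChevBN.Instance

set_option autoImplicit false

namespace Cfsg.Agent.TwistE6D4

open Cfsg.Lie Cfsg.Lie.ChevalleyDatum Cfsg.Agent.Chev Matrix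
open Cfsg.Agent.ChevSt (IsLin)
open Cfsg.Agent.ChevBN (ng dg)

variable {D : ChevalleyDatum} {K : Type*} [Field K]

theorem eq_one_of_tri_diag {f : ℕ → ℤ} {x : Fin D.rank → Kˣ} (h : theta D K x ∈ Tri D K f 1) :
    theta D K x = 1 := by
  refine Units.ext (Matrix.ext fun a b => ?_)
  by_cases hab : a = b
  · subst hab
    exact mem_Tri h (by omega)
  · rw [coe_theta, Units.val_one, dg, Matrix.diagonal_apply_ne _ hab, Matrix.one_apply_ne hab]

theorem mem_BTri_of_diag {f : ℕ → ℤ} (hD : Good D) {g : GL D.Idx K} (hg : g ∈ D.diagonalSubgroup K) :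
    g ∈ BTri D K f := by
  intro a b hab
  have hne : a ≠ b := fun e => by subst e; omega
  obtain ⟨χ, hχ, -⟩ := ChevBN.isToral_of_mem hD hg
  obtain ⟨ψ, hψ, -⟩ := ChevBN.isToral_of_mem hD (inv_mem hg)
  exact ⟨by rw [hχ, dg, Matrix.diagonal_apply_ne _ hne], by rw [hψ, dg, Matrix.diagonal_apply_ne _ hne]⟩

namespace Ctx

variable (C : Ctx D K)

/-- The positive roots. -/
def posSet : Set ℕ := {q | q < D.nroots ∧ 0 < C.T.ht q}

/-- The negative roots. -/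
def negSet : Set ℕ := {q | q < D.nroots ∧ C.T.ht q < 0}

/-- The positive roots outside a simple orbit. -/
def delSet (a : Fin C.m) : Set ℕ := {q | q < D.nroots ∧ 0 < C.T.ht q ∧ q ∉ C.orbS (C.p a)}

include C in
theorem closed_of_ht {S : Set ℕ} {f : ℕ → ℤ} (hf : IsLin D f) (hlt : ∀ q ∈ S, q < D.nroots)
    (hpos : ∀ q ∈ S, 0 < f q) (h : ∀ q < D.nroots, 1 < f q → q ∈ S) : PosClosed D f S := by
  refine ⟨hlt, hpos, fun r hr s hs hsr τ hτ => ?_⟩
  have hneg : s ≠ D.neg r := fun e => by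
    have h1 := hpos s hs; rw [e, hf.neg r (hlt r hr)] at h1; have := hpos r hr; omega
  obtain ⟨h1, h4, h5, h6⟩ := hf.commTerms C.hD (hlt r hr) (hlt s hs) hsr hneg hτ
  refine h _ h1 ?_
  rw [h6]
  have a1 : f r ≤ (τ.2.2.1 : ℤ) * f r := le_mul_of_one_le_left (hpos r hr).le (by exact_mod_cast h4)
  have a2 : f s ≤ (τ.2.2.2 : ℤ) * f s := le_mul_of_one_le_left (hpos s hs).le (by exact_mod_cast h5)
  have := hpos r hr; have := hpos s hs
  omega

theorem posSet_ok : Stable C.T C.T.ht C.posSet :=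
  ⟨C.hT.isLin_ht, C.closed_of_ht C.hT.isLin_ht (fun _ h => h.1) (fun _ h => h.2) fun q hq h => ⟨hq, by omega⟩,
    C.hT.ht_rho, fun q hq => ⟨C.hT.rho_lt q hq.1, by rw [C.hT.ht_rho q hq.1]; exact hq.2⟩⟩

theorem negSet_ok : Stable C.T (fun q => -C.T.ht q) C.negSet :=
  ⟨C.hT.isLin_neg_ht, C.closed_of_ht C.hT.isLin_neg_ht (fun _ h => h.1) (fun q h => by have := h.2; omega)
    fun q hq h => ⟨hq, by omega⟩, fun q hq => by simp [C.hT.ht_rho q hq],
    fun q hq => ⟨C.hT.rho_lt q hq.1, by rw [C.hT.ht_rho q hq.1]; exact hq.2⟩⟩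

theorem ht_orb {a : Fin C.m} {q : ℕ} (hq : q ∈ C.orbS (C.p a)) : C.T.ht q = 1 := by
  obtain ⟨i, -, rfl⟩ := hq
  rw [C.hT.ht_iter (C.p_lt a), show C.p a = D.simple (C.node a).val from rfl, C.hR.ht_one]

theorem delSet_ok (a : Fin C.m) : Stable C.T C.T.ht (C.delSet a) := by
  refine ⟨C.hT.isLin_ht, C.closed_of_ht C.hT.isLin_ht (fun _ h => h.1) (fun _ h => h.2.1)
    fun q hq h => ⟨hq, by omega, fun h' => by rw [C.ht_orb h'] at h; omega⟩, C.hT.ht_rho, fun q hq => ?_⟩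
  refine ⟨C.hT.rho_lt q hq.1, by rw [C.hT.ht_rho q hq.1]; exact hq.2.1, fun h => hq.2.2 ?_⟩
  have hp := C.hR.rep_simple a
  have h' : C.repOf q = C.p a := by
    rw [← C.repOf_rho hq.1 1]; exact C.repOf_eq hp h
  exact h' ▸ (C.repOf_spec hq.1).2

theorem repOf_neg {q : ℕ} (hq : q < D.nroots) : C.repOf (D.neg (C.repOf q)) = C.repOf (D.neg q) := by
  obtain ⟨h1, i, -, e⟩ := C.repOf_spec hq
  have hr := (C.hT.rep_lt _ h1).1
  have hn : ∀ j, C.T.rho^[j] (D.neg (C.repOf q)) = D.neg (C.T.rho^[j] (C.repOf q)) := by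
    intro j
    induction j with
    | zero => rfl
    | succ j ih =>
      rw [Function.iterate_succ_apply', ih, C.hT.rho_neg _ (C.hT.iter_lt hr j), Function.iterate_succ_apply']
  conv_rhs => rw [← e, ← hn, C.repOf_rho (C.hD.neg_lt _ hr)]

theorem repOf_wF (a : Fin C.m) {q : ℕ} (hq : q < D.nroots) :
    C.repOf (wF C.T (C.node a) (C.repOf q)) = C.repOf (wF C.T (C.node a) q) := by
  obtain ⟨h1, i, -, e⟩ := C.repOf_spec hq
  have hr := (C.hT.rep_lt _ h1).1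
  conv_rhs => rw [← e, C.wF_iter a hr, C.repOf_rho (C.wF_lt a hr)]

theorem UT_orbS_conj_del (a : Fin C.m) {x z : GL D.Idx K} (hx : x ∈ UT C.hD K (C.orbS (C.p a)))
    (hz : z ∈ UT C.hD K (C.delSet a)) : x * z * x⁻¹ ∈ UT C.hD K (C.delSet a) := by
  revert z
  refine UT_induction C.hD hx (P := fun x => ∀ {z}, z ∈ UT C.hD K (C.delSet a) →
    x * z * x⁻¹ ∈ UT C.hD K (C.delSet a)) (fun q hq u => ?_) (fun hz => by simpa using hz)
    (fun x _ y _ px py z hz => ?_)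
  · intro z hz
    refine UT_induction C.hD hz (P := fun z => gx C.hD K q u * z * (gx C.hD K q u)⁻¹ ∈ UT C.hD K (C.delSet a))
      (fun s hs v => ?_) (by simp [one_mem]) (fun b _ c _ pb pc => ?_)
    · have hql : q < D.nroots := C.orbS_lt (C.hR.rep_simple a) hq
      have hh : ((1 : ℕ) : ℤ) < C.T.ht q + C.T.ht s := by rw [C.ht_orb hq]; have := hs.2.1; push_cast; omega
      obtain ⟨w, hw, e⟩ := gx_swap (K := K) C.hD C.hT.isLin_ht C.posSet_ok.closed (h := 1)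
        (r := q) (s := s) ⟨hql, by rw [C.ht_orb hq]; norm_num⟩ ⟨hs.1, hs.2.1⟩ hh (-u) v
      have e' : gx C.hD K q u * gx C.hD K s v * (gx C.hD K q u)⁻¹ = gx C.hD K s v * w := by
        rw [← e, gx_inv, gx_inv, _root_.neg_neg]
      rw [e']
      refine mul_mem (gx_mem_UT C.hD hs v) (UT_mono C.hD (fun p hp => ?_) hw)
      have h2 := hp.2
      push_cast at h2
      exact ⟨hp.1.1, hp.1.2, fun h' => by rw [C.ht_orb h'] at h2; omega⟩
    · have := mul_mem pb pc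
      rwa [show gx C.hD K q u * b * (gx C.hD K q u)⁻¹ * (gx C.hD K q u * c * (gx C.hD K q u)⁻¹) =
        gx C.hD K q u * (b * c) * (gx C.hD K q u)⁻¹ by group] at this
  · rw [show x * y * z * (x * y)⁻¹ = x * (y * z * y⁻¹) * x⁻¹ by group]
    exact px (py hz)

/-- Orbits of roots. -/
abbrev Orb : Type := {r // r ∈ C.T.reps}

theorem orb_lt (r : C.Orb) : r.1 < D.nroots := (C.hT.rep_lt r.1 r.2).1

/-- The orbit containing a root. -/
def orbOf {q : ℕ} (hq : q < D.nroots) : C.Orb := ⟨C.repOf q, (C.repOf_spec hq).1⟩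

theorem Uo_le_span (A : Set C.Orb) {S : Set ℕ} {f : ℕ → ℤ} (hS : Stable C.T f S)
    (h : ∀ r : C.Orb, r.1 ∈ S → r ∈ A) : UT C.hD K S ⊓ Fix C.hT C.φ ≤ ⨆ r ∈ A, C.Uo r.1 :=
  hS.fix_le C.hT C.hD C.φ fun r hr hrS t ht =>
    (le_biSup (fun r : C.Orb => C.Uo r.1) (h ⟨r, hr⟩ hrS)) (C.orb_mem_Uo hr ht)

theorem span_le_UT (A : Set C.Orb) {S : Set ℕ} (h : ∀ r ∈ A, C.orbS r.1 ⊆ S) :
    (⨆ r ∈ A, C.Uo r.1) ≤ UT C.hD K S ⊓ Fix C.hT C.φ :=
  iSup₂_le fun r hr => inf_le_inf_right _ (UT_mono C.hD (h r hr))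

theorem orbS_pos {r : C.Orb} {q : ℕ} (hq : q ∈ C.orbS r.1) : q < D.nroots ∧ C.T.ht q = C.T.ht r.1 := by
  obtain ⟨i, -, rfl⟩ := hq
  exact ⟨C.hT.iter_lt (C.orb_lt r) i, C.hT.ht_iter (C.orb_lt r) i⟩

theorem UT_pos_le_Tri : UT C.hD K C.posSet ≤ Tri D K C.T.ht 1 :=
  UT_le C.hD fun q hq t => gx_mem_Tri C.hD C.hT.isLin_ht hq.1 (by have := hq.2; push_cast; omega) le_rfl t

theorem UT_neg_le_Tri : UT C.hD K C.negSet ≤ Tri D K (fun q => -C.T.ht q) 1 :=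
  UT_le C.hD fun q hq t => gx_mem_Tri C.hD C.hT.isLin_neg_ht hq.1 (by have := hq.2; push_cast; omega) le_rfl t

/-- The torus. -/
def H0 : Subgroup (GL D.Idx K) := (TorSym C.T C.φ).map (theta D K)

theorem H0_le_diagonal : C.H0 ≤ D.diagonalSubgroup K := by
  rintro _ ⟨x, -, rfl⟩; exact theta_mem_diagonal C.hD x

theorem H0_le_G0 : C.H0 ≤ C.G0 := by rintro _ ⟨x, hx, rfl⟩; exact C.theta_mem_G0 hx

theorem ns_mul_ns_mem (a : Fin C.m) {t u : Kˣ} (ht : C.Pm a (t : K)) (hu : C.Pm a (u : K)) :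
    C.ns a (t : K) * C.ns a (u : K) ∈ C.H0 := by
  rw [C.ns_mul_ns]
  refine ⟨_, C.torVec_mem a ?_, rfl⟩
  have h1 : C.itU (C.L a) t = t := Units.ext (by rw [C.coe_itU]; exact ht)
  have h2 : C.itU (C.L a) u = u := Units.ext (by rw [C.coe_itU]; exact hu)
  unfold Pm
  rw [← C.coe_itU, map_mul, map_inv, C.itU_neg, h1, h2]

theorem op_inv (a : Fin C.m) (t : K) : (C.op a t)⁻¹ = C.op a (-t) := by
  refine inv_eq_of_mul_eq_one_right ?_
  rw [C.op_eq, C.op_eq, ← C.orb_add (C.hR.rep_simple a), add_neg_cancel, C.orb_zero]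

/-- The root group data. -/
def rgd : RGD.RootData (GL D.Idx K) C.Orb (Fin C.m) where
  U r := C.Uo r.1
  H := C.H0
  n a := C.ns a 1
  simple a := ⟨C.p a, C.hR.rep_simple a⟩
  pos r := 0 < C.T.ht r.1
  neg r := C.orbOf (C.hD.neg_lt r.1 (C.orb_lt r))
  w a r := C.orbOf (C.wF_lt a (C.orb_lt r))
  neg_neg r := Subtype.ext (by
    show C.repOf (D.neg (C.repOf (D.neg r.1))) = r.1
    rw [C.repOf_neg (C.hD.neg_lt r.1 (C.orb_lt r)), C.hD.neg_neg r.1 (C.orb_lt r), C.repOf_self r.2])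
  pos_neg r := by
    show 0 < C.T.ht (C.repOf (D.neg r.1)) ↔ _
    have := C.hR.ht_ne r.1 (C.orb_lt r)
    rw [C.ht_repOf (C.hD.neg_lt r.1 (C.orb_lt r)), C.hT.ht_neg r.1 (C.orb_lt r)]
    omega
  pos_simple a := by show 0 < C.T.ht (D.simple (C.node a).val); rw [C.hR.ht_one]; norm_num
  simple_inj a b h := C.hR.simple_inj a b (congrArg Subtype.val h)
  w_simple a := Subtype.ext (by
    show C.repOf (wF C.T (C.node a) (C.p a)) = C.repOf (D.neg (C.p a))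
    rw [show C.p a = D.simple (C.node a).val from rfl, C.hR.wF_simple])
  w_pos a r hr hne := by
    show 0 < C.T.ht (C.repOf (wF C.T (C.node a) r.1))
    rw [C.ht_repOf (C.wF_lt a (C.orb_lt r))]
    refine C.hR.wF_pos a r.1 (C.orb_lt r) hr fun k hk e => hne (Subtype.ext ?_)
    rw [← C.repOf_self r.2]
    exact C.repOf_eq (C.hR.rep_simple a) ⟨k, hk, e.symm⟩
  w_neg a r := Subtype.ext (by
    show C.repOf (wF C.T (C.node a) (C.repOf (D.neg r.1))) = C.repOf (D.neg (C.repOf (wF C.T (C.node a) r.1)))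
    rw [C.repOf_wF a (C.hD.neg_lt r.1 (C.orb_lt r)), C.repOf_neg (C.wF_lt a (C.orb_lt r)),
      C.hR.wF_neg a r.1 (C.orb_lt r)])
  w_w a r := Subtype.ext (by
    show C.repOf (wF C.T (C.node a) (C.repOf (wF C.T (C.node a) r.1))) = r.1
    rw [C.repOf_wF a (C.wF_lt a (C.orb_lt r)), C.hR.wF_invol a r.1 (C.orb_lt r), C.repOf_self r.2])
  H_conj_U := by
    rintro _ ⟨x, hx, rfl⟩ r y ⟨hy, hyF⟩
    have hxF : theta D K x ∈ Fix C.hT C.φ := mem_Fix.2 (sigma_theta C.hT hx)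
    refine ⟨?_, (Fix C.hT C.φ).mul_mem ((Fix C.hT C.φ).mul_mem hxF hyF) ((Fix C.hT C.φ).inv_mem hxF)⟩
    refine UT_induction C.hD hy (P := fun y => theta D K x * y * (theta D K x)⁻¹ ∈ UT C.hD K (C.orbS r.1))
      (fun q hq u => ?_) (by simp [one_mem]) (fun b _ c _ pb pc => ?_)
    · rw [theta_conj_gx C.hD x (C.orbS_lt r.2 hq)]
      exact gx_mem_UT C.hD hq _
    · have := mul_mem pb pc
      rwa [show theta D K x * b * (theta D K x)⁻¹ * (theta D K x * c * (theta D K x)⁻¹) =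
        theta D K x * (b * c) * (theta D K x)⁻¹ by group] at this
  n_conj_U a r y := by
    rintro ⟨hy, hyF⟩
    have hnF := C.ns_mem_Fix a (C.Pm_one a)
    refine ⟨?_, (Fix C.hT C.φ).mul_mem ((Fix C.hT C.φ).mul_mem hnF hyF) ((Fix C.hT C.φ).inv_mem hnF)⟩
    refine UT_induction C.hD hy (P := fun y => C.ns a 1 * y * (C.ns a 1)⁻¹ ∈
      UT C.hD K (C.orbS (C.repOf (wF C.T (C.node a) r.1)))) (fun q hq u => ?_) (by simp [one_mem])
      (fun b _ c _ pb pc => ?_)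
    · obtain ⟨-, v, hv⟩ := C.ns_conj_gx a (one_ne_zero (α := K)) (C.orbS_lt r.2 hq) u
      rw [hv]
      refine gx_mem_UT C.hD ?_ v
      obtain ⟨i, -, rfl⟩ := hq
      have hw := C.wF_lt a (C.orb_lt r)
      rw [C.wF_iter a (C.orb_lt r)]
      exact C.orbS_iter (C.repOf_spec hw).1 (C.repOf_spec hw).2 i
    · have := mul_mem pb pc
      rwa [show C.ns a 1 * b * (C.ns a 1)⁻¹ * (C.ns a 1 * c * (C.ns a 1)⁻¹) =
        C.ns a 1 * (b * c) * (C.ns a 1)⁻¹ by group] at this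
  n_conj_H := by
    rintro a _ ⟨x, hx, rfl⟩
    rw [C.ns_conj_theta a one_ne_zero hx]
    exact ⟨_, mul_mem hx (C.torVec_mem a (C.coefX_Pm hx a)), rfl⟩
  n_sq a := by simpa using C.ns_mul_ns_mem a (t := 1) (u := 1) (by simpa using C.Pm_one a) (by simpa using C.Pm_one a)
  n_mem a := by
    rw [C.ns_eq]
    have h1 : C.op a (1 : K) ∈ C.Uo (C.p a) := by
      rw [C.op_eq]; exact C.orb_mem_Uo (C.hR.rep_simple a) (C.Pm_one a)
    have h2 : C.om a (-(1 : K)⁻¹) ∈ C.Uo (C.repOf (D.neg (C.p a))) := by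
      rw [C.repOf_self (r := D.neg (C.p a)) (C.hR.rep_negSimple a).1, C.om_eq]
      refine C.orb_mem_Uo (C.hR.rep_negSimple a).1 ?_
      rw [show C.T.len (D.neg (C.p a)) = C.L a from (C.hR.rep_negSimple a).2]
      exact C.Pm_negInv (C.Pm_one a)
    exact mul_mem (mul_mem (Subgroup.mem_sup_left (Subgroup.mem_sup_left h1))
      (Subgroup.mem_sup_left (Subgroup.mem_sup_right h2))) (Subgroup.mem_sup_left (Subgroup.mem_sup_left h1))
  U_conj a x hx r hr hne y hy := by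
    refine C.Uo_le_span {s : C.Orb | 0 < C.T.ht s.1 ∧ s ≠ ⟨C.p a, C.hR.rep_simple a⟩} (C.delSet_ok a)
      (fun s hs => ⟨hs.2.1, fun e => hs.2.2 ?_⟩) ⟨C.UT_orbS_conj_del a hx.1 ?_, ?_⟩
    · rw [congrArg Subtype.val e]
      exact ⟨0, C.L_pos a, rfl⟩
    · refine UT_mono C.hD (fun q hq => ?_) hy.1
      obtain ⟨h1, h2⟩ := C.orbS_pos hq
      exact ⟨h1, by rw [h2]; exact hr, fun h' =>
        hne (Subtype.ext ((C.repOf_eq r.2 hq).symm.trans (C.repOf_eq (C.hR.rep_simple a) h')))⟩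
    · exact (Fix C.hT C.φ).mul_mem ((Fix C.hT C.φ).mul_mem hx.2 hy.2) ((Fix C.hT C.φ).inv_mem hx.2)
  rank_one a y hy hy1 := by
    have hy' : y ∈ C.Uo (D.neg (C.p a)) := by
      rw [← C.repOf_self (r := D.neg (C.p a)) (C.hR.rep_negSimple a).1]; exact hy
    obtain ⟨t, ht, rfl⟩ := C.mem_Uo (C.hR.rep_negSimple a).1 hy'
    rw [show C.T.len (D.neg (C.p a)) = C.L a from (C.hR.rep_negSimple a).2] at ht
    have ht0 : t ≠ 0 := fun e => hy1 (by rw [e]; exact C.orb_zero _)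
    have hti : C.Pm a (-t⁻¹) := C.Pm_negInv ht
    have hi : C.Pm a t⁻¹ := by simpa using C.Pm_neg hti
    have ha : C.op a t⁻¹ ∈ C.Uo (C.p a) := by
      rw [C.op_eq]; exact C.orb_mem_Uo (C.hR.rep_simple a) hi
    refine ⟨_, ha, C.ns a (-t⁻¹) * C.ns a (-1), ?_, _, ha, ?_⟩
    · exact C.ns_mul_ns_mem a (t := Units.mk0 (-t⁻¹) (by simpa using ht0)) (u := -1) (by simpa using hti)
        (by simpa using C.Pm_neg (C.Pm_one a))
    · have h1 : C.ns a (-1 : K) * C.ns a 1 = 1 := by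
        have := C.ns_inv a (-1 : Kˣ)
        rw [_root_.neg_neg, Units.val_one, Units.val_neg, Units.val_one] at this
        rw [← this, mul_inv_cancel]
      rw [mul_assoc (C.op a t⁻¹), mul_assoc (C.ns a (-t⁻¹)), h1, mul_one, C.ns_eq, ← C.op_inv,
        show -(-t⁻¹)⁻¹ = t by rw [inv_neg, inv_inv, _root_.neg_neg], ← C.om_eq]
      group
  U_ne_bot r h := by
    have h1 := C.orb_mem_Uo r.2 (t := (1 : K)) (by rw [← RingHom.coe_pow, map_one])
    rw [h, Subgroup.mem_bot] at h1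
    have hS := C.orbS_ok r.2
    obtain ⟨h', hh'⟩ : ∃ h' : ℕ, C.fOf r.1 r.1 = h' := ⟨(C.fOf r.1 r.1).toNat, (Int.toNat_of_nonneg
      (hS.closed.pos r.1 ⟨0, (C.hT.rep_lt r.1 r.2).2.1, rfl⟩).le).symm⟩
    have hpos := hS.closed.pos r.1 ⟨0, (C.hT.rep_lt r.1 r.2).2.1, rfl⟩
    have h2 := hS.coef_orb C.hT C.hD C.φ (h := h') (by omega) r.2 r.2 ⟨0, (C.hT.rep_lt r.1 r.2).2.1, rfl⟩
      ⟨0, (C.hT.rep_lt r.1 r.2).2.1, rfl⟩ hh' hh' (1 : K) (i := 0) (C.hT.rep_lt r.1 r.2).2.1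
    rw [h1, coef_one, if_pos rfl, cf_zero] at h2
    exact zero_ne_one h2
  B_inf_V := by
    rw [eq_bot_iff]
    rintro g ⟨h1, h2⟩
    refine Subgroup.mem_bot.2 (eq_one_of_BTri_Tri (f := C.T.ht) (fun q => rfl) ?_ ?_)
    · refine (sup_le ?_ ?_ : _ ≤ BTri D K C.T.ht) h1
      · refine (C.span_le_UT _ fun r hr q hq => ?_).trans
          (inf_le_left.trans (C.UT_pos_le_Tri.trans (Tri_le_BTri _ _)))
        obtain ⟨a, b⟩ := C.orbS_pos hq
        exact ⟨a, b ▸ hr⟩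
      · exact fun g hg => mem_BTri_of_diag C.hD (C.H0_le_diagonal hg)
    · refine (C.span_le_UT _ fun r hr q hq => ?_).trans (inf_le_left.trans C.UT_neg_le_Tri) h2
      obtain ⟨a, b⟩ := C.orbS_pos hq
      have := C.hR.ht_ne r.1 (C.orb_lt r)
      have hr' : ¬ 0 < C.T.ht r.1 := hr
      exact ⟨a, by omega⟩
  U_inf_H := by
    rw [eq_bot_iff]
    rintro g ⟨h1, x, -, rfl⟩
    refine Subgroup.mem_bot.2 (eq_one_of_tri_diag (f := C.T.ht) ?_)
    refine (C.span_le_UT _ fun r hr q hq => ?_).trans (inf_le_left.trans C.UT_pos_le_Tri) h1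
    obtain ⟨a, b⟩ := C.orbS_pos hq
    exact ⟨a, b ▸ hr⟩

theorem Upos_eq : C.rgd.Upos = UT C.hD K C.posSet ⊓ Fix C.hT C.φ :=
  le_antisymm
    (C.span_le_UT _ fun r hr q hq => by obtain ⟨a, b⟩ := C.orbS_pos hq; exact ⟨a, b ▸ hr⟩)
    (C.Uo_le_span _ C.posSet_ok fun r hr => hr.2)

theorem rgd_G : C.rgd.G = C.G0 := by
  have hn : ∀ a, C.rgd.n a ∈ C.G0 := fun a => C.ns_mem_G0 a (C.Pm_one a)
  have hp : ∀ a, C.Uo (C.p a) ≤ C.G0 := fun a g hg => by
    obtain ⟨t, ht, rfl⟩ := C.mem_Uo (C.hR.rep_simple a) hg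
    rw [← C.op_eq]; exact C.op_mem_G0 a ht
  have hm : ∀ a, C.Uo (D.neg (C.p a)) ≤ C.G0 := fun a g hg => by
    obtain ⟨t, ht, rfl⟩ := C.mem_Uo (C.hR.rep_negSimple a).1 hg
    rw [← C.om_eq]
    refine C.om_mem_G0 a ?_
    rwa [show C.T.len (D.neg (C.p a)) = C.L a from (C.hR.rep_negSimple a).2] at ht
  have key : ∀ n : ℕ, ∀ r : C.Orb, 0 < C.T.ht r.1 → (C.T.ht r.1).toNat ≤ n →
      C.rgd.U r ≤ C.G0 ∧ C.rgd.U (C.rgd.neg r) ≤ C.G0 := by
    intro n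
    induction n with
    | zero => intro r hr hn; omega
    | succ n ih =>
      intro r hr hrn
      rcases C.hR.reach r.1 r.2 hr with ⟨a, ha⟩ | ⟨a, h1, h2⟩
      · refine ⟨?_, ?_⟩
        · show C.Uo r.1 ≤ _
          rw [ha]; exact hp a
        · show C.Uo (C.repOf (D.neg r.1)) ≤ _
          rw [ha, C.repOf_self (C.hR.rep_negSimple a).1]
          exact hm a
      · have e : C.T.ht (C.rgd.w a r).1 = C.T.ht (wF C.T (C.node a) r.1) := C.ht_repOf (C.wF_lt a (C.orb_lt r))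
        obtain ⟨i1, i2⟩ := ih (C.rgd.w a r) (by rw [e]; exact h1) (by rw [e]; omega)
        have back : ∀ s, C.rgd.U s ≤ C.G0 → C.rgd.U (C.rgd.w a s) ≤ C.G0 := fun s hs => by
          rw [← C.rgd.map_conj_n]
          rintro _ ⟨x, hx, rfl⟩
          exact mul_mem (mul_mem (hn a) (hs hx)) (inv_mem (hn a))
        refine ⟨?_, ?_⟩
        · have := back _ i1
          rwa [C.rgd.w_w] at this
        · have := back _ i2
          rwa [C.rgd.w_neg, C.rgd.w_w] at this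
  refine le_antisymm (sup_le (sup_le (C.rgd.span_le fun r hr => (key _ r hr le_rfl).1) C.H0_le_G0)
    (sup_le C.H0_le_G0 ((Subgroup.closure_le _).2 (by rintro _ ⟨a, rfl⟩; exact hn a))))
    ((Subgroup.closure_le _).2 ?_)
  have hU : ∀ a, C.Uo (C.p a) ≤ C.rgd.G := fun a =>
    ((C.rgd.U_le_Upos (C.rgd.pos_simple a)).trans C.rgd.Upos_le_B).trans C.rgd.B_le_G
  rintro g ⟨a, t, ht, rfl | rfl⟩
  · refine hU a ?_
    rw [C.op_eq]; exact C.orb_mem_Uo (C.hR.rep_simple a) ht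
  · have h1 : C.om a t ∈ C.rgd.U (C.rgd.neg (C.rgd.simple a)) := by
      show _ ∈ C.Uo (C.repOf (D.neg (C.p a)))
      rw [C.repOf_self (r := D.neg (C.p a)) (C.hR.rep_negSimple a).1, C.om_eq]
      refine C.orb_mem_Uo (C.hR.rep_negSimple a).1 ?_
      rw [show C.T.len (D.neg (C.p a)) = C.L a from (C.hR.rep_negSimple a).2]
      exact ht
    rw [← C.rgd.w_simple, ← C.rgd.map_conj_n] at h1
    obtain ⟨x, hx, e⟩ := h1
    rw [SetLike.mem_coe, ← e]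
    exact mul_mem (mul_mem (C.rgd.n_mem_G a) (hU a hx)) (inv_mem (C.rgd.n_mem_G a))

theorem G0_le_group : C.G0 ≤ D.group K := by
  refine (Subgroup.closure_le _).2 ?_
  rintro g ⟨a, t, -, rfl | rfl⟩ <;>
    exact Subgroup.list_prod_mem _ fun x hx => by
      obtain ⟨k, -, rfl⟩ := List.mem_map.1 hx; exact gx_mem C.hD K _ _

theorem posUnipotent_eq : D.posUnipotent K = UT C.hD K C.posSet := by
  refine le_antisymm ((Subgroup.closure_le _).2 ?_) (UT_le C.hD fun q hq t => ?_)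
  · rintro g ⟨r, t, hr, e⟩
    rw [SetLike.mem_coe, eq_gx C.hD e]
    exact gx_mem_UT C.hD (T := C.posSet) ⟨hr.1, (C.hT.ht_pos r hr.1).1 hr⟩ t
  · exact Subgroup.subset_closure ⟨q, t, (C.hT.ht_pos q hq.1).2 hq.2, rfl⟩

theorem pos_inf_G0 : D.posUnipotent K ⊓ C.G0 = C.rgd.Upos := by
  refine le_antisymm ?_ (le_inf ?_ ?_)
  · rw [C.Upos_eq, C.posUnipotent_eq]; exact inf_le_inf_left _ C.G0_le_Fix
  · rw [C.Upos_eq, C.posUnipotent_eq]; exact inf_le_left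
  · rw [← C.rgd_G]; exact C.rgd.Upos_le_B.trans C.rgd.B_le_G

theorem B_le_borel : C.rgd.B ≤ D.borelSubgroup K :=
  sup_le ((C.pos_inf_G0.symm.le.trans inf_le_left).trans le_sup_left) (C.H0_le_diagonal.trans le_sup_right)

theorem borel_le_BTri : D.borelSubgroup K ≤ BTri D K C.T.ht :=
  sup_le (C.posUnipotent_eq.le.trans (C.UT_pos_le_Tri.trans (Tri_le_BTri _ _)))
    fun _ hg => mem_BTri_of_diag C.hD hg

theorem borel_inf_G0 : D.borelSubgroup K ⊓ C.G0 = C.rgd.B := by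
  refine le_antisymm (fun g hg => ?_) (le_inf C.B_le_borel (C.rgd_G ▸ C.rgd.B_le_G))
  obtain ⟨hgB, hgG⟩ := hg
  rw [← C.rgd_G] at hgG
  obtain ⟨w, hw⟩ := BN.exists_mem_C C.rgd.bnPair ⟨g, hgG⟩
  induction w using QuotientGroup.induction_on with
  | H n =>
    obtain ⟨b, hb, b', hb', e⟩ := (BN.mem_C_mk C.rgd.bnPair).1 hw
    have e' : g = (b : GL D.Idx K) * (n.1 : GL D.Idx K) * b' := congrArg Subtype.val e
    have hb1 : (b : GL D.Idx K) ∈ C.rgd.B := hb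
    have hb2 : (b' : GL D.Idx K) ∈ C.rgd.B := hb'
    obtain ⟨h, hh, l, en⟩ := C.rgd.mem_N_iff.1 (show (n.1 : GL D.Idx K) ∈ C.rgd.N from n.2)
    rw [en] at e'
    have hl : C.rgd.nw l ∈ D.borelSubgroup K := by
      have e'' : C.rgd.nw l = ((b : GL D.Idx K) * h)⁻¹ * g * (b' : GL D.Idx K)⁻¹ := by rw [e']; group
      rw [e'']
      exact mul_mem (mul_mem (inv_mem (C.B_le_borel (mul_mem hb1 (C.rgd.H_le_B hh)))) hgB)
        (inv_mem (C.B_le_borel hb2))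
    have hlH : C.rgd.nw l ∈ C.rgd.H := C.rgd.mem_H_of_pos fun r hr => by
      by_contra hneg
      refine C.rgd.U_ne_bot (C.rgd.ww l r) (eq_bot_iff.2 fun x hx => ?_)
      have hxV : x ∈ Tri D K (fun q => -C.T.ht q) 1 := by
        refine C.UT_neg_le_Tri ?_
        refine UT_mono C.hD (fun q hq => ?_) (hx : x ∈ C.Uo _).1
        obtain ⟨a, b⟩ := C.orbS_pos hq
        have := C.hR.ht_ne _ (C.orb_lt (C.rgd.ww l r))
        have hneg' : ¬ 0 < C.T.ht (C.rgd.ww l r).1 := hneg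
        exact ⟨a, by omega⟩
      rw [← C.rgd.map_conj_U] at hx
      obtain ⟨y, hy, e3⟩ := hx
      have hxB : x ∈ D.borelSubgroup K := by
        rw [← e3]
        exact mul_mem (mul_mem hl (C.B_le_borel ((C.rgd.U_le_B_iff r).2 hr hy))) (inv_mem hl)
      exact Subgroup.mem_bot.2 (eq_one_of_BTri_Tri (fun q => rfl) (C.borel_le_BTri hxB) hxV)
    rw [e']
    exact mul_mem (mul_mem hb1 (C.rgd.H_le_B (mul_mem hh hlH))) hb2

section Monomial

variable {M : List (List ℤ)} {d : ℤ}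

theorem diagonal_inf_G0 (hR : ChevBN.Roots D M d) : D.diagonalSubgroup K ⊓ C.G0 = C.rgd.H := by
  refine le_antisymm (fun g hg => ?_) (le_inf C.H0_le_diagonal C.H0_le_G0)
  have hB : g ∈ C.rgd.B := C.borel_inf_G0.le ⟨Subgroup.mem_sup_right hg.1, hg.2⟩
  obtain ⟨u, hu, h, hh, rfl⟩ := C.rgd.exists_B hB
  have hu1 : u ∈ D.diagonalSubgroup K := by
    simpa using (D.diagonalSubgroup K).mul_mem hg.1 ((D.diagonalSubgroup K).inv_mem (C.H0_le_diagonal hh))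
  have hu2 : u ∈ D.posUnipotent K := (C.pos_inf_G0.symm.le hu).1
  have : u = 1 := Subgroup.mem_bot.1 ((ChevBN.pos_inf_diag C.hD hR).le ⟨hu2, hu1⟩)
  rw [this, one_mul]; exact hh

theorem N_le_monomial : C.rgd.N ≤ D.monomialSubgroup K := by
  refine sup_le (C.H0_le_diagonal.trans le_sup_left) ((Subgroup.closure_le _).2 ?_)
  rintro _ ⟨a, rfl⟩
  refine Subgroup.list_prod_mem _ fun x hx => ?_
  obtain ⟨k, -, rfl⟩ := List.mem_map.1 hx
  rw [← RingHom.coe_pow, map_one]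
  exact Subgroup.mem_sup_right (Subgroup.subset_closure ⟨_, C.rk_lt a k, ChevBN.coe_ng C.hD _ _⟩)

theorem monomial_inf_G0 (hR : ChevBN.Roots D M d) : D.monomialSubgroup K ⊓ C.G0 = C.rgd.N := by
  refine le_antisymm (fun g hg => ?_) (le_inf C.N_le_monomial (C.rgd_G ▸ C.rgd.N_le_G))
  obtain ⟨hgM, hgG⟩ := hg
  have hgG' : g ∈ C.rgd.G := C.rgd_G ▸ hgG
  obtain ⟨w, hw⟩ := BN.exists_mem_C C.rgd.bnPair ⟨g, hgG'⟩
  induction w using QuotientGroup.induction_on with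
  | H n =>
    obtain ⟨b, hb, b', hb', e⟩ := (BN.mem_C_mk C.rgd.bnPair).1 hw
    have e' : g = (b : GL D.Idx K) * (n.1 : GL D.Idx K) * b' := congrArg Subtype.val e
    have hnN : (n.1 : GL D.Idx K) ∈ C.rgd.N := n.2
    set R₂ := ChevBN.chevRGD C.hD hR K with hR₂
    have hB2 : R₂.B = D.borelSubgroup K := ChevBN.chev_B C.hD hR
    have hN2 : R₂.N = D.monomialSubgroup K := ChevBN.chev_N C.hD hR
    have hG2 : C.rgd.G ≤ R₂.G := by rw [ChevBN.chev_G C.hD hR, C.rgd_G]; exact C.G0_le_group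
    let g₂ : R₂.G := ⟨g, hG2 hgG'⟩
    let n₂ : R₂.G := ⟨(n.1 : GL D.Idx K), hG2 n.1.2⟩
    have hg₂ : g₂ ∈ R₂.bnPair.N := show g ∈ R₂.N by rw [hN2]; exact hgM
    have hn₂ : n₂ ∈ R₂.bnPair.N :=
      show (n.1 : GL D.Idx K) ∈ R₂.N by rw [hN2]; exact C.N_le_monomial hnN
    have h1 : g₂ ∈ BN.C R₂.bnPair (BN.wOf R₂.bnPair hn₂) :=
      (BN.mem_C_mk R₂.bnPair).2 ⟨⟨(b : GL D.Idx K), hG2 b.2⟩,
        show (b : GL D.Idx K) ∈ R₂.B by rw [hB2]; exact C.B_le_borel hb, ⟨(b' : GL D.Idx K), hG2 b'.2⟩,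
        show (b' : GL D.Idx K) ∈ R₂.B by rw [hB2]; exact C.B_le_borel hb', Subtype.ext e'⟩
    have h2 := (BN.wOf_eq_iff R₂.bnPair hn₂ hg₂).1
      (BN.C_unique R₂.bnPair h1 (BN.self_mem_C R₂.bnPair hg₂))
    have h3 : (n.1 : GL D.Idx K)⁻¹ * g ∈ R₂.B := h2
    have h4 : (n.1 : GL D.Idx K)⁻¹ * g ∈ R₂.N := by
      rw [hN2]; exact mul_mem (inv_mem (C.N_le_monomial hnN)) hgM
    have h5 : (n.1 : GL D.Idx K)⁻¹ * g ∈ R₂.H := R₂.B_inf_N.le ⟨h3, h4⟩
    have h6 : (n.1 : GL D.Idx K)⁻¹ * g ∈ C.rgd.H :=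
      (C.diagonal_inf_G0 hR).le ⟨h5, C.G0.mul_mem (C.G0.inv_mem (C.rgd_G ▸ n.1.2)) hgG⟩
    simpa using mul_mem hnN (C.rgd.H_le_N h6)

end Monomial

end Ctx

end Cfsg.Agent.TwistE6D4
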