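/-
The twisted groups of the Prelude as groups generated by fixed orbit elements.

* `qHom`, `exists_qHom` : the endomorphism t ↦ t^q.
* `G0_eq_gen`           : G0 is generated by the orbit words.
* `ctxE6`, `ctxD4`, `twistedE6_eq`, `twistedD4_eq`.
-/
import Cfsg.Agent.Lib.TwistE6D4.Root
import Cfsg.Agent.Lib.TwistE6D4.DataRoot

set_option autoImplicit false

namespace Cfsg.Agent.TwistE6D4

open Cfsg.Lie Cfsg.Lie.ChevalleyDatum Cfsg.Agent.Chev

theorem exists_qHom (K : Type*) [Field K] [Fintype K] {q k : ℕ} (hq : IsPrimePow q) (hk : 0 < k)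
    (hK : Fintype.card K = q ^ k) : ∃ φ : K →+* K, ∀ t, φ t = t ^ q := by
  obtain ⟨p, n, hp, hn, rfl⟩ := hq
  have hp' : p.Prime := Nat.prime_iff.2 hp
  haveI := Fact.mk hp'
  obtain ⟨p', hp''⟩ := CharP.exists K
  obtain ⟨m, hp2, hm⟩ := FiniteField.card K p'
  have hpp : p = p' := by
    have h1 : p ∣ p' ^ (m : ℕ) := by
      rw [← hm, hK, ← pow_mul]; exact dvd_pow_self p (Nat.mul_pos hn hk).ne'
    exact (Nat.prime_dvd_prime_iff_eq hp' hp2).1 (hp'.dvd_of_dvd_pow h1)
  subst hpp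
  exact ⟨iterateFrobenius K p n, fun t => iterateFrobenius_def p n t⟩

theorem iterate_of_pow {K : Type*} [Monoid K] {f : K → K} {q : ℕ} (h : ∀ t, f t = t ^ q) (t : K) :
    ∀ k, f^[k] t = t ^ (q ^ k)
  | 0 => by simp
  | k + 1 => by rw [Function.iterate_succ_apply', iterate_of_pow h t k, h, ← pow_mul, pow_succ]

variable {D : ChevalleyDatum} {K : Type*} [Field K]

namespace Ctx

variable (C : Ctx D K)

/-- The word of a positive simple orbit. -/
def opWord (a : Fin C.m) (t : K) : List (ℕ × K) :=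
  (List.range (C.L a)).map fun k => (C.rk a k, (⇑C.φ)^[k] t)

/-- The word of a negative simple orbit. -/
def omWord (a : Fin C.m) (t : K) : List (ℕ × K) :=
  (List.range (C.L a)).map fun k => (D.neg (C.rk a k), (⇑C.φ)^[k] t)

theorem coe_prod_gx {ι : Type*} (f : ι → ℕ) (g : ι → K) : ∀ L : List ι,
    (((L.map fun i => gx C.hD K (f i) (g i)).prod : GL D.Idx K) : Matrix D.Idx D.Idx K) =
      D.wordMat K (L.map fun i => (f i, g i))
  | [] => by simp [ChevalleyDatum.wordMat]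
  | i :: L => by
    simp only [List.map_cons, List.prod_cons, Units.val_mul, coe_gx, coe_prod_gx f g L]
    simp [ChevalleyDatum.wordMat]

theorem coe_op (a : Fin C.m) (t : K) :
    ((C.op a t : GL D.Idx K) : Matrix D.Idx D.Idx K) = D.wordMat K (C.opWord a t) :=
  C.coe_prod_gx _ _ _

theorem coe_om (a : Fin C.m) (t : K) :
    ((C.om a t : GL D.Idx K) : Matrix D.Idx D.Idx K) = D.wordMat K (C.omWord a t) :=
  C.coe_prod_gx _ _ _

theorem G0_eq_gen {S : Set (List (ℕ × K))}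
    (h1 : ∀ w ∈ S, ∃ a t, C.Pm a t ∧ (w = C.opWord a t ∨ w = C.omWord a t))
    (h2 : ∀ a t, C.Pm a t → C.opWord a t ∈ S ∧ C.omWord a t ∈ S) : D.genSubgroup K S = C.G0 := by
  refine le_antisymm ((Subgroup.closure_le _).2 ?_) ((Subgroup.closure_le _).2 ?_)
  · rintro g ⟨w, hw, e⟩
    obtain ⟨a, t, ht, rfl | rfl⟩ := h1 w hw
    · rw [show g = C.op a t from Units.ext (e.trans (C.coe_op a t).symm)]; exact C.op_mem_G0 a ht
    · rw [show g = C.om a t from Units.ext (e.trans (C.coe_om a t).symm)]; exact C.om_mem_G0 a ht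
  · rintro g ⟨a, t, ht, rfl | rfl⟩
    · exact Subgroup.subset_closure ⟨_, (h2 a t ht).1, C.coe_op a t⟩
    · exact Subgroup.subset_closure ⟨_, (h2 a t ht).2, C.coe_om a t⟩

end Ctx

/-- The context of ²E₆. -/
@[reducible] def ctxE6 (hD : Good chevE6) (φ : K →+* K) : Ctx chevE6 K :=
  ⟨e6Twist, 4, e6Node, e6Twist_ok, e6Root_ok, hD, φ⟩

/-- The context of ³D₄. -/
@[reducible] def ctxD4 (hD : Good chevD4) (φ : K →+* K) : Ctx chevD4 K :=
  ⟨d4Twist, 2, d4Node, d4Twist_ok, d4Root_ok, hD, φ⟩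

theorem e6_len : ∀ a : Fin 4, e6Twist.len (chevE6.simple (e6Node a).val) = [1, 1, 2, 2].getD a.val 0 := by
  decide +kernel

theorem d4_len : ∀ a : Fin 2, d4Twist.len (chevD4.simple (d4Node a).val) = [3, 1].getD a.val 0 := by
  decide +kernel

theorem e6_roots : ∀ a : Fin 4,
    (List.range ([1, 1, 2, 2].getD a.val 0)).map (fun k => e6Twist.rho^[k] (chevE6.simple (e6Node a).val)) =
      [[e6p2], [e6p4], [e6p3, e6p5], [e6p1, e6p6]].getD a.val [] ∧
    (List.range ([1, 1, 2, 2].getD a.val 0)).map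
      (fun k => chevE6.neg (e6Twist.rho^[k] (chevE6.simple (e6Node a).val))) =
      [[e6m2], [e6m4], [e6m3, e6m5], [e6m1, e6m6]].getD a.val [] := by
  decide +kernel

theorem d4_roots : ∀ a : Fin 2,
    (List.range ([3, 1].getD a.val 0)).map (fun k => d4Twist.rho^[k] (chevD4.simple (d4Node a).val)) =
      [[d4p1, d4p3, d4p4], [d4p2]].getD a.val [] ∧
    (List.range ([3, 1].getD a.val 0)).map
      (fun k => chevD4.neg (d4Twist.rho^[k] (chevD4.simple (d4Node a).val))) =
      [[d4m1, d4m3, d4m4], [d4m2]].getD a.val [] := by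
  decide +kernel

theorem map_range_pair (g : ℕ → ℕ) (c : ℕ → K) (n : ℕ) :
    (List.range n).map (fun k => (g k, c k)) = List.zip ((List.range n).map g) ((List.range n).map c) := by
  rw [List.zip_map']

variable [Fintype K] {q : ℕ}

theorem twistedE6_eq (hD : Good chevE6) {φ : K →+* K} (hφ : ∀ t, φ t = t ^ q) (hK : Fintype.card K = q ^ 2) :
    twistedE6 K q = (ctxE6 hD φ).G0 := by
  set C := ctxE6 hD φ
  have hfix : ∀ t : K, t ^ (q ^ 2) = t := fun t => by rw [← hK, FiniteField.pow_card]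
  have hPm : ∀ (a : Fin C.m) t, C.Pm a t ↔ (([1, 1, 2, 2].getD a.val 0 : ℕ) = 2 ∨ t ^ q = t) := by
    intro a t
    show (⇑φ)^[e6Twist.len (chevE6.simple (e6Node a).val)] t = t ↔ _
    rw [e6_len, iterate_of_pow hφ]
    fin_cases a <;> simp [hfix]
  have hw : ∀ (a : Fin C.m) t,
      C.opWord a t = List.zip ([[e6p2], [e6p4], [e6p3, e6p5], [e6p1, e6p6]].getD a.val [])
        ((List.range ([1, 1, 2, 2].getD a.val 0)).map fun k => t ^ q ^ k) ∧
      C.omWord a t = List.zip ([[e6m2], [e6m4], [e6m3, e6m5], [e6m1, e6m6]].getD a.val [])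
        ((List.range ([1, 1, 2, 2].getD a.val 0)).map fun k => t ^ q ^ k) := by
    intro a t
    rw [← (e6_roots a).1, ← (e6_roots a).2, ← map_range_pair, ← map_range_pair]
    constructor <;>
    · show (List.range (e6Twist.len (chevE6.simple (e6Node a).val))).map _ = _
      rw [e6_len]
      exact List.map_congr_left fun k _ => by rw [iterate_of_pow hφ]; rfl
  refine C.G0_eq_gen ?_ ?_
  · rintro w (⟨t, ht, r, hr, rfl⟩ | ⟨t, rs, hrs, rfl⟩)
    · simp only [List.mem_cons, List.not_mem_nil, or_false] at hr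
      rcases hr with rfl | rfl | rfl | rfl
      · exact ⟨⟨0, show 0 < 4 by norm_num⟩, t, (hPm _ t).2 (Or.inr ht), Or.inl ((hw _ t).1.trans (by simp)).symm⟩
      · exact ⟨⟨0, show 0 < 4 by norm_num⟩, t, (hPm _ t).2 (Or.inr ht), Or.inr ((hw _ t).2.trans (by simp)).symm⟩
      · exact ⟨⟨1, show 1 < 4 by norm_num⟩, t, (hPm _ t).2 (Or.inr ht), Or.inl ((hw _ t).1.trans (by simp)).symm⟩
      · exact ⟨⟨1, show 1 < 4 by norm_num⟩, t, (hPm _ t).2 (Or.inr ht), Or.inr ((hw _ t).2.trans (by simp)).symm⟩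
    · simp only [List.mem_cons, List.not_mem_nil, or_false] at hrs
      rcases hrs with rfl | rfl | rfl | rfl
      · exact ⟨⟨3, show 3 < 4 by norm_num⟩, t, (hPm _ t).2 (Or.inl rfl), Or.inl ((hw _ t).1.trans (by simp [List.range_succ])).symm⟩
      · exact ⟨⟨3, show 3 < 4 by norm_num⟩, t, (hPm _ t).2 (Or.inl rfl), Or.inr ((hw _ t).2.trans (by simp [List.range_succ])).symm⟩
      · exact ⟨⟨2, show 2 < 4 by norm_num⟩, t, (hPm _ t).2 (Or.inl rfl), Or.inl ((hw _ t).1.trans (by simp [List.range_succ])).symm⟩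
      · exact ⟨⟨2, show 2 < 4 by norm_num⟩, t, (hPm _ t).2 (Or.inl rfl), Or.inr ((hw _ t).2.trans (by simp [List.range_succ])).symm⟩
  · intro a t ht
    have ht' := (hPm a t).1 ht
    rw [(hw a t).1, (hw a t).2]
    unfold e6Words
    fin_cases a <;> simp [List.range_succ] at ht' ⊢ <;> exact ⟨⟨t, by simp_all⟩, ⟨t, by simp_all⟩⟩

theorem twistedD4_eq (hD : Good chevD4) {φ : K →+* K} (hφ : ∀ t, φ t = t ^ q) (hK : Fintype.card K = q ^ 3) :
    twistedD4 K q = (ctxD4 hD φ).G0 := by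
  set C := ctxD4 hD φ
  have hfix : ∀ t : K, t ^ (q ^ 3) = t := fun t => by rw [← hK, FiniteField.pow_card]
  have hPm : ∀ (a : Fin C.m) t, C.Pm a t ↔ (([3, 1].getD a.val 0 : ℕ) = 3 ∨ t ^ q = t) := by
    intro a t
    show (⇑φ)^[d4Twist.len (chevD4.simple (d4Node a).val)] t = t ↔ _
    rw [d4_len, iterate_of_pow hφ]
    fin_cases a <;> simp [hfix]
  have hw : ∀ (a : Fin C.m) t,
      C.opWord a t = List.zip ([[d4p1, d4p3, d4p4], [d4p2]].getD a.val [])
        ((List.range ([3, 1].getD a.val 0)).map fun k => t ^ q ^ k) ∧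
      C.omWord a t = List.zip ([[d4m1, d4m3, d4m4], [d4m2]].getD a.val [])
        ((List.range ([3, 1].getD a.val 0)).map fun k => t ^ q ^ k) := by
    intro a t
    rw [← (d4_roots a).1, ← (d4_roots a).2, ← map_range_pair, ← map_range_pair]
    constructor <;>
    · show (List.range (d4Twist.len (chevD4.simple (d4Node a).val))).map _ = _
      rw [d4_len]
      exact List.map_congr_left fun k _ => by rw [iterate_of_pow hφ]; rfl
  refine C.G0_eq_gen ?_ ?_
  · rintro w (⟨t, ht, r, hr, rfl⟩ | ⟨t, rs, hrs, rfl⟩)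
    · simp only [List.mem_cons, List.not_mem_nil, or_false] at hr
      rcases hr with rfl | rfl
      · exact ⟨⟨1, show 1 < 2 by norm_num⟩, t, (hPm _ t).2 (Or.inr ht), Or.inl ((hw _ t).1.trans (by simp)).symm⟩
      · exact ⟨⟨1, show 1 < 2 by norm_num⟩, t, (hPm _ t).2 (Or.inr ht), Or.inr ((hw _ t).2.trans (by simp)).symm⟩
    · simp only [List.mem_cons, List.not_mem_nil, or_false] at hrs
      rcases hrs with rfl | rfl
      · exact ⟨⟨0, show 0 < 2 by norm_num⟩, t, (hPm _ t).2 (Or.inl rfl), Or.inl ((hw _ t).1.trans (by simp [List.range_succ])).symm⟩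
      · exact ⟨⟨0, show 0 < 2 by norm_num⟩, t, (hPm _ t).2 (Or.inl rfl), Or.inr ((hw _ t).2.trans (by simp [List.range_succ])).symm⟩
  · intro a t ht
    have ht' := (hPm a t).1 ht
    rw [(hw a t).1, (hw a t).2]
    unfold d4Words
    fin_cases a <;> simp [List.range_succ] at ht' ⊢ <;> exact ⟨⟨t, by simp_all⟩, ⟨t, by simp_all⟩⟩

end Cfsg.Agent.TwistE6D4
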