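/-
Orders of U¹, H¹ and B¹ of the twisted groups.

* `card_powFixed`, `card_rootsOfOne` : solutions of t^Q = t and t^d = 1 in a finite field.
* `Hyp C q k` : φ is t ↦ t^q on a field with q^k elements; `card_Upos`, `card_TorSym`,
  `card_TorSym_eq` (= |ker θ| |H¹|), `card_B`, `mem_ker_theta`.
-/
import Cfsg.Agent.Lib.TwistE6D4.Words

set_option autoImplicit false

namespace Cfsg.Agent.TwistE6D4

open Cfsg.Lie Cfsg.Lie.ChevalleyDatum Cfsg.Agent.Chev

theorem card_rootsOfOne (K : Type*) [Field K] [Fintype K] (d : ℕ) :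
    Nat.card {t : Kˣ // t ^ d = 1} = Nat.gcd (Fintype.card K - 1) d := by
  classical
  rw [← Fintype.card_units, ← Nat.card_eq_fintype_card, ← IsCyclic.card_powMonoidHom_ker (G := Kˣ) d]
  exact Nat.card_congr (Equiv.subtypeEquivRight fun t => by simp)

theorem card_units_fixed (K : Type*) [Field K] [Fintype K] {Q m : ℕ} (hK : Fintype.card K = Q ^ m) :
    Nat.card {t : Kˣ // t ^ (Q - 1) = 1} = Q - 1 := by
  rw [card_rootsOfOne, hK]
  exact Nat.gcd_eq_right (by simpa using Nat.sub_dvd_pow_sub_pow Q 1 m)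

theorem card_powFixed (K : Type*) [Field K] [Fintype K] {Q m : ℕ} (hK : Fintype.card K = Q ^ m) :
    Nat.card {t : K // t ^ Q = t} = Q := by
  classical
  have hQ : 0 < Q := Nat.pos_of_ne_zero fun h => by
    have := Fintype.one_lt_card (α := K); rw [hK, h] at this
    rcases Nat.eq_zero_or_pos m with rfl | hm
    · simp at this
    · simp [zero_pow hm.ne'] at this
  have h : ∀ t : Kˣ, (t : K) ^ Q = t ↔ t ^ (Q - 1) = 1 := fun t => by
    have e : (t : K) ^ Q = (t : K) ^ (Q - 1) * t := by rw [← pow_succ, Nat.sub_add_cancel hQ]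
    rw [e, mul_left_eq_self₀, or_iff_left t.ne_zero, ← Units.val_pow_eq_pow_val, Units.val_eq_one]
  refine Eq.trans (Nat.card_congr (Equiv.ofBijective (fun o : Option {t : Kˣ // t ^ (Q - 1) = 1} =>
    (o.elim ⟨0, zero_pow (by omega)⟩ fun t => ⟨(t.1 : K), (h t.1).2 t.2⟩ : {t : K // t ^ Q = t})) ⟨?_, ?_⟩)).symm ?_
  · rintro (_ | a) (_ | b) e <;> simp only [Option.elim, Subtype.mk.injEq] at e
    · rfl
    · exact absurd e.symm b.1.ne_zero
    · exact absurd e a.1.ne_zero
    · exact congrArg some (Subtype.ext (Units.ext e))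
  · rintro ⟨t, ht⟩
    by_cases h0 : t = 0
    · exact ⟨none, Subtype.ext h0.symm⟩
    · exact ⟨some ⟨Units.mk0 t h0, (h _).1 ht⟩, rfl⟩
  · rw [Finite.card_option, card_units_fixed K hK, Nat.sub_add_cancel hQ]

variable {D : ChevalleyDatum} {K : Type*} [Field K]

/-- φ is the q-th power map on a field with q^k elements, k a multiple of all orbit sizes. -/
structure Hyp [Fintype K] (C : Ctx D K) (q k : ℕ) : Prop where
  pow : ∀ t, C.φ t = t ^ q
  card : Fintype.card K = q ^ k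
  one_lt : 1 < q
  dvd : ∀ r ∈ C.T.reps, C.T.len r ∣ k

namespace Ctx

variable [Fintype K] {C : Ctx D K} {q k : ℕ} (hq : Hyp C q k)
include hq

theorem iter_pow (t : K) (l : ℕ) : (⇑C.φ)^[l] t = t ^ q ^ l := iterate_of_pow hq.pow t l

theorem card_pow {r : ℕ} (hr : r ∈ C.T.reps) : Fintype.card K = (q ^ C.T.len r) ^ (k / C.T.len r) := by
  rw [← pow_mul, Nat.mul_div_cancel' (hq.dvd r hr), hq.card]

theorem card_Par {r : ℕ} (hr : r ∈ C.T.reps) : Nat.card (Par C.T C.φ r) = q ^ C.T.len r := by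
  rw [← card_powFixed K (card_pow hq hr)]
  exact Nat.card_congr (Equiv.subtypeEquivRight fun t => by rw [iter_pow hq])

theorem card_Upos :
    Nat.card C.rgd.Upos = q ^ ((C.T.reps.filter fun r => decide (0 < C.T.ht r)).map C.T.len).sum := by
  classical
  rw [C.Upos_eq, C.posSet_ok.card_fix C.hT C.hD C.φ, Finset.prod_congr rfl fun r hr =>
    card_Par hq (List.mem_toFinset.1 (Finset.mem_filter.1 hr).1), Finset.prod_pow_eq_pow_sum]
  congr 1
  rw [← List.sum_toFinset _ (C.hT.rep_nodup.filter _)]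
  refine Finset.sum_congr (Finset.ext fun r => ?_) fun _ _ => rfl
  simp only [Finset.mem_filter, List.mem_toFinset, List.mem_filter, decide_eq_true_eq]
  exact ⟨fun h => ⟨h.1, h.2.2⟩, fun h => ⟨h.1, (C.hT.rep_lt r h.1).1, h.2⟩⟩

theorem Pm_iff (a : Fin C.m) (t : Kˣ) : C.Pm a (t : K) ↔ t ^ (q ^ C.L a - 1) = 1 := by
  unfold Pm
  rw [iter_pow hq, ← Units.val_pow_eq_pow_val, Units.val_inj]
  conv_lhs => rw [← Nat.sub_add_cancel (Nat.one_le_pow (C.L a) q (by have := hq.one_lt; omega)), pow_succ]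
  exact mul_eq_right

theorem card_TorSym : Nat.card ↥(TorSym C.T C.φ) = ∏ a, (q ^ C.L a - 1) := by
  classical
  have hval : ∀ x ∈ TorSym C.T C.φ, ∀ (a : Fin C.m) l, x (C.nd a l) = C.itU l (x (C.node a)) := by
    intro x hx a l
    induction l with
    | zero => exact (C.itU_zero _).symm
    | succ l ih =>
      rw [show C.nd a (l + 1) = C.T.pi (C.nd a l) by simp only [Ctx.nd, Function.iterate_succ_apply'],
        hx, ih, C.itU_succ]
  have hnode : ∀ x ∈ TorSym C.T C.φ, ∀ a, x (C.node a) ^ (q ^ C.L a - 1) = 1 := fun x hx a => by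
    rw [← Pm_iff hq]
    have h := hval x hx a (C.L a)
    rw [C.nd_len] at h
    unfold Pm
    rw [← C.coe_itU, ← h]
  rw [Nat.card_congr (β := (a : Fin C.m) → {t : Kˣ // t ^ (q ^ C.L a - 1) = 1})
    (Equiv.ofBijective (fun x a => ⟨x.1 (C.node a), hnode x.1 x.2 a⟩) ⟨fun x y e => ?_, fun c => ?_⟩),
    Nat.card_pi]
  · refine Finset.prod_congr rfl fun a _ => card_units_fixed K (m := k / C.L a) ?_
    exact card_pow hq (C.hR.rep_simple a)
  · refine Subtype.ext (funext fun i => ?_)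
    obtain ⟨a, l, hl, rfl⟩ := C.nd_surj i
    rw [hval x.1 x.2, hval y.1 y.2, show x.1 (C.node a) = y.1 (C.node a) from congrArg Subtype.val (congrFun e a)]
  · refine ⟨⟨∏ a, C.torVec a (c a).1, Subgroup.prod_mem _ fun a _ =>
      C.torVec_mem a ((Pm_iff hq a _).2 (c a).2)⟩, funext fun b => Subtype.ext ?_⟩
    show (∏ a, C.torVec a (c a).1) (C.nd b 0) = _
    rw [Finset.prod_apply, Finset.prod_eq_single b]
    · rw [C.torVec_apply b b _ (C.L_pos b), if_pos rfl, C.itU_zero]
    · intro a _ hab; rw [C.torVec_apply a b _ (C.L_pos b), if_neg hab]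
    · simp

/-- The kernel of θ on symmetric parameters. -/
theorem card_TorSym_eq :
    Nat.card ↥(TorSym C.T C.φ) = Nat.card ↥((theta D K).comp (TorSym C.T C.φ).subtype).ker * Nat.card C.rgd.H := by
  rw [← Subgroup.card_mul_index ((theta D K).comp (TorSym C.T C.φ).subtype).ker, Subgroup.index_ker,
    MonoidHom.range_comp, Subgroup.range_subtype]
  rfl

omit hq in
theorem card_B : Nat.card C.rgd.B = Nat.card C.rgd.Upos * Nat.card C.rgd.H := by
  rw [← Nat.card_prod]
  refine (Nat.card_congr (Equiv.ofBijective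
    (fun p : C.rgd.Upos × C.rgd.H =>
      (⟨p.1.1 * p.2.1, Subgroup.mul_mem_sup p.1.2 p.2.2⟩ : C.rgd.B)) ⟨?_, fun g => ?_⟩)).symm
  · rintro ⟨⟨u, hu⟩, ⟨h, hh⟩⟩ ⟨⟨u', hu'⟩, ⟨h', hh'⟩⟩ e
    have e' : u * h = u' * h' := congrArg Subtype.val e
    have hmem : u'⁻¹ * u ∈ C.rgd.Upos ⊓ C.rgd.H := by
      refine ⟨C.rgd.Upos.mul_mem (C.rgd.Upos.inv_mem hu') hu, ?_⟩
      have : u'⁻¹ * u = h' * h⁻¹ := by rw [eq_mul_inv_iff_mul_eq, mul_assoc, e', inv_mul_cancel_left]
      rw [this]; exact C.rgd.H.mul_mem hh' (C.rgd.H.inv_mem hh)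
    rw [show C.rgd.Upos ⊓ C.rgd.H = ⊥ from C.rgd.U_inf_H, Subgroup.mem_bot, inv_mul_eq_one] at hmem
    subst hmem
    obtain rfl := mul_left_cancel e'
    rfl
  · obtain ⟨u, hu, h, hh, e⟩ := C.rgd.exists_B g.2
    exact ⟨(⟨u, hu⟩, ⟨h, hh⟩), Subtype.ext e.symm⟩

end Ctx

/-- θ x = 1 in terms of the simple roots. -/
theorem mem_ker_theta (hD : Good D)
    (hc : ∀ s < D.nroots, ∀ j : Fin D.rank,
      D.cartan j.val s = ∑ k : Fin D.rank, (D.coroot.getD s #[]).getD k.val 0 * D.cartan j.val (D.simple k.val))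
    (x : Fin D.rank → Kˣ) : theta D K x = 1 ↔ ∀ i : Fin D.rank, chiX x (D.simple i.val) = 1 := by
  constructor
  · intro h i
    have hi := hD.simple_lt i.val i.isLt
    have := congrFun (congrFun (congrArg (fun g : GL D.Idx K => (g : Matrix D.Idx D.Idx K)) h)
      (Sum.inr ⟨_, hi⟩)) (Sum.inr ⟨_, hi⟩)
    simp only [coe_theta, ChevBN.dg, Matrix.diagonal_apply_eq, Sum.elim_inr, Units.val_one, Matrix.one_apply_eq] at this
    exact Units.ext this
  · intro h
    refine Units.ext ?_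
    rw [coe_theta, Units.val_one, ChevBN.dg, ← Matrix.diagonal_one]
    congr 1
    ext a
    rcases a with i | s
    · rfl
    · show ((chiX x s.val : Kˣ) : K) = 1
      have : chiX x s.val = ∏ k : Fin D.rank, chiX x (D.simple k.val) ^ (D.coroot.getD s.val #[]).getD k.val 0 := by
        simp only [chiX, ← Finset.prod_zpow, ← _root_.zpow_mul]
        rw [Finset.prod_comm]
        refine Finset.prod_congr rfl fun j _ => ?_
        rw [zpow_sum, hc s.val s.isLt j]
        simp only [mul_comm]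
      simp only [this, h, _root_.one_zpow, Finset.prod_const_one, Units.val_one]

end Cfsg.Agent.TwistE6D4
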