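/-
(B,N)-pair and orders of U¹, H¹ for ²E₆(q) and ³D₄(q), from `Good` of the ambient datum.

* `exists_ctxE6`, `exists_ctxD4` : the context with G¹ = G0 and the hypothesis `Hyp`.
* `Ctx.exists_bnPair`, `card_pos_E6`, `card_pos_D4`, `card_diag_E6`, `card_diag_D4`.
-/
import Cfsg.Agent.Lib.TwistE6D4.Count
import Cfsg.Agent.Lib.ChevBN.RootTables

set_option autoImplicit false
set_option maxRecDepth 100000

namespace Cfsg.Agent.TwistE6D4

open Cfsg.Lie Cfsg.Lie.ChevalleyDatum Cfsg.Agent.Chev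

variable {D : ChevalleyDatum} {K : Type*} [Field K]

theorem e6_dvd : ∀ r ∈ e6Twist.reps, e6Twist.len r ∣ 2 := by decide +kernel

theorem d4_dvd : ∀ r ∈ d4Twist.reps, d4Twist.len r ∣ 3 := by decide +kernel

theorem exists_ctxE6 [Fintype K] (hD : Good chevE6) {q : ℕ} (hq : IsPrimePow q) (hK : Fintype.card K = q ^ 2) :
    ∃ φ : K →+* K, twistedE6 K q = (ctxE6 hD φ).G0 ∧ Hyp (ctxE6 hD φ) q 2 := by
  obtain ⟨φ, hφ⟩ := exists_qHom K hq two_pos hK
  exact ⟨φ, twistedE6_eq hD hφ hK, hφ, hK, hq.two_le, e6_dvd⟩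

theorem exists_ctxD4 [Fintype K] (hD : Good chevD4) {q : ℕ} (hq : IsPrimePow q) (hK : Fintype.card K = q ^ 3) :
    ∃ φ : K →+* K, twistedD4 K q = (ctxD4 hD φ).G0 ∧ Hyp (ctxD4 hD φ) q 3 := by
  obtain ⟨φ, hφ⟩ := exists_qHom K hq three_pos hK
  exact ⟨φ, twistedD4_eq hD hφ hK, hφ, hK, hq.two_le, d4_dvd⟩

theorem Ctx.exists_bnPair (C : Ctx D K) {M : List (List ℤ)} {d : ℤ} (hR : ChevBN.Roots D M d)
    {G : Subgroup (GL D.Idx K)} (hG : G = C.G0) :
    ∃ P : Cfsg.BNPair ↥G, P.B = (D.borelSubgroup K ⊓ G).subgroupOf G ∧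
      P.N = (D.monomialSubgroup K ⊓ G).subgroupOf G := by
  obtain rfl : G = C.rgd.G := hG.trans C.rgd_G.symm
  refine ⟨C.rgd.bnPair, ?_, ?_⟩
  · rw [RGD.RootData.bnPair_B, show D.borelSubgroup K ⊓ C.rgd.G = C.rgd.B from by rw [C.rgd_G]; exact C.borel_inf_G0]
  · rw [RGD.RootData.bnPair_N,
      show D.monomialSubgroup K ⊓ C.rgd.G = C.rgd.N from by rw [C.rgd_G]; exact C.monomial_inf_G0 hR]

theorem e6_U_exp : ((e6Twist.reps.filter fun r => decide (0 < e6Twist.ht r)).map e6Twist.len).sum = 36 := by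
  decide +kernel

theorem d4_U_exp : ((d4Twist.reps.filter fun r => decide (0 < d4Twist.ht r)).map d4Twist.len).sum = 12 := by
  decide +kernel

theorem card_pos_E6 [Fintype K] (hD : Good chevE6) {q : ℕ} (hq : IsPrimePow q) (hK : Fintype.card K = q ^ 2) :
    Nat.card ↥(chevE6.posUnipotent K ⊓ twistedE6 K q) = q ^ 36 := by
  obtain ⟨φ, e, h⟩ := exists_ctxE6 hD hq hK
  rw [e, (ctxE6 hD φ).pos_inf_G0, Ctx.card_Upos h, ← e6_U_exp]

theorem card_pos_D4 [Fintype K] (hD : Good chevD4) {q : ℕ} (hq : IsPrimePow q) (hK : Fintype.card K = q ^ 3) :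
    Nat.card ↥(chevD4.posUnipotent K ⊓ twistedD4 K q) = q ^ 12 := by
  obtain ⟨φ, e, h⟩ := exists_ctxD4 hD hq hK
  rw [e, (ctxD4 hD φ).pos_inf_G0, Ctx.card_Upos h, ← d4_U_exp]

theorem e6_cartan : ∀ s < chevE6.nroots, ∀ j : Fin chevE6.rank,
    chevE6.cartan j.val s =
      ∑ k : Fin chevE6.rank, (chevE6.coroot.getD s #[]).getD k.val 0 * chevE6.cartan j.val (chevE6.simple k.val) := by
  decide +kernel

theorem d4_cartan : ∀ s < chevD4.nroots, ∀ j : Fin chevD4.rank,
    chevD4.cartan j.val s =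
      ∑ k : Fin chevD4.rank, (chevD4.coroot.getD s #[]).getD k.val 0 * chevD4.cartan j.val (chevD4.simple k.val) := by
  decide +kernel

theorem e6_cartan_simple : ∀ i j : Fin 6, chevE6.cartan j.val (chevE6.simple i.val) =
    (([[2, 0, -1, 0, 0, 0], [0, 2, 0, -1, 0, 0], [-1, 0, 2, -1, 0, 0], [0, -1, -1, 2, -1, 0],
      [0, 0, 0, -1, 2, -1], [0, 0, 0, 0, -1, 2]] : List (List ℤ)).getD i.val []).getD j.val 0 := by
  decide +kernel

theorem d4_cartan_simple : ∀ i j : Fin 4, chevD4.cartan j.val (chevD4.simple i.val) =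
    (([[2, -1, 0, 0], [-1, 2, -1, -1], [0, -1, 2, 0], [0, -1, 0, 2]] : List (List ℤ)).getD i.val []).getD j.val 0 := by
  decide +kernel

theorem d4_ker_eq {G : Type*} [CommGroup G] (a u b c : G) (h0 : a * a = u) (h1 : u * u = a * b * c)
    (h2 : b * b = u) (h3 : c * c = u) : u = 1 ∧ a * a = 1 ∧ a * b * c = 1 := by
  have h : u * u * (u * u) = u * u * u := by
    calc u * u * (u * u) = (a * b * c) * (a * b * c) := by rw [h1]
      _ = (a * a) * (b * b) * (c * c) := by ac_rfl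
      _ = u * u * u := by rw [h0, h2, h3]
  have hu : u = 1 := by
    have h' : u * u * u * u = u * u * u * 1 := by
      rw [mul_one]; exact (show u * u * u * u = u * u * (u * u) by ac_rfl).trans h
    exact mul_left_cancel h'
  subst hu
  exact ⟨rfl, h0, by rw [← h1, mul_one]⟩

theorem card_diag_D4 [Fintype K] (hD : Good chevD4) {q : ℕ} (hq : IsPrimePow q) (hK : Fintype.card K = q ^ 3) :
    Nat.card ↥(chevD4.diagonalSubgroup K ⊓ twistedD4 K q) = (q - 1) ^ 2 * (q ^ 2 + q + 1) := by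
  obtain ⟨φ, e, h⟩ := exists_ctxD4 hD hq hK
  set C := ctxD4 hD φ with hC
  rw [e, C.diagonal_inf_G0 ChevBN.rootsD4]
  have hker : ((theta chevD4 K).comp (TorSym C.T C.φ).subtype).ker = ⊥ := by
    rw [eq_bot_iff]
    rintro ⟨x, hx⟩ hx1
    have h1 := (mem_ker_theta hD d4_cartan x).1 hx1
    let y : Fin 4 → Kˣ := x
    have hy : ∀ i : Fin 4, ∏ j : Fin 4, y j ^
        ((([[2, -1, 0, 0], [-1, 2, -1, -1], [0, -1, 2, 0], [0, -1, 0, 2]] : List (List ℤ)).getD i.val []).getD
          j.val 0) = 1 := fun i => by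
      have := h1 i
      simp only [chiX] at this
      refine Eq.trans (Finset.prod_congr rfl fun j _ => ?_) this
      rw [← d4_cartan_simple]
    have e0 := hy 0; have e1 := hy 1; have e2 := hy 2; have e3 := hy 3
    simp [Fin.prod_univ_four, _root_.zpow_ofNat, pow_two] at e0 e1 e2 e3
    have hsym : y 2 = Units.map (φ : K →* K) (y 0) := hx (0 : Fin 4)
    have hsym3 : y 3 = Units.map (φ : K →* K) (y 2) := hx (2 : Fin 4)
    have hsym0 : y 0 = Units.map (φ : K →* K) (y 3) := hx (3 : Fin 4)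
    obtain ⟨hu, ha2, habc⟩ := d4_ker_eq (y 0) (y 1) (y 2) (y 3)
      (mul_inv_eq_one.1 (by rw [← e0] <;> simp [y, mul_comm, mul_left_comm, mul_assoc])) (mul_inv_eq_one.1 (by rw [← e1] <;> simp [y, mul_comm, mul_left_comm, mul_assoc]))
      (mul_inv_eq_one.1 (by rw [← e2] <;> simp [y, mul_comm, mul_left_comm, mul_assoc])) (mul_inv_eq_one.1 (by rw [← e3] <;> simp [y, mul_comm, mul_left_comm, mul_assoc]))
    have hphi : Units.map (φ : K →* K) (y 0) = y 0 := by
      refine Units.ext ?_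
      have h2 : ((y 0 : Kˣ) : K) * (y 0 : Kˣ) = 1 := by rw [← Units.val_mul, ha2, Units.val_one]
      rcases mul_self_eq_one_iff.1 h2 with h3 | h3 <;> simp [h3]
    rw [hphi] at hsym
    rw [hsym, hphi] at hsym3
    rw [hsym, hsym3, ha2, one_mul] at habc
    refine Subgroup.mem_bot.2 (Subtype.ext (funext fun i => ?_))
    show y i = 1
    fin_cases i
    · exact habc
    · exact hu
    · exact hsym.trans habc
    · exact hsym3.trans habc
  have h2 := Ctx.card_TorSym_eq h
  rw [hker, Subgroup.card_bot, one_mul, Ctx.card_TorSym h] at h2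
  rw [← h2]
  show ∏ a : Fin 2, (q ^ d4Twist.len (chevD4.simple (d4Node a).val) - 1) = _
  simp only [d4_len, Fin.prod_univ_two]
  norm_num
  have hq1 : 1 ≤ q := by have := hq.two_le; omega
  have hq3 : 1 ≤ q ^ 3 := Nat.one_le_pow _ _ (by omega)
  zify [hq1, hq3]
  ring

theorem e6_ker_eq {G : Type*} [CommGroup G] (a b c d c' a' : G) (h0 : a * a = c) (h1 : b * b = d)
    (h2 : c * c = a * d) (h3 : d * d = b * c * c') (h4 : c' * c' = d * a') (h5 : a' * a' = c') :
    c = a * a ∧ d = 1 ∧ b = 1 ∧ a * a * a = 1 ∧ a' = a * a ∧ c' = a := by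
  subst h0 h5
  have hd : d = a * a * a := mul_left_cancel (a := a) (by rw [← h2]; ac_rfl)
  have hd' : d = a' * a' * a' := mul_right_cancel (b := a') (by rw [← h4]; ac_rfl)
  subst hd
  have hb : b * (a * a * (a' * a')) = a * a * a * (a * a * a) := by rw [h3]; ac_rfl
  have key : a * a * a * (a * a * a) * (a * a * a * (a * a * a)) = a * a * a * (a * a * a * a) * (a' * a' * a' * a') := by
    rw [← hb, show b * (a * a * (a' * a')) * (b * (a * a * (a' * a'))) = b * b * (a * a * a * a * (a' * a' * a' * a'))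
      by ac_rfl, h1]
    ac_rfl
  have k1 : a * a * a' = a * a * a * a := by
    have : a' * a' * a' * a' = a * a * a * a' := by rw [← hd']
    rw [this] at key
    refine mul_left_cancel (a := a * a * a * (a * a * a * a) * a) ?_
    calc _ = a * a * a * (a * a * a * a) * (a * a * a * a') := by ac_rfl
      _ = _ := key.symm
      _ = _ := by ac_rfl
  have ha' : a' = a * a := mul_left_cancel (a := a * a) (by rw [k1]; ac_rfl)
  subst ha'
  have h3a : a * a * a = 1 := by
    refine mul_left_cancel (a := a * a * a) ?_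
    rw [mul_one]
    conv_rhs => rw [hd']
    ac_rfl
  refine ⟨rfl, h3a, ?_, h3a, rfl, ?_⟩
  · refine mul_right_cancel (b := a * a * (a * a * (a * a))) ?_
    rw [hb, one_mul]
    ac_rfl
  · calc a * a * (a * a) = a * a * a * a := by ac_rfl
      _ = a := by rw [h3a, one_mul]

/-- Parameters on the nodes of E₆ as a family indexed by `Fin 6`. -/
@[reducible] def six {G : Type*} (x : Fin chevE6.rank → G) : Fin 6 → G := x

theorem card_diag_E6 [Fintype K] (hD : Good chevE6) {q : ℕ} (hq : IsPrimePow q) (hK : Fintype.card K = q ^ 2) :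
    Nat.gcd 3 (q + 1) * Nat.card ↥(chevE6.diagonalSubgroup K ⊓ twistedE6 K q) = (q - 1) ^ 4 * (q + 1) ^ 2 := by
  obtain ⟨φ, e, h⟩ := exists_ctxE6 hD hq hK
  set C := ctxE6 hD φ with hC
  rw [e, C.diagonal_inf_G0 ChevBN.rootsE6]
  have hmem : ∀ x : ↥(TorSym C.T C.φ), x ∈ ((theta chevE6 K).comp (TorSym C.T C.φ).subtype).ker ↔
      ∀ i : Fin 6, ∏ j : Fin 6, (six x.1) j ^
        ((([[2, 0, -1, 0, 0, 0], [0, 2, 0, -1, 0, 0], [-1, 0, 2, -1, 0, 0], [0, -1, -1, 2, -1, 0],
          [0, 0, 0, -1, 2, -1], [0, 0, 0, 0, -1, 2]] : List (List ℤ)).getD i.val []).getD j.val 0) = 1 := by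
    intro x
    rw [MonoidHom.mem_ker, MonoidHom.comp_apply, Subgroup.coe_subtype, mem_ker_theta hD e6_cartan]
    refine forall_congr' fun i => iff_of_eq (congrArg (· = 1) ?_)
    exact Finset.prod_congr rfl fun j _ => congrArg ((six x.1) j ^ ·) (e6_cartan_simple i j)
  have hcard : Nat.card ↥((theta chevE6 K).comp (TorSym C.T C.φ).subtype).ker = Nat.gcd 3 (q + 1) := by
    have hg : Nat.card {t : Kˣ // t ^ Nat.gcd 3 (q + 1) = 1} = Nat.gcd 3 (q + 1) := by
      rw [card_rootsOfOne, hK]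
      refine Nat.gcd_eq_right ((Nat.gcd_dvd_right 3 (q + 1)).trans ⟨q - 1, ?_⟩)
      have hq1 : 1 ≤ q := by have := hq.two_le; omega
      zify [hq1, Nat.one_le_pow 2 q (by omega)]
      ring
    have hφu : ∀ t : Kˣ, Units.map (φ : K →* K) t = t ^ q := fun t => Units.ext (by simpa using h.pow (t : K))
    rw [← hg]
    refine Nat.card_congr (Equiv.ofBijective
      (fun x => ⟨(six x.1.1) 0, ?_⟩) ⟨?_, ?_⟩)
    · let y : Fin 6 → Kˣ := x.1.1
      have hx := (hmem x.1).1 x.2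
      have e0 := hx 0; have e1 := hx 1; have e2 := hx 2; have e3 := hx 3; have e4 := hx 4; have e5 := hx 5
      simp [Fin.prod_univ_six, _root_.zpow_ofNat, pow_two] at e0 e1 e2 e3 e4 e5
      obtain ⟨-, -, -, ha3, ha', -⟩ := e6_ker_eq (y 0) (y 1) (y 2) (y 3) (y 4) (y 5)
        (mul_inv_eq_one.1 (by rw [← e0] <;> simp [y, mul_comm, mul_left_comm, mul_assoc])) (mul_inv_eq_one.1 (by rw [← e1] <;> simp [y, mul_comm, mul_left_comm, mul_assoc]))
        (mul_inv_eq_one.1 (by rw [← e2] <;> simp [y, mul_comm, mul_left_comm, mul_assoc])) (mul_inv_eq_one.1 (by rw [← e3] <;> simp [y, mul_comm, mul_left_comm, mul_assoc]))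
        (mul_inv_eq_one.1 (by rw [← e4] <;> simp [y, mul_comm, mul_left_comm, mul_assoc])) (mul_inv_eq_one.1 (by rw [← e5] <;> simp [y, mul_comm, mul_left_comm, mul_assoc]))
      have hsym : y 5 = y 0 ^ q := (x.1.2 (0 : Fin 6)).trans (hφu _)
      refine pow_gcd_eq_one.2 ⟨(by rw [pow_succ, pow_two]; exact ha3 : y 0 ^ 3 = 1), ?_⟩
      rw [pow_succ, ← hsym, ha', ha3]
    · intro x x' hxx
      let y : Fin 6 → Kˣ := x.1.1
      let y' : Fin 6 → Kˣ := x'.1.1
      have h0 : y 0 = y' 0 := congrArg Subtype.val hxx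
      have key : ∀ x : ↥((theta chevE6 K).comp (TorSym C.T C.φ).subtype).ker, ∀ i : Fin 6,
          (six x.1.1) i = ((six x.1.1) 0) ^ ([1, 0, 2, 0, 1, 2].getD i.val 0) := by
        intro x
        let y : Fin 6 → Kˣ := x.1.1
        have hx := (hmem x.1).1 x.2
        have e0 := hx 0; have e1 := hx 1; have e2 := hx 2; have e3 := hx 3; have e4 := hx 4; have e5 := hx 5
        simp [Fin.prod_univ_six, _root_.zpow_ofNat, pow_two] at e0 e1 e2 e3 e4 e5
        obtain ⟨hc, hd, hb, ha3, ha', hc'⟩ := e6_ker_eq (y 0) (y 1) (y 2) (y 3) (y 4) (y 5)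
          (mul_inv_eq_one.1 (by rw [← e0] <;> simp [y, mul_comm, mul_left_comm, mul_assoc])) (mul_inv_eq_one.1 (by rw [← e1] <;> simp [y, mul_comm, mul_left_comm, mul_assoc]))
          (mul_inv_eq_one.1 (by rw [← e2] <;> simp [y, mul_comm, mul_left_comm, mul_assoc])) (mul_inv_eq_one.1 (by rw [← e3] <;> simp [y, mul_comm, mul_left_comm, mul_assoc]))
          (mul_inv_eq_one.1 (by rw [← e4] <;> simp [y, mul_comm, mul_left_comm, mul_assoc])) (mul_inv_eq_one.1 (by rw [← e5] <;> simp [y, mul_comm, mul_left_comm, mul_assoc]))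
        intro i
        show y i = y 0 ^ _
        fin_cases i
        · simp
        · simpa using hb
        · simpa [pow_two] using hc
        · simpa using hd
        · simpa using hc'
        · simpa [pow_two] using ha'
      refine Subtype.ext (Subtype.ext (funext fun i => ?_))
      show y i = y' i
      rw [show y i = y 0 ^ _ from key x i, show y' i = y' 0 ^ _ from key x' i, h0]
    · rintro ⟨t, ht⟩
      have ht3 : t ^ 3 = 1 := by
        obtain ⟨k, hk⟩ := Nat.gcd_dvd_left 3 (q + 1)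
        rw [hk, pow_mul, ht, one_pow]
      have htq : t ^ q * t = 1 := by
        obtain ⟨k, hk⟩ := Nat.gcd_dvd_right 3 (q + 1)
        rw [← pow_succ, hk, pow_mul, ht, one_pow]
      have h2 : t ^ q = t ^ 2 := mul_right_cancel (b := t) (by rw [htq, ← pow_succ]; exact ht3.symm)
      have h4 : (t ^ 2) ^ q = t := by
        rw [← pow_mul, mul_comm, pow_mul, h2, ← pow_mul, show 2 * 2 = 3 + 1 from rfl, pow_succ, ht3, one_mul]
      let y : Fin 6 → Kˣ := ![t, 1, t ^ 2, 1, t, t ^ 2]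
      have hy : (show Fin chevE6.rank → Kˣ from y) ∈ TorSym C.T C.φ := by
        intro i
        show y ((![5, 1, 4, 3, 2, 0] : Fin 6 → Fin 6) i) = Units.map (φ : K →* K) (y i)
        have key : ∀ i : Fin 6, y ((![5, 1, 4, 3, 2, 0] : Fin 6 → Fin 6) i) = y i ^ q := by
          intro i
          fin_cases i <;> simp [y, h2, h4]
        exact (key i).trans (hφu _).symm
      refine ⟨⟨⟨_, hy⟩, (hmem _).2 fun i => ?_⟩, Subtype.ext rfl⟩
      show ∏ j : Fin 6, y j ^ _ = 1
      have h3' : t * t * t = 1 := by rw [← ht3, pow_succ, pow_two]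
      fin_cases i <;> simp [Fin.prod_univ_six, y, _root_.zpow_ofNat, pow_two, mul_assoc, mul_inv_eq_one,
        inv_mul_eq_one, mul_comm, mul_left_comm] <;>
        first | (rw [← mul_assoc]; exact h3') | (rw [← mul_inv, eq_inv_iff_mul_eq_one, ← mul_assoc]; exact h3')
  rw [← hcard]
  have h2 := Ctx.card_TorSym_eq h
  rw [Ctx.card_TorSym h] at h2
  refine h2.symm.trans ?_
  show ∏ a : Fin 4, (q ^ e6Twist.len (chevE6.simple (e6Node a).val) - 1) = _
  simp only [e6_len, Fin.prod_univ_four]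
  norm_num
  have hq1 : 1 ≤ q := by have := hq.two_le; omega
  have hq2 : 1 ≤ q ^ 2 := Nat.one_le_pow _ _ (by omega)
  zify [hq1, hq2]
  ring

end Cfsg.Agent.TwistE6D4
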