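/-
Weighted length polynomials of finite crystallographic Coxeter groups from chain certificates.

* `psumF`, `psumF_zero`, `psumF_succ`, `psumF_top` : sums of a function multiplicative along
  reduced words; `repsW`, `cast_sum_eq_evalP_repsW`; `plusP`.
-/
import Cfsg.Agent.Lib.Coxeter.PoincareTypes

set_option autoImplicit false

namespace Cfsg.Agent.TwistE6D4

open Cfsg.Agent.BN Cfsg.Agent.Coxeter

variable {n : ℕ} [NeZero n] {M : CoxeterMatrix (Fin n)}

/-- The value of a weight on a word of natural numbers. -/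
def wgt (c : Fin n → ℕ) (r : List ℕ) : ℕ := (r.map fun i => c (Fin.ofNat n i)).prod

/-- The sum of `f` over a standard parabolic subgroup. -/
noncomputable def psumF (M : CoxeterMatrix (Fin n)) (f : M.Group → ℕ) (k : ℕ) : ℕ :=
  ∑ᶠ w : par M k, f (w : M.Group)

theorem psumF_top (f : M.Group → ℕ) [Fintype M.Group] : psumF M f n = ∑ w : M.Group, f w := by
  classical
  have htop : par M n = ⊤ := by
    rw [eq_top_iff, ← M.toCoxeterSystem.subgroup_closure_range_simple]
    exact Subgroup.closure_mono fun _ ⟨i, hi⟩ => ⟨i, i.isLt, hi⟩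
  rw [psumF, finsum_eq_sum_of_fintype]
  exact Fintype.sum_bijective (fun w : par M n => (w : M.Group))
    ⟨Subtype.val_injective, fun x => ⟨⟨x, by rw [htop]; trivial⟩, rfl⟩⟩ _ _ fun _ => rfl

variable {f : M.Group → ℕ} {c : Fin n → ℕ}
  (hf : ∀ l, IsReduced M.toCoxeterSystem.simple l → f (wprod M.toCoxeterSystem.simple l) = (l.map c).prod)
include hf

theorem psumF_zero : psumF M f 0 = 1 := by
  haveI : Subsingleton (par M 0) := by rw [par_zero]; infer_instance
  rw [psumF, finsum_eq_single _ (1 : par M 0) fun x hx => absurd (Subsingleton.elim x 1) hx]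
  simpa using hf [] isReduced_nil

theorem psumF_succ (hA : IsCartan M (cartanOf M)) {R : List (List ℤ)}
    (hR : List.ofFn (fun i => List.ofFn (cartanOf M i)) = R) (hex : HasExchange M.toCoxeterSystem.simple)
    [Finite M.Group] {k : ℕ} {reps : List (List ℕ)} {trans : List (List (ℕ × List ℕ))} {keys : List ℤ}
    (hc : stepCheck R n k reps trans keys = true) (hd : depthCheck reps trans = true) :
    psumF M f (k + 1) = (reps.map (wgt c)).sum * psumF M f k := by
  classical
  haveI := Fintype.ofFinite M.Group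
  obtain ⟨-, -, -, hinj, hcover, -⟩ := par_succ_spec hA hR hc
  let g : Fin reps.length × par M k → par M (k + 1) := fun p =>
    ⟨elemOf M reps[p.1.val] * p.2.1,
      mul_mem (elemOf_rep_mem hA hR hc (List.getElem_mem p.1.isLt)) (par_mono k p.2.2)⟩
  have hg : Function.Bijective g := by
    constructor
    · rintro ⟨⟨a, ha⟩, h, hh⟩ ⟨⟨b, hb⟩, h', hh'⟩ heq
      obtain ⟨rfl, rfl⟩ := hinj a b ha hb h h' hh hh' (congrArg Subtype.val heq)
      rfl
    · rintro ⟨x, hx⟩
      obtain ⟨a, ha, h, hh, rfl⟩ := hcover x hx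
      exact ⟨⟨⟨a, ha⟩, h, hh⟩, rfl⟩
  have hmul : ∀ (a : ℕ) (ha : a < reps.length) (h : M.Group), h ∈ par M k →
      f (elemOf M reps[a] * h) = wgt c reps[a] * f h := by
    intro a ha h hh
    obtain ⟨lh, hlh, rfl⟩ := exists_isReduced hex.sq hex.gen h
    have h1 := wlen_rep_mul hA hR hex hc hd ha hh
    have e : elemOf M reps[a] * wprod M.toCoxeterSystem.simple lh =
        wprod M.toCoxeterSystem.simple (reps[a].map (Fin.ofNat n) ++ lh) := by
      rw [wprod_append, elemOf_eq_wprod]
    have hred : IsReduced M.toCoxeterSystem.simple (reps[a].map (Fin.ofNat n) ++ lh) := by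
      show wlen _ _ = _
      rw [← e, h1, List.length_append, List.length_map]
      exact congrArg _ hlh
    rw [e, hf _ hred, hf lh hlh, List.map_append, List.prod_append, List.map_map, wgt]
    rfl
  rw [psumF, psumF, finsum_eq_sum_of_fintype, finsum_eq_sum_of_fintype,
    ← Fintype.sum_bijective g hg (fun p => wgt c reps[p.1.val] * f (p.2 : M.Group)) _ fun p =>
      (hmul _ p.1.isLt _ p.2.2).symm,
    Fintype.sum_prod_type]
  change ∑ x : Fin reps.length, ∑ y : par M k, wgt c reps[x.val] * f (y : M.Group) = _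
  rw [← Finset.sum_mul_sum]
  congr 1
  rw [← List.sum_ofFn]
  congr 1
  apply List.ext_getElem <;> simp

omit hf

/-- `∑ X ^ (weight of r)`. -/
def repsW (w : List ℕ) (reps : List (List ℕ)) : List ℤ :=
  reps.foldr (fun r acc => addP (monoP (r.map fun i => w.getD (i % n) 0).sum) acc) []

theorem cast_sum_eq_evalP_repsW (q : ℕ) (w : List ℕ) (reps : List (List ℕ)) :
    (((reps.map (wgt fun a : Fin n => q ^ w.getD a.val 0)).sum : ℕ) : ℤ) =
      evalP (repsW (n := n) w reps) (q : ℤ) := by
  induction reps with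
  | nil => simp [repsW]
  | cons r l ih =>
    simp only [repsW, List.foldr_cons, List.map_cons, List.sum_cons] at ih ⊢
    have key : wgt (fun a : Fin n => q ^ w.getD a.val 0) r = q ^ (r.map fun i => w.getD (i % n) 0).sum := by
      induction r with
      | nil => simp [wgt]
      | cons i r ihr =>
        simp only [wgt, List.map_cons, List.prod_cons, List.sum_cons, pow_add] at ihr ⊢
        rw [ihr, Fin.val_ofNat]
    rw [evalP_addP, evalP_monoP, ← ih, key]
    push_cast
    rfl

/-- `X ^ d + 1` for `1 ≤ d`. -/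
def plusP (d : ℕ) : List ℤ := 1 :: (List.replicate (d - 1) 0 ++ [1])

theorem evalP_plusP (q : ℤ) {d : ℕ} (hd : 1 ≤ d) : evalP (plusP d) q = q ^ d + 1 := by
  obtain ⟨e, rfl⟩ := Nat.exists_eq_add_of_le hd
  have h := evalP_monoP q e
  simp only [monoP] at h
  rw [plusP, evalP_cons, Nat.add_sub_cancel_left, h, pow_add, pow_one]
  ring

theorem f4_poly_twist : prodP ([repsW (n := 4) [1, 1, 2, 2] f4Reps0, repsW (n := 4) [1, 1, 2, 2] f4Reps1,
      repsW (n := 4) [1, 1, 2, 2] f4Reps2, repsW (n := 4) [1, 1, 2, 2] f4Reps3,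
      binP 1, binP 1, binP 1, binP 1, plusP 1, plusP 1]) =
    prodP [binP 2, plusP 5, binP 6, binP 8, plusP 9, binP 12] := by decide +kernel

theorem g2_poly_twist : prodP ([repsW (n := 2) [3, 1] g2Reps0, repsW (n := 2) [3, 1] g2Reps1,
      binP 1, binP 1, [1, 1, 1]]) =
    prodP [binP 2, binP 6, [1, 0, 0, 0, 1, 0, 0, 0, 1]] := by decide +kernel

end Cfsg.Agent.TwistE6D4
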