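/-
The Weyl group of the (B,N)-pair of a twisted group as a Coxeter group.

* `wW`, `posW`, `OrdOK` : words acting on roots and the decidable test for the orders of products.
* `sa`, `sg`, `wprod_sg_eq_one`, `exists_cs`, `exists_weylHom`; `e6_ordOK`, `d4_ordOK`.
-/
import Cfsg.Agent.Lib.TwistE6D4.Root
import Cfsg.Agent.Lib.TwistE6D4.DataRoot
import Cfsg.Agent.Lib.BN.Coxeter
import Mathlib.GroupTheory.Coxeter.Matrix

set_option autoImplicit false
set_option maxRecDepth 100000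

namespace Cfsg.Agent.TwistE6D4

open Cfsg.Lie Cfsg.Lie.ChevalleyDatum Cfsg.Agent.Chev

variable {D : ChevalleyDatum}

/-- A word of nodes acting on roots. -/
def wW (T : Twist D) {m : ℕ} (node : Fin m → Fin D.rank) (l : List (Fin m)) (r : ℕ) : ℕ :=
  l.foldr (fun a q => wF T (node a) q) r

/-- A word keeps the positive orbits positive. -/
abbrev posW (T : Twist D) {m : ℕ} (node : Fin m → Fin D.rank) (l : List (Fin m)) : Prop :=
  ∀ r ∈ T.reps, 0 < T.ht r → 0 < T.ht (wW T node l r)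

/-- The word (a b)^k. -/
def pairW {α : Type*} (a b : α) (k : ℕ) : List α := (List.replicate k [a, b]).flatten

/-- The test for one product of two folded reflections to have order `k`. -/
abbrev OrdAt (T : Twist D) {m : ℕ} (node : Fin m → Fin D.rank) (a b : Fin m) (k : ℕ) : Prop :=
  0 < k ∧ posW T node (pairW a b k) ∧ ∀ j < k, 0 < j → ¬ posW T node (pairW a b j)

/-- The orders of the products of two folded reflections are those of `M`. -/
def OrdOK (T : Twist D) {m : ℕ} (node : Fin m → Fin D.rank) (M : CoxeterMatrix (Fin m)) : Prop :=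
  ∀ a b, OrdAt T node a b (M a b)

theorem e6_ordOK : OrdOK e6Twist e6Node CoxeterMatrix.F₄ := by
  intro a b
  fin_cases a <;> fin_cases b <;> decide +kernel

theorem d4_ordOK : OrdOK d4Twist d4Node CoxeterMatrix.G₂ := by
  intro a b
  fin_cases a <;> fin_cases b <;> decide +kernel

namespace Ctx

variable {K : Type*} [Field K] (C : Ctx D K)

theorem ww_val (l : List (Fin C.m)) (r : C.Orb) :
    wW C.T C.node l r.1 < D.nroots ∧ (C.rgd.ww l r).1 = C.repOf (wW C.T C.node l r.1) := by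
  induction l with
  | nil => exact ⟨C.orb_lt r, (C.repOf_self r.2).symm⟩
  | cons a l ih =>
    refine ⟨C.wF_lt a ih.1, ?_⟩
    show C.repOf (wF C.T (C.node a) (C.rgd.ww l r).1) = C.repOf (wF C.T (C.node a) (wW C.T C.node l r.1))
    rw [ih.2, C.repOf_wF a ih.1]

theorem pos_ww (l : List (Fin C.m)) (r : C.Orb) :
    C.rgd.pos (C.rgd.ww l r) ↔ 0 < C.T.ht (wW C.T C.node l r.1) := by
  show 0 < C.T.ht (C.rgd.ww l r).1 ↔ _
  rw [(C.ww_val l r).2, C.ht_repOf (C.ww_val l r).1]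

theorem nw_mem_H_iff (l : List (Fin C.m)) : C.rgd.nw l ∈ C.rgd.H ↔ posW C.T C.node l := by
  rw [C.rgd.mem_H_iff]
  exact ⟨fun h r hr hp => (C.pos_ww l ⟨r, hr⟩).1 (h ⟨r, hr⟩ hp),
    fun h r hp => (C.pos_ww l r).2 (h r.1 r.2 hp)⟩

/-- The distinguished generator of a node. -/
def sa (a : Fin C.m) : ↥C.rgd.bnPair.S := ⟨C.rgd.nG a, a, rfl⟩

/-- The involution of a node in the Weyl group. -/
def sg (a : Fin C.m) : BN.Weyl C.rgd.bnPair := BN.sigma C.rgd.bnPair (C.sa a)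

theorem sa_bijective : Function.Bijective C.sa := by
  refine ⟨fun a b h => C.rgd.n_inj ?_, ?_⟩
  · rw [show C.rgd.n a = C.rgd.n b from congrArg Subtype.val (congrArg Subtype.val h), inv_mul_cancel]
    exact one_mem _
  · rintro ⟨_, a, rfl⟩; exact ⟨a, rfl⟩

theorem sg_wOf : ∀ l : List (Fin C.m), ∃ hn : (⟨C.rgd.nw l, C.rgd.N_le_G (C.rgd.nw_mem_N l)⟩ : C.rgd.G) ∈
    C.rgd.bnPair.N, BN.wprod C.sg l = BN.wOf C.rgd.bnPair hn
  | [] => ⟨C.rgd.nw_mem_N [], rfl⟩
  | a :: l => by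
    obtain ⟨hn, e⟩ := sg_wOf l
    refine ⟨C.rgd.nw_mem_N (a :: l), ?_⟩
    rw [BN.wprod_cons, e]
    rfl

theorem wprod_sg_eq_one (l : List (Fin C.m)) : BN.wprod C.sg l = 1 ↔ posW C.T C.node l := by
  obtain ⟨hn, e⟩ := C.sg_wOf l
  rw [e, BN.wOf_eq_one_iff, ← C.nw_mem_H_iff, ← C.rgd.nw_mem_B_iff]
  rfl

theorem sg_pair_pow (a b : Fin C.m) : ∀ k, (C.sg a * C.sg b) ^ k = BN.wprod C.sg (pairW a b k)
  | 0 => rfl
  | k + 1 => by
    rw [pow_succ', sg_pair_pow a b k]
    simp only [pairW, List.replicate_succ, List.flatten_cons, List.cons_append, List.nil_append,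
      BN.wprod_cons, mul_assoc]

variable {M : CoxeterMatrix (Fin C.m)} (hM : OrdOK C.T C.node M)
include hM

theorem orderOf_sg (a b : Fin C.m) : orderOf (C.sg a * C.sg b) = M a b := by
  obtain ⟨h0, h1, h2⟩ := hM a b
  rw [orderOf_eq_iff h0]
  refine ⟨?_, fun j hj hj0 => ?_⟩
  · rw [C.sg_pair_pow, C.wprod_sg_eq_one]; exact h1
  · rw [C.sg_pair_pow, ne_eq, C.wprod_sg_eq_one]; exact h2 j hj hj0

theorem exists_cs : ∃ cs : CoxeterSystem M (BN.Weyl C.rgd.bnPair), ∀ a, cs.simple a = C.sg a := by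
  obtain ⟨M0, cs0, hcs0⟩ := (BN.hasExchange C.rgd.bnPair).exists_coxeterSystem
  let E := Equiv.ofBijective C.sa C.sa_bijective
  let f : M.Group →* BN.Weyl C.rgd.bnPair := M.toCoxeterSystem.lift ⟨C.sg, fun a b => by
    rw [← C.orderOf_sg hM a b]; exact pow_orderOf_eq_one _⟩
  let g : BN.Weyl C.rgd.bnPair →* M.Group := cs0.lift ⟨fun s => M.toCoxeterSystem.simple (E.symm s), fun s t => by
    obtain ⟨a, rfl⟩ := E.surjective s
    obtain ⟨b, rfl⟩ := E.surjective t
    simp only [Equiv.symm_apply_apply]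
    have h1 := cs0.simple_mul_simple_pow (E a) (E b)
    rw [hcs0, hcs0] at h1
    obtain ⟨c, hc⟩ : M a b ∣ M0 (E a) (E b) := by
      rw [← C.orderOf_sg hM a b]; exact orderOf_dvd_of_pow_eq_one h1
    rw [hc, pow_mul, M.toCoxeterSystem.simple_mul_simple_pow, one_pow]⟩
  have hf : ∀ a, f (M.toCoxeterSystem.simple a) = C.sg a := fun a => M.toCoxeterSystem.lift_apply_simple _ a
  have hg : ∀ s, g (cs0.simple s) = M.toCoxeterSystem.simple (E.symm s) := fun s => cs0.lift_apply_simple _ s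
  have hga : ∀ a, g (C.sg a) = M.toCoxeterSystem.simple a := fun a => by
    show g (BN.sigma _ (C.sa a)) = _
    rw [← hcs0, hg, show E.symm (C.sa a) = a from E.symm_apply_apply a]
  let e : M.Group ≃* BN.Weyl C.rgd.bnPair := MonoidHom.toMulEquiv f g
    (M.toCoxeterSystem.ext_simple fun a => by rw [MonoidHom.comp_apply, hf, hga]; rfl)
    (cs0.ext_simple fun s => by
      obtain ⟨a, rfl⟩ := C.sa_bijective.2 s
      rw [hcs0]
      show f (g (C.sg a)) = _
      rw [hga, hf]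
      rfl)
  exact ⟨M.toCoxeterSystem.map e, fun a => hf a⟩

theorem exists_weylHom {Md : List (List ℤ)} {d : ℤ} (hR : ChevBN.Roots D Md d) {G : Subgroup (GL D.Idx K)}
    (hG : G = C.G0) : ∃ φ : ↥(D.monomialSubgroup K ⊓ G) →* M.Group, Function.Surjective φ ∧
      φ.ker = (D.diagonalSubgroup K ⊓ G).subgroupOf (D.monomialSubgroup K ⊓ G) := by
  obtain rfl : G = C.rgd.G := hG.trans C.rgd_G.symm
  obtain ⟨cs, -⟩ := C.exists_cs hM
  have hN : D.monomialSubgroup K ⊓ C.rgd.G = C.rgd.N := by rw [C.rgd_G]; exact C.monomial_inf_G0 hR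
  have hH : D.diagonalSubgroup K ⊓ C.rgd.G = C.rgd.H := by rw [C.rgd_G]; exact C.diagonal_inf_G0 hR
  let ι : ↥(D.monomialSubgroup K ⊓ C.rgd.G) →* C.rgd.bnPair.N :=
    { toFun := fun g => ⟨⟨g.1, g.2.2⟩, hN.le g.2⟩
      map_one' := rfl
      map_mul' := fun _ _ => rfl }
  have hι : Function.Surjective ι := fun n => ⟨⟨n.1.1, hN.symm.le n.2⟩, rfl⟩
  refine ⟨cs.mulEquiv.toMonoidHom.comp ((QuotientGroup.mk' (BN.T C.rgd.bnPair)).comp ι),
    cs.mulEquiv.surjective.comp ((QuotientGroup.mk'_surjective _).comp hι), ?_⟩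
  ext g
  simp only [MonoidHom.mem_ker, MonoidHom.comp_apply, MulEquiv.coe_toMonoidHom,
    EmbeddingLike.map_eq_one_iff, QuotientGroup.mk'_apply, QuotientGroup.eq_one_iff, Subgroup.mem_subgroupOf]
  rw [hH, ← C.rgd.B_inf_N]
  exact ⟨fun h => ⟨h.1, h.2⟩, fun h => ⟨h.1, h.2⟩⟩

end Ctx

end Cfsg.Agent.TwistE6D4
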