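/-
Orders of ²E₆(q) and ³D₄(q).

* `card_cell_sigma_U` : in a root group data the cell of a fundamental reflection has |U_α| cosets.
* `hasExchange_of_equiv`; `card_Uo_simple`; `Ctx.card_G0_eq`; `card_twistedE6`, `card_twistedD4`.
-/
import Cfsg.Agent.Lib.TwistE6D4.Results
import Cfsg.Agent.Lib.TwistE6D4.Weyl
import Cfsg.Agent.Lib.TwistE6D4.WeightSum
import Cfsg.Agent.Lib.RGD.NormalForm
import Cfsg.Agent.Lib.ChevOrder.BNCount

set_option autoImplicit false

namespace Cfsg.Agent.TwistE6D4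

open Cfsg.Lie Cfsg.Lie.ChevalleyDatum Cfsg.Agent.Chev

theorem card_cell_sigma_U {Γ : Type*} [Group Γ] {Φ I : Type*} (R : RGD.RootData Γ Φ I) (i : I) :
    Nat.card (ChevOrder.cell R.bnPair (BN.sigma R.bnPair ⟨R.nG i, i, rfl⟩)) = Nat.card (R.U (R.simple i)) := by
  set s : ↥R.bnPair.S := ⟨R.nG i, i, rfl⟩
  have hn : R.nG i ∈ R.bnPair.N := R.bnPair.subset s.2
  have hU : R.U (R.simple i) ≤ R.B := (R.U_le_Upos (R.pos_simple i)).trans R.Upos_le_B
  have hmem : ∀ x : R.U (R.simple i), ((⟨x.1, R.B_le_G (hU x.2)⟩ * R.nG i : R.G) : R.G ⧸ R.bnPair.B) ∈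
      ChevOrder.cell R.bnPair (BN.sigma R.bnPair s) := fun x =>
    (ChevOrder.mk_mem_cell_iff _).2 (BN.mul_mem_C_left _ (hU x.2) (BN.self_mem_C _ hn))
  refine (Nat.card_congr (Equiv.ofBijective (fun x : R.U (R.simple i) => (⟨_, hmem x⟩ :
    ChevOrder.cell R.bnPair (BN.sigma R.bnPair s))) ⟨?_, ?_⟩)).symm
  · intro x y h
    have h0 := congrArg Subtype.val h
    have h1 : ((x.1 : Γ) * R.n i)⁻¹ * (y.1 * R.n i) ∈ R.B := (QuotientGroup.eq.1 h0 :)
    have h2 : (R.n i)⁻¹ * (x.1⁻¹ * y.1) * R.n i = 1 := by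
      rw [← Subgroup.mem_bot, ← R.B_inf_V]
      refine ⟨?_, R.U_le_Vneg ?_ (R.conj_n_simple' (mul_mem (inv_mem x.2) y.2))⟩
      · rw [show (R.n i)⁻¹ * (x.1⁻¹ * y.1) * R.n i = ((x.1 : Γ) * R.n i)⁻¹ * (y.1 * R.n i) by group]
        exact h1
      · rw [R.pos_neg, not_not]; exact R.pos_simple i
    refine Subtype.ext (inv_mul_eq_one.1 ?_)
    calc (x.1 : Γ)⁻¹ * y.1 = R.n i * ((R.n i)⁻¹ * (x.1⁻¹ * y.1) * R.n i) * (R.n i)⁻¹ := by group
      _ = 1 := by rw [h2]; group
  · rintro ⟨a, ha⟩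
    induction a using QuotientGroup.induction_on with | _ g =>
    obtain ⟨b, hb, b', hb', e⟩ := (BN.mem_C_mk R.bnPair).1 ((ChevOrder.mk_mem_cell_iff _).1 ha)
    obtain ⟨k, hk, x, hx, h, hh, e'⟩ := R.exists_B' i (show (b : Γ) ∈ R.B from hb)
    refine ⟨⟨x, hx⟩, Subtype.ext (QuotientGroup.eq.2 ?_)⟩
    show (x * R.n i)⁻¹ * (g : Γ) ∈ R.B
    have eg : (g : Γ) = b * R.n i * b' := congrArg Subtype.val e
    rw [eg, e', show (x * R.n i)⁻¹ * (k * x * h * R.n i * b') =
      ((R.n i)⁻¹ * (x⁻¹ * k * x) * R.n i) * ((R.n i)⁻¹ * h * R.n i) * b' by group]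
    refine mul_mem (mul_mem (R.Udel_le_B i (R.Udel_conj_n' i ?_)) (R.H_le_B (R.n_conj_H' i hh))) hb'
    simpa using R.U_conj_Udel i (inv_mem hx) k hk

section Transport

variable {S S' W W' : Type*} [Group W] [Group W'] {σ : S → W} {σ' : S' → W'}

theorem wprod_equiv (e : W' ≃* W) (E : S' ≃ S) (h : ∀ a, e (σ' a) = σ (E a)) :
    ∀ l, BN.wprod σ (l.map E) = e (BN.wprod σ' l)
  | [] => (map_one e).symm
  | a :: l => by rw [List.map_cons, BN.wprod_cons, wprod_equiv e E h l, BN.wprod_cons, map_mul, h]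

theorem wlen_equiv (e : W' ≃* W) (E : S' ≃ S) (h : ∀ a, e (σ' a) = σ (E a)) (w : W') :
    BN.wlen σ (e w) = BN.wlen σ' w := by
  unfold BN.wlen
  congr 1
  ext k
  constructor
  · rintro ⟨l, rfl, hl⟩
    refine ⟨l.map E.symm, List.length_map _, e.injective ?_⟩
    rw [← hl, ← wprod_equiv e E h, List.map_map]
    simp
  · rintro ⟨l, rfl, hl⟩
    exact ⟨l.map E, List.length_map _, by rw [wprod_equiv e E h, hl]⟩

theorem isReduced_equiv (e : W' ≃* W) (E : S' ≃ S) (h : ∀ a, e (σ' a) = σ (E a)) (l : List S') :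
    BN.IsReduced σ (l.map E) ↔ BN.IsReduced σ' l := by
  rw [BN.IsReduced, BN.IsReduced, wprod_equiv e E h, wlen_equiv e E h, List.length_map]

theorem hasExchange_of_equiv (hex : BN.HasExchange σ) (e : W' ≃* W) (E : S' ≃ S)
    (h : ∀ a, e (σ' a) = σ (E a)) : BN.HasExchange σ' where
  sq a := e.injective (by rw [map_mul, map_one, h]; exact hex.sq _)
  gen := by
    refine eq_top_iff.2 fun w _ => ?_
    obtain ⟨l, hl⟩ := BN.exists_word hex.sq hex.gen (e w)
    have e1 : BN.wprod σ' (l.map E.symm) = w := e.injective (by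
      rw [← hl, ← wprod_equiv e E h, List.map_map]; simp)
    rw [← e1]
    refine Subgroup.list_prod_mem _ fun x hx => ?_
    obtain ⟨a, -, rfl⟩ := List.mem_map.1 hx
    exact Subgroup.subset_closure ⟨a, rfl⟩
  inj a b hab := E.injective (hex.inj (by rw [← h, ← h, hab]))
  exch l a hl hle := by
    obtain ⟨i, hi, e1⟩ := hex.exch (l.map E) (E a) ((isReduced_equiv e E h l).2 hl) (by
      rw [List.length_map, ← h, wprod_equiv e E h, ← map_mul, wlen_equiv e E h]; exact hle)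
    refine ⟨i, by simpa using hi, e.injective ?_⟩
    rw [← h, wprod_equiv e E h, ← map_mul, List.eraseIdx_map, wprod_equiv e E h] at e1
    exact e1

end Transport

variable {D : ChevalleyDatum} {K : Type*} [Field K]

namespace Ctx

variable [Fintype K] {C : Ctx D K} {q k : ℕ} (hq : Hyp C q k)
include hq

theorem card_Uo_simple (a : Fin C.m) : Nat.card (C.Uo (C.p a)) = q ^ C.L a := by
  classical
  have hp := C.hR.rep_simple a
  rw [Uo, (C.orbS_ok hp).card_fix C.hT C.hD C.φ, Finset.prod_eq_single (C.p a)]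
  · exact card_Par hq hp
  · intro r hr hne
    rw [Finset.mem_filter, List.mem_toFinset] at hr
    exact absurd (by rw [← C.repOf_self hr.1]; exact C.repOf_eq hp hr.2) hne
  · intro h
    exact absurd (Finset.mem_filter.2 ⟨List.mem_toFinset.2 hp, 0, C.L_pos a, rfl⟩) h

/-- The order of the group as a weighted sum over its Weyl group. -/
theorem card_G0_eq {M : CoxeterMatrix (Fin C.m)} (hM : OrdOK C.T C.node M) :
    ∃ (inst : Fintype M.Group) (f : M.Group → ℕ), BN.HasExchange M.toCoxeterSystem.simple ∧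
      (∀ l, BN.IsReduced M.toCoxeterSystem.simple l →
        f (BN.wprod M.toCoxeterSystem.simple l) = (l.map fun a => q ^ C.L a).prod) ∧
      Nat.card C.G0 = Nat.card C.rgd.Upos * Nat.card C.rgd.H * ∑ w ∈ @Finset.univ _ inst, f w := by
  classical
  obtain ⟨cs, hcs⟩ := C.exists_cs hM
  let P := C.rgd.bnPair
  let E := Equiv.ofBijective C.sa C.sa_bijective
  let e : M.Group ≃* BN.Weyl P := cs.mulEquiv.symm
  have he : ∀ a, e (M.toCoxeterSystem.simple a) = BN.sigma P (E a) := hcs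
  letI : Fintype (BN.Weyl P) := Fintype.ofFinite _
  letI iM : Fintype M.Group := Fintype.ofEquiv _ e.symm.toEquiv
  refine ⟨iM, fun w => Nat.card (ChevOrder.cell P (e w)),
    hasExchange_of_equiv (BN.hasExchange P) e E he, fun l hl => ?_, ?_⟩
  · show Nat.card (ChevOrder.cell P (e (BN.wprod M.toCoxeterSystem.simple l))) = _
    rw [← wprod_equiv e E he, ChevOrder.card_cell_wprod P _ ((isReduced_equiv e E he l).2 hl), List.map_map]
    refine congrArg List.prod (List.map_congr_left fun a _ => ?_)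
    rw [Function.comp_apply, ← ChevOrder.card_cell_sigma]
    exact (card_cell_sigma_U C.rgd a).trans (card_Uo_simple hq a)
  · have hB : Nat.card P.B = Nat.card C.rgd.B :=
      Nat.card_congr (Subgroup.subgroupOfEquivOfLe C.rgd.B_le_G).toEquiv
    rw [← C.rgd_G, ChevOrder.card_eq_sum_cells P, hB, card_B]
    exact congrArg _ (Fintype.sum_equiv e.toEquiv _ _ fun _ => rfl).symm

end Ctx

open Coxeter in
theorem card_twistedE6 [Fintype K] (hD : Good chevE6) {q : ℕ} (hq : IsPrimePow q) (hK : Fintype.card K = q ^ 2) :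
    Nat.gcd 3 (q + 1) * Nat.card ↥(twistedE6 K q) =
      q ^ 36 * (q ^ 2 - 1) * (q ^ 5 + 1) * (q ^ 6 - 1) * (q ^ 8 - 1) * (q ^ 9 + 1) * (q ^ 12 - 1) := by
  obtain ⟨φ, e, h⟩ := exists_ctxE6 hD hq hK
  have hdiag := card_diag_E6 hD hq hK
  rw [e, (ctxE6 hD φ).diagonal_inf_G0 ChevBN.rootsE6] at hdiag
  obtain ⟨inst, f, hex, hf, hcard⟩ := Ctx.card_G0_eq h (M := CoxeterMatrix.F₄) e6_ordOK
  letI : Fintype (CoxeterMatrix.F₄).Group := inst
  have hc : (fun a : Fin 4 => q ^ ([1, 1, 2, 2] : List ℕ).getD a.val 0) = fun a => q ^ (ctxE6 hD φ).L a :=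
    funext fun a => congrArg (q ^ ·) (e6_len a).symm
  have hf' : ∀ l, BN.IsReduced (CoxeterMatrix.F₄).toCoxeterSystem.simple l →
      f (BN.wprod (CoxeterMatrix.F₄).toCoxeterSystem.simple l) =
        (l.map fun a : Fin 4 => q ^ ([1, 1, 2, 2] : List ℕ).getD a.val 0).prod := fun l hl => by
    rw [hc]; exact hf l hl
  have hA := isCartan_cartanOf_all (M := CoxeterMatrix.F₄) (by decide +kernel)
  have hR : List.ofFn (fun i => List.ofFn (cartanOf (CoxeterMatrix.F₄) i)) = f4R := by decide +kernel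
  rw [e, hcard, ← psumF_top, psumF_succ hf' hA hR hex f4_check3 f4_depth3,
    psumF_succ hf' hA hR hex f4_check2 f4_depth2, psumF_succ hf' hA hR hex f4_check1 f4_depth1,
    psumF_succ hf' hA hR hex f4_check0 f4_depth0, psumF_zero hf', mul_one, Ctx.card_Upos h,
    show ((((ctxE6 hD φ).T.reps.filter fun r => decide (0 < (ctxE6 hD φ).T.ht r))).map (ctxE6 hD φ).T.len).sum = 36
      from e6_U_exp]
  have key : ∀ S : ℕ, Nat.gcd 3 (q + 1) * (q ^ 36 * Nat.card (ctxE6 hD φ).rgd.H * S) =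
      q ^ 36 * ((q - 1) ^ 4 * (q + 1) ^ 2) * S := fun S => by rw [← hdiag]; ring
  rw [key]
  have hq1 : 1 ≤ q := by have := hq.two_le; omega
  zify [hq1, Nat.one_le_pow _ q hq1]
  have hP := congrArg (fun p => evalP p (q : ℤ)) f4_poly_twist
  simp only [evalP_prodP, List.map_cons, List.map_nil, List.prod_cons, List.prod_nil] at hP
  simp (disch := norm_num) only [evalP_binP, evalP_plusP] at hP
  simp only [← cast_sum_eq_evalP_repsW] at hP
  push_cast at hP
  linear_combination (q : ℤ) ^ 36 * hP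

open Coxeter in
theorem card_twistedD4 [Fintype K] (hD : Good chevD4) {q : ℕ} (hq : IsPrimePow q) (hK : Fintype.card K = q ^ 3) :
    Nat.card ↥(twistedD4 K q) = q ^ 12 * (q ^ 2 - 1) * (q ^ 6 - 1) * (q ^ 8 + q ^ 4 + 1) := by
  obtain ⟨φ, e, h⟩ := exists_ctxD4 hD hq hK
  have hdiag := card_diag_D4 hD hq hK
  rw [e, (ctxD4 hD φ).diagonal_inf_G0 ChevBN.rootsD4] at hdiag
  obtain ⟨inst, f, hex, hf, hcard⟩ := Ctx.card_G0_eq h (M := CoxeterMatrix.G₂) d4_ordOK
  letI : Fintype (CoxeterMatrix.G₂).Group := inst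
  have hc : (fun a : Fin 2 => q ^ ([3, 1] : List ℕ).getD a.val 0) = fun a => q ^ (ctxD4 hD φ).L a :=
    funext fun a => congrArg (q ^ ·) (d4_len a).symm
  have hf' : ∀ l, BN.IsReduced (CoxeterMatrix.G₂).toCoxeterSystem.simple l →
      f (BN.wprod (CoxeterMatrix.G₂).toCoxeterSystem.simple l) =
        (l.map fun a : Fin 2 => q ^ ([3, 1] : List ℕ).getD a.val 0).prod := fun l hl => by
    rw [hc]; exact hf l hl
  have hA := isCartan_cartanOf_all (M := CoxeterMatrix.G₂) (by decide +kernel)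
  have hR : List.ofFn (fun i => List.ofFn (cartanOf (CoxeterMatrix.G₂) i)) = g2R := by decide +kernel
  rw [e, hcard, ← psumF_top, psumF_succ hf' hA hR hex g2_check1 g2_depth1,
    psumF_succ hf' hA hR hex g2_check0 g2_depth0, psumF_zero hf', mul_one, Ctx.card_Upos h,
    show ((((ctxD4 hD φ).T.reps.filter fun r => decide (0 < (ctxD4 hD φ).T.ht r))).map (ctxD4 hD φ).T.len).sum = 12
      from d4_U_exp, hdiag]
  have hq1 : 1 ≤ q := by have := hq.two_le; omega
  zify [hq1, Nat.one_le_pow _ q hq1]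
  have hP := congrArg (fun p => evalP p (q : ℤ)) g2_poly_twist
  simp only [evalP_prodP, List.map_cons, List.map_nil, List.prod_cons, List.prod_nil] at hP
  simp (disch := norm_num) only [evalP_binP] at hP
  simp only [← cast_sum_eq_evalP_repsW] at hP
  simp only [evalP_cons, evalP_nil] at hP
  push_cast at hP
  linear_combination (q : ℤ) ^ 12 * hP

end Cfsg.Agent.TwistE6D4
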