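/-
Core of the Borel subgroup, perfectness and simplicity of a twisted group.

* `orb_inj`, `theta_conj_op`; `normalCore_eq_bot`.
* `Uo_le_comm_of_unit`, `Uo_le_comm_of_pair`, `commutator_eq_top`; `isSimple`.
* the tables `e6_long`, `d4_long`, `f4_connected`, `g2_connected`, and the results for ²E₆ and ³D₄.
-/
import Cfsg.Agent.Lib.TwistE6D4.Results
import Cfsg.Agent.Lib.TwistE6D4.Weyl
import Cfsg.Agent.Lib.RGD.Core
import Cfsg.Agent.Lib.BN.Simple
import Mathlib.GroupTheory.Nilpotent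

set_option autoImplicit false
set_option maxRecDepth 100000

namespace Cfsg.Agent.TwistE6D4

open Cfsg.Lie Cfsg.Lie.ChevalleyDatum Cfsg.Agent.Chev
open scoped commutatorElement

variable {D : ChevalleyDatum}

/-- A word making all positive orbits negative. -/
abbrev NegW (T : Twist D) {m : ℕ} (node : Fin m → Fin D.rank) (l : List (Fin m)) : Prop :=
  ∀ r ∈ T.reps, 0 < T.ht r → ¬ 0 < T.ht (wW T node l r)

theorem e6_long : NegW e6Twist e6Node (List.replicate 6 ([0, 1, 2, 3] : List (Fin 4))).flatten := by decide +kernel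

theorem d4_long : NegW d4Twist d4Node (List.replicate 3 ([0, 1] : List (Fin 2))).flatten := by decide +kernel

theorem connected_of_chain {n : ℕ} (M : CoxeterMatrix (Fin (n + 1)))
    (h : ∀ i : Fin n, M i.castSucc i.succ ≠ 2) (f : Fin (n + 1) → Bool) (hi : ∃ i, f i = true)
    (hj : ∃ j, f j = false) : ∃ i j, f i = true ∧ f j = false ∧ M i j ≠ 2 := by
  by_contra hne
  have e : ∀ i : Fin n, f i.castSucc = f i.succ := by
    intro i
    rcases Bool.eq_false_or_eq_true (f i.castSucc) with h1 | h1 <;>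
      rcases Bool.eq_false_or_eq_true (f i.succ) with h2 | h2
    · rw [h1, h2]
    · exact absurd ⟨_, _, h1, h2, h i⟩ hne
    · exact absurd ⟨_, _, h2, h1, by rw [M.symmetric]; exact h i⟩ hne
    · rw [h1, h2]
  have hc : ∀ i, f i = f 0 := Fin.induction rfl fun i ih => (e i).symm.trans ih
  obtain ⟨i, hi⟩ := hi
  obtain ⟨j, hj⟩ := hj
  rw [hc] at hi hj
  rw [hi] at hj
  cases hj

theorem f4_connected : ∀ f : Fin 4 → Bool, (∃ i, f i = true) → (∃ j, f j = false) →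
    ∃ i j, f i = true ∧ f j = false ∧ CoxeterMatrix.F₄ i j ≠ 2 :=
  connected_of_chain _ (by decide)

theorem g2_connected : ∀ f : Fin 2 → Bool, (∃ i, f i = true) → (∃ j, f j = false) →
    ∃ i j, f i = true ∧ f j = false ∧ CoxeterMatrix.G₂ i j ≠ 2 :=
  connected_of_chain _ (by decide)

theorem exists_unit_sq_ne_one (K : Type*) [Field K] [Fintype K] (h : 4 ≤ Fintype.card K) :
    ∃ u : Kˣ, u * u ≠ 1 := by
  by_contra hne
  push Not at hne
  have h1 : Nat.card {t : Kˣ // t ^ 2 = 1} = Nat.card Kˣ :=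
    Nat.card_congr (Equiv.subtypeUnivEquiv fun t => by rw [pow_two]; exact hne t)
  rw [card_rootsOfOne, Nat.card_units, Nat.card_eq_fintype_card] at h1
  have h2 : Nat.gcd (Fintype.card K - 1) 2 ≤ 2 := Nat.gcd_le_right _ two_pos
  omega

namespace Ctx

variable {K : Type*} [Field K] (C : Ctx D K)

theorem orb_eq_one_iff {r : ℕ} (hr : r ∈ C.T.reps) {t : K} (h : orb C.hD C.T C.φ r t = 1) : t = 0 := by
  have hr0 : r ∈ C.orbS r := ⟨0, (C.hT.rep_lt r hr).2.1, rfl⟩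
  have hS := C.orbS_ok hr
  have hpos := hS.closed.pos r hr0
  obtain ⟨h', hh'⟩ : ∃ h' : ℕ, C.fOf r r = h' := ⟨(C.fOf r r).toNat, (Int.toNat_of_nonneg hpos.le).symm⟩
  have h2 := hS.coef_orb C.hT C.hD C.φ (h := h') (by omega) hr hr hr0 hr0 hh' hh' t (i := 0)
    (C.hT.rep_lt r hr).2.1
  rw [h, coef_one, if_pos rfl, cf_zero] at h2
  exact h2.symm

theorem orb_inj {r : ℕ} (hr : r ∈ C.T.reps) {t u : K}
    (h : orb C.hD C.T C.φ r t = orb C.hD C.T C.φ r u) : t = u := by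
  refine sub_eq_zero.1 (C.orb_eq_one_iff hr ?_)
  have h1 := C.orb_add hr (t - u) u
  rw [sub_add_cancel, h] at h1
  exact mul_eq_right.1 h1.symm

theorem orb_of_len_one {r : ℕ} (h : C.T.len r = 1) (t : K) : orb C.hD C.T C.φ r t = gx C.hD K r t := by
  simp [orb, h, cf_zero]

theorem chiX_rk {x : Fin D.rank → Kˣ} (hx : x ∈ TorSym C.T C.φ) (a : Fin C.m) :
    ∀ k, chiX x (C.rk a k) = C.itU k (chiX x (C.p a))
  | 0 => (C.itU_zero _).symm
  | k + 1 => by
    rw [show C.rk a (k + 1) = C.T.rho (C.rk a k) by simp only [rk, Function.iterate_succ_apply'],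
      chiX_rho C.hT hx (C.rk_lt a k), chiX_rk hx a k, C.itU_succ]

theorem theta_conj_op {x : Fin D.rank → Kˣ} (hx : x ∈ TorSym C.T C.φ) (a : Fin C.m) (t : K) :
    theta D K x * C.op a t * (theta D K x)⁻¹ = C.op a ((chiX x (C.p a) : K) * t) := by
  simp only [op, oprod]
  rw [← MulAut.conj_apply, map_list_prod, List.map_map]
  refine congrArg List.prod (List.map_congr_left fun k _ => ?_)
  rw [Function.comp_apply, MulAut.conj_apply, theta_conj_gx C.hD x (C.rk_lt a k), C.chiX_rk hx, C.coe_itU]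
  rw [← RingHom.coe_pow, map_mul]

theorem chiX_torVec (a : Fin C.m) (u : Kˣ) : chiX (C.torVec a u) (C.p a) = u * u := by
  rw [chiX, Finset.prod_eq_single (C.node a)]
  · rw [show C.node a = C.nd a 0 from rfl, C.torVec_apply a a u (C.L_pos a), if_pos rfl, C.itU_zero]
    have h2 : D.cartan (C.node a).val (D.simple (C.node a).val) = 2 := by
      rw [← ChevBN.pairing_simple C.hD (C.node a).isLt, C.hD.pairing_self _ (C.p_lt a)]
    rw [show D.cartan (C.nd a 0).val (C.p a) = 2 from h2, _root_.zpow_ofNat, pow_two]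
  · intro i _ hi
    obtain ⟨b, l, hl, rfl⟩ := C.nd_surj i
    rw [C.torVec_apply a b u hl]
    split_ifs with h
    · subst h
      have hl0 : l ≠ 0 := fun e => hi (by rw [e]; rfl)
      have h0 : D.cartan (C.nd a l).val (C.p a) = 0 := (C.hR.orth_neg a l hl 0 (C.L_pos a) hl0).2
      rw [h0, zpow_zero]
    · rw [_root_.one_zpow]
  · simp

theorem op_mem_Uo (a : Fin C.m) {t : K} (ht : C.Pm a t) : C.op a t ∈ C.Uo (C.p a) := by
  rw [C.op_eq]; exact C.orb_mem_Uo (C.hR.rep_simple a) ht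

/-! ### The core -/

theorem normalCore_eq_bot {Md : List (List ℤ)} {d : ℤ} (hR : ChevBN.Roots D Md d)
    (hc : ∀ s < D.nroots, ∀ j : Fin D.rank, D.cartan j.val s =
      ∑ k : Fin D.rank, (D.coroot.getD s #[]).getD k.val 0 * D.cartan j.val (D.simple k.val))
    {l : List (Fin C.m)} (hl : NegW C.T C.node l) {G : Subgroup (GL D.Idx K)} (hG : G = C.G0) :
    ((D.borelSubgroup K ⊓ G).subgroupOf G).normalCore = ⊥ := by
  obtain rfl : G = C.rgd.G := hG.trans C.rgd_G.symm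
  have hB : D.borelSubgroup K ⊓ C.rgd.G = C.rgd.B := by rw [C.rgd_G]; exact C.borel_inf_G0
  rw [hB, eq_bot_iff]
  intro g hg
  set Kc := ((C.rgd.B.subgroupOf C.rgd.G).normalCore).map C.rgd.G.subtype with hKc
  have hKB : Kc ≤ C.rgd.B := by
    rintro _ ⟨y, hy, rfl⟩
    exact Subgroup.normalCore_le (C.rgd.B.subgroupOf C.rgd.G) hy
  have hn : ∀ x ∈ C.rgd.G, ∀ y ∈ Kc, x * y * x⁻¹ ∈ Kc := by
    rintro x hx _ ⟨y, hy, rfl⟩
    exact ⟨_, (Subgroup.normalCore_normal _).conj_mem y hy ⟨x, hx⟩, rfl⟩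
  have hl' : ∀ r, C.rgd.pos r → ¬ C.rgd.pos (C.rgd.ww l r) := fun r hr h =>
    hl r.1 r.2 hr ((C.pos_ww l r).1 h)
  have hgK : (g : GL D.Idx K) ∈ Kc := ⟨g, hg, rfl⟩
  obtain ⟨x, hx, hxg⟩ : (g : GL D.Idx K) ∈ C.H0 := C.rgd.core_le hl' hKB hn hgK
  have h1 : ∀ i : Fin D.rank, chiX x (D.simple i.val) = 1 := by
    intro i
    obtain ⟨a, k, hk, rfl⟩ := C.nd_surj i
    rw [← C.rk_eq, C.chiX_rk hx]
    have hc1 : (g : GL D.Idx K) * C.op a 1 = C.op a 1 * g :=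
      C.rgd.commute_of_core hl' hKB hn hgK (C.rgd.simple a) (C.op_mem_Uo a (C.Pm_one a))
    rw [← hxg] at hc1
    have h2 := C.theta_conj_op hx a 1
    rw [hc1, mul_inv_cancel_right, mul_one, C.op_eq, C.op_eq] at h2
    have h3 : chiX x (C.p a) = 1 := Units.ext (C.orb_inj (C.hR.rep_simple a) h2).symm
    rw [h3, map_one]
  refine Subgroup.mem_bot.2 (Subtype.ext ?_)
  rw [← hxg, (mem_ker_theta C.hD hc x).2 h1]
  rfl

/-! ### Perfectness -/

theorem Uo_le_G0 {l : List (Fin C.m)} (hl : NegW C.T C.node l) (r : C.Orb) : C.Uo r.1 ≤ C.G0 := by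
  rw [← C.rgd_G]
  have hpos : ∀ r, C.rgd.pos r → C.rgd.U r ≤ C.rgd.G := fun r h =>
    ((C.rgd.U_le_Upos h).trans C.rgd.Upos_le_B).trans C.rgd.B_le_G
  by_cases h : C.rgd.pos r
  · exact hpos r h
  · have hq : C.rgd.pos (C.rgd.ww l.reverse r) := by
      by_contra hq
      have h1 := hl _ (C.rgd.neg (C.rgd.ww l.reverse r)).2 ((C.rgd.pos_neg _).2 hq)
      rw [← C.pos_ww, C.rgd.ww_neg, C.rgd.ww_ww_reverse, C.rgd.pos_neg, not_not] at h1
      exact h h1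
    intro g hg
    have e := C.rgd.map_conj_U l (C.rgd.ww l.reverse r)
    rw [C.rgd.ww_ww_reverse] at e
    obtain ⟨x, hx, rfl⟩ := e.symm.le (show g ∈ C.rgd.U r from hg)
    have hn : C.rgd.nw l ∈ C.rgd.G := C.rgd.N_le_G (C.rgd.nw_mem_N l)
    exact mul_mem (mul_mem hn (hpos _ hq hx)) (inv_mem hn)

theorem Uo_le_comm_of_unit (a : Fin C.m) {u : Kˣ} (hu : C.Pm a (u : K)) (hne : u * u ≠ 1) :
    C.Uo (C.p a) ≤ ⁅C.G0, C.G0⁆ := by
  intro g hg
  obtain ⟨t, ht, rfl⟩ := C.mem_Uo (C.hR.rep_simple a) hg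
  have hx := C.torVec_mem a hu
  set e : K := ((u * u : Kˣ) : K) - 1
  have he : e ≠ 0 := sub_ne_zero.2 fun h => hne (Units.ext (by simpa using h))
  have hu' : (⇑C.φ)^[C.L a] (u : K) = u := hu
  have ht' : (⇑C.φ)^[C.L a] t = t := ht
  have hs : C.Pm a (t / e) := by
    show (⇑C.φ)^[C.L a] (t / e) = t / e
    rw [← RingHom.coe_pow] at hu' ht' ⊢
    simp only [e, Units.val_mul, map_div₀, map_sub, map_mul, map_one, hu', ht']
  have key := C.theta_conj_op hx a (t / e)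
  rw [C.chiX_torVec] at key
  have h2 : ⁅theta D K (C.torVec a u), C.op a (t / e)⁆ = orb C.hD C.T C.φ (C.p a) t := by
    rw [commutatorElement_def, key, C.op_inv, C.op_eq, C.op_eq, ← C.orb_add (C.hR.rep_simple a)]
    congr 1
    calc ((u * u : Kˣ) : K) * (t / e) + -(t / e) = e * (t / e) := by ring
      _ = t := mul_div_cancel₀ t he
  rw [← h2]
  exact Subgroup.commutator_mem_commutator (C.theta_mem_G0 hx) (C.op_mem_G0 a hs)

theorem Uo_le_comm_of_pair {l : List (Fin C.m)} (hl : NegW C.T C.node l) (a : Fin C.m) {r s : ℕ} {c : ℤ} (hr : r ∈ C.T.reps) (hs : s ∈ C.T.reps)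
    (hrl : C.T.len r = 1) (hsl : C.T.len s = 1) (hal : C.T.len (C.p a) = 1) (h₁ : s ≠ r) (h₂ : s ≠ D.neg r)
    (hc : c * c = 1) (hterms : D.commTerms r s = [(C.p a, c, 1, 1)]) : C.Uo (C.p a) ≤ ⁅C.G0, C.G0⁆ := by
  intro g hg
  obtain ⟨t, ht, rfl⟩ := C.mem_Uo (C.hR.rep_simple a) hg
  rw [hal] at ht
  have hmem : ∀ q ∈ C.T.reps, C.T.len q = 1 → ∀ v : K, C.φ v = v → gx C.hD K q v ∈ C.G0 := by
    intro q hq hq1 v hv
    rw [← C.orb_of_len_one hq1]
    exact C.Uo_le_G0 hl ⟨q, hq⟩ (C.orb_mem_Uo hq (by rw [hq1]; exact hv))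
  set v : K := -((c : K) * t)
  have hv : C.φ v = v := by
    have ht' : C.φ t = t := ht
    simp [v, ht']
  have hcomm := C.hD.commutator (C.orb_lt ⟨r, hr⟩) (C.orb_lt ⟨s, hs⟩) h₁ h₂ v (1 : K)
  have hword : D.wordMat K (D.commWord K r s v 1) = D.x K (C.p a) t := by
    have hcK : (c : K) * (c : K) = 1 := by rw [← Int.cast_mul, hc, Int.cast_one]
    simp [ChevalleyDatum.commWord, hterms, ChevalleyDatum.wordMat, v, ← mul_assoc, hcK]
  have e : gx C.hD K s 1 * gx C.hD K r v = gx C.hD K r v * gx C.hD K s 1 * gx C.hD K (C.p a) t :=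
    Units.ext (by simp only [Units.val_mul, coe_gx, hcomm, hword])
  have h2 : ⁅(gx C.hD K s 1)⁻¹, (gx C.hD K r v)⁻¹⁆ = orb C.hD C.T C.φ (C.p a) t := by
    rw [C.orb_of_len_one hal, commutatorElement_def, inv_inv, inv_inv, mul_assoc, e]
    group
  rw [← h2]
  exact Subgroup.commutator_mem_commutator (inv_mem (hmem s hs hsl 1 (map_one _)))
    (inv_mem (hmem r hr hrl v hv))

theorem commutator_eq_top (h : ∀ a, C.Uo (C.p a) ≤ ⁅C.G0, C.G0⁆) {G : Subgroup (GL D.Idx K)}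
    (hG : G = C.G0) : commutator ↥G = ⊤ := by
  subst hG
  have hle : C.G0 ≤ ⁅C.G0, C.G0⁆ := by
    refine (Subgroup.closure_le _).2 ?_
    rintro g ⟨a, t, ht, rfl | rfl⟩
    · exact h a (C.op_mem_Uo a ht)
    · have h1 : C.om a t ∈ C.rgd.U (C.rgd.neg (C.rgd.simple a)) := by
        show _ ∈ C.Uo (C.repOf (D.neg (C.p a)))
        rw [C.repOf_self (r := D.neg (C.p a)) (C.hR.rep_negSimple a).1, C.om_eq]
        refine C.orb_mem_Uo (C.hR.rep_negSimple a).1 ?_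
        rw [show C.T.len (D.neg (C.p a)) = C.L a from (C.hR.rep_negSimple a).2]
        exact ht
      rw [← C.rgd.w_simple, ← C.rgd.map_conj_n] at h1
      obtain ⟨x, hx, e⟩ := h1
      have hn : C.rgd.n a ∈ C.G0 := C.ns_mem_G0 a (C.Pm_one a)
      rw [SetLike.mem_coe, ← e]
      exact (Subgroup.mem_normalizer_iff.1 (Subgroup.normalizer_commutator_ge_left C.G0 C.G0 hn) x).1 (h a hx)
  refine eq_top_iff.2 fun x _ => ?_
  have e : ⁅C.G0, C.G0⁆ = (commutator ↥C.G0).map C.G0.subtype := by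
    rw [_root_.commutator_def, Subgroup.map_commutator, ← MonoidHom.range_eq_map, Subgroup.range_subtype]
  obtain ⟨y, hy, hxy⟩ := (e ▸ hle x.2 : (x : GL D.Idx K) ∈ (commutator ↥C.G0).map C.G0.subtype)
  rwa [← show y = x from Subtype.ext hxy]

/-! ### Simplicity -/

theorem isSolvable_B [Fintype K] {q k : ℕ} (hq : Hyp C q k) (hp : IsPrimePow q) :
    Group.IsSolvable ↥(C.rgd.B.subgroupOf C.rgd.G) := by
  set R := C.rgd with hR'
  set F := R.G
  have hB : ∀ x : ↥(R.B.subgroupOf F), ((x : F) : GL D.Idx K) ∈ R.B := fun x => x.2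
  choose u hu h hh e using fun x : ↥(R.B.subgroupOf F) => R.exists_B (hB x)
  have huniq : ∀ (x : ↥(R.B.subgroupOf F)) (a b : GL D.Idx K), a ∈ R.Upos → b ∈ R.H →
      ((x : F) : GL D.Idx K) = a * b → h x = b := by
    intro x a b ha hb hx
    have e' := (e x).symm.trans hx
    have hmem : a⁻¹ * u x ∈ R.Upos ⊓ R.H := by
      refine Subgroup.mem_inf.2 ⟨mul_mem (inv_mem ha) (hu x), ?_⟩
      rw [show a⁻¹ * u x = a⁻¹ * (u x * h x) * (h x)⁻¹ by group, e', inv_mul_cancel_left]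
      exact mul_mem hb (inv_mem (hh x))
    rw [show R.Upos ⊓ R.H = ⊥ from R.U_inf_H, Subgroup.mem_bot, inv_mul_eq_one] at hmem
    subst hmem
    exact mul_left_cancel e'
  let φ : ↥(R.B.subgroupOf F) →* ↥R.H :=
    { toFun := fun x => ⟨h x, hh x⟩
      map_one' := Subtype.ext (huniq 1 1 1 (one_mem _) (one_mem _) (by simp))
      map_mul' := fun x y => Subtype.ext (huniq (x * y) (u x * (h x * u y * (h x)⁻¹)) (h x * h y)
        (mul_mem (hu x) (R.H_conj_span _ (hh x) _ (hu y))) (mul_mem (hh x) (hh y))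
        (by rw [Subgroup.coe_mul, Subgroup.coe_mul, e x, e y]; group)) }
  letI : CommGroup ↥R.H :=
    { (inferInstance : Group ↥R.H) with
      mul_comm := by
        rintro ⟨_, x, hx, rfl⟩ ⟨_, y, hy, rfl⟩
        exact Subtype.ext (by
          show theta D K x * theta D K y = theta D K y * theta D K x
          rw [← map_mul, mul_comm x y, map_mul]) }
  haveI : Group.IsSolvable ↥R.Upos := by
    obtain ⟨p, n, hpp, hn, rfl⟩ := hp
    haveI : Fact p.Prime := ⟨Nat.prime_iff.2 hpp⟩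
    have hpg : IsPGroup p ↥R.Upos :=
      IsPGroup.of_card (n := n * ((C.T.reps.filter fun r => decide (0 < C.T.ht r)).map C.T.len).sum)
        (by rw [hR', card_Upos hq, ← pow_mul])
    haveI := hpg.isNilpotent
    exact inferInstance
  let ι : ↥R.Upos →* ↥(R.B.subgroupOf F) :=
    { toFun := fun x => ⟨⟨x, R.B_le_G (R.Upos_le_B x.2)⟩, R.Upos_le_B x.2⟩
      map_one' := rfl
      map_mul' := fun _ _ => rfl }
  refine Group.isSolvable_of_ker_le_range ι φ fun x hx => ?_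
  have h1 : h x = 1 := congrArg Subtype.val hx
  have hx' : ((x : F) : GL D.Idx K) = u x := by rw [e x, h1, mul_one]
  exact ⟨⟨((x : F) : GL D.Idx K), (hx'.symm ▸ hu x : ((x : F) : GL D.Idx K) ∈ R.Upos)⟩, rfl⟩

theorem irreducible {M : CoxeterMatrix (Fin C.m)} (hM : OrdOK C.T C.node M)
    (hconn : ∀ f : Fin C.m → Bool, (∃ i, f i = true) → (∃ j, f j = false) →
      ∃ i j, f i = true ∧ f j = false ∧ M i j ≠ 2) : C.rgd.bnPair.Irreducible := by
  classical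
  intro J hJ hne hne'
  obtain ⟨s, hs⟩ := hne
  obtain ⟨t, ht, htJ⟩ := hne'
  obtain ⟨i₀, rfl⟩ := hJ hs
  obtain ⟨j₀, rfl⟩ := ht
  obtain ⟨i, j, hi, hj, hij⟩ := hconn (fun a => decide (C.rgd.nG a ∈ J)) ⟨i₀, decide_eq_true hs⟩
    ⟨j₀, decide_eq_false htJ⟩
  refine ⟨_, of_decide_eq_true hi, _, ⟨⟨j, rfl⟩, of_decide_eq_false hj⟩, fun hB => ?_⟩
  let P := C.rgd.bnPair
  have hNi : C.rgd.nG i ∈ P.N := P.subset ⟨i, rfl⟩
  have hNj : C.rgd.nG j ∈ P.N := P.subset ⟨j, rfl⟩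
  have h1 := (BN.wOf_eq_one_iff P (mul_mem (mul_mem (mul_mem hNi hNj) (inv_mem hNi)) (inv_mem hNj))).2 hB
  have h2 : C.sg i * C.sg j * (C.sg i)⁻¹ * (C.sg j)⁻¹ = 1 := h1
  rw [show (C.sg i)⁻¹ = C.sg i from BN.sigma_inv' P _, show (C.sg j)⁻¹ = C.sg j from BN.sigma_inv' P _,
    mul_assoc (C.sg i * C.sg j), ← pow_two, ← orderOf_dvd_iff_pow_eq_one, C.orderOf_sg hM] at h2
  have hne1 : M i j ≠ 1 := M.off_diagonal i j fun e => by
    subst e; rw [hi] at hj; cases hj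
  rcases (Nat.dvd_prime Nat.prime_two).1 h2 with h3 | h3
  · exact hne1 h3
  · exact hij h3

theorem isSimple [Fintype K] {q k : ℕ} (hq : Hyp C q k) (hp : IsPrimePow q) {Md : List (List ℤ)} {d : ℤ}
    (hR : ChevBN.Roots D Md d)
    (hc : ∀ s < D.nroots, ∀ j : Fin D.rank, D.cartan j.val s =
      ∑ k : Fin D.rank, (D.coroot.getD s #[]).getD k.val 0 * D.cartan j.val (D.simple k.val))
    {l : List (Fin C.m)} (hl : NegW C.T C.node l) {M : CoxeterMatrix (Fin C.m)} (hM : OrdOK C.T C.node M)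
    (hconn : ∀ f : Fin C.m → Bool, (∃ i, f i = true) → (∃ j, f j = false) →
      ∃ i j, f i = true ∧ f j = false ∧ M i j ≠ 2)
    (hperf : ∀ a, C.Uo (C.p a) ≤ ⁅C.G0, C.G0⁆) (a₀ : Fin C.m) {G : Subgroup (GL D.Idx K)} (hG : G = C.G0) :
    IsSimpleGroup ↥G ∧ ¬ IsMulCommutative ↥G := by
  have hp' := C.commutator_eq_top hperf hG
  have hcore := C.normalCore_eq_bot hR hc hl hG
  obtain rfl : G = C.rgd.G := hG.trans C.rgd_G.symm
  rw [show D.borelSubgroup K ⊓ C.rgd.G = C.rgd.B by rw [C.rgd_G]; exact C.borel_inf_G0] at hcore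
  have hop : C.op a₀ 1 ∈ C.rgd.G := C.rgd_G.symm ▸ C.op_mem_G0 a₀ (C.Pm_one a₀)
  haveI : Nontrivial ↥C.rgd.G := ⟨⟨⟨_, hop⟩, 1, fun h =>
    one_ne_zero (C.orb_eq_one_iff (C.hR.rep_simple a₀) ((C.op_eq a₀ 1).symm.trans (congrArg Subtype.val h)))⟩⟩
  refine ⟨BN.isSimpleGroup_of_irreducible C.rgd.bnPair (C.irreducible hM hconn) (C.isSolvable_B hq hp) hp' hcore, ?_⟩
  intro hcomm
  have : commutator ↥C.rgd.G = ⊥ := by
    rw [_root_.commutator_def, Subgroup.commutator_eq_bot_iff_le_centralizer]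
    intro a _
    rw [Subgroup.mem_centralizer_iff]
    intro b _
    exact mul_comm' b a
  rw [this] at hp'
  exact bot_ne_top hp'

end Ctx

/-! ### ²E₆ and ³D₄ -/

variable {K : Type*} [Field K] [Fintype K] {q : ℕ}

theorem hyp_Pm {C : Ctx D K} {k : ℕ} (h : Hyp C q k) {a : Fin C.m} (ha : C.L a = k) (t : K) : C.Pm a t := by
  show (⇑C.φ)^[C.L a] t = t
  rw [ha, Ctx.iter_pow h, ← h.card, FiniteField.pow_card]

theorem e6_pairs : (32 ∈ e6Twist.reps ∧ 47 ∈ e6Twist.reps ∧ 25 ∈ e6Twist.reps ∧ e6Twist.len 32 = 1 ∧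
      e6Twist.len 47 = 1 ∧ e6Twist.len 25 = 1 ∧ chevE6.neg 32 ≠ 47 ∧ chevE6.neg 25 ≠ 47) ∧
    chevE6.commTerms 32 47 = [(chevE6.simple (e6Node 0).val, 1, 1, 1)] ∧
    chevE6.commTerms 25 47 = [(chevE6.simple (e6Node 1).val, -1, 1, 1)] := by decide +kernel

theorem d4_pairs : (23 ∈ d4Twist.reps ∧ 1 ∈ d4Twist.reps ∧ d4Twist.len 23 = 1 ∧ d4Twist.len 1 = 1 ∧
      chevD4.neg 23 ≠ 1) ∧
    chevD4.commTerms 23 1 = [(chevD4.simple (d4Node 1).val, 1, 1, 1)] := by decide +kernel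

theorem perfE6 (hD : Good chevE6) {φ : K →+* K} (h : Hyp (ctxE6 hD φ) q 2) :
    ∀ a, (ctxE6 hD φ).Uo ((ctxE6 hD φ).p a) ≤ ⁅(ctxE6 hD φ).G0, (ctxE6 hD φ).G0⁆ := by
  obtain ⟨⟨r1, s1, r2, l1, l2, l3, n1, n2⟩, t1, t2⟩ := e6_pairs
  obtain ⟨u, hu⟩ := exists_unit_sq_ne_one K (by rw [h.card]; have := h.one_lt; nlinarith)
  intro a
  have hfull : e6Twist.len (chevE6.simple (e6Node a).val) = 2 →
      (ctxE6 hD φ).Uo ((ctxE6 hD φ).p a) ≤ ⁅(ctxE6 hD φ).G0, (ctxE6 hD φ).G0⁆ := fun e =>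
    (ctxE6 hD φ).Uo_le_comm_of_unit a (hyp_Pm h (a := a) e _) hu
  fin_cases a
  · exact (ctxE6 hD φ).Uo_le_comm_of_pair e6_long 0 r1 s1 l1 l2 (e6_len 0) (by decide) n1.symm (by decide) t1
  · exact (ctxE6 hD φ).Uo_le_comm_of_pair e6_long 1 r2 s1 l3 l2 (e6_len 1) (by decide) n2.symm (by decide) t2
  · exact hfull (e6_len 2)
  · exact hfull (e6_len 3)

theorem perfD4 (hD : Good chevD4) {φ : K →+* K} (h : Hyp (ctxD4 hD φ) q 3) :
    ∀ a, (ctxD4 hD φ).Uo ((ctxD4 hD φ).p a) ≤ ⁅(ctxD4 hD φ).G0, (ctxD4 hD φ).G0⁆ := by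
  obtain ⟨⟨r1, s1, l1, l2, n1⟩, t1⟩ := d4_pairs
  obtain ⟨u, hu⟩ := exists_unit_sq_ne_one K (by
    rw [h.card]
    exact le_trans (by norm_num) (Nat.pow_le_pow_left (show 2 ≤ q from h.one_lt) 3))
  intro a
  fin_cases a
  · exact (ctxD4 hD φ).Uo_le_comm_of_unit 0 (hyp_Pm h (a := 0) (d4_len 0) _) hu
  · exact (ctxD4 hD φ).Uo_le_comm_of_pair d4_long 1 r1 s1 l1 l2 (d4_len 1) (by decide) n1.symm (by decide) t1

theorem commutator_twistedE6 (hD : Good chevE6) (hq : IsPrimePow q) (hK : Fintype.card K = q ^ 2) :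
    commutator ↥(twistedE6 K q) = ⊤ := by
  obtain ⟨φ, e, h⟩ := exists_ctxE6 hD hq hK
  exact (ctxE6 hD φ).commutator_eq_top (perfE6 hD h) e

theorem commutator_twistedD4 (hD : Good chevD4) (hq : IsPrimePow q) (hK : Fintype.card K = q ^ 3) :
    commutator ↥(twistedD4 K q) = ⊤ := by
  obtain ⟨φ, e, h⟩ := exists_ctxD4 hD hq hK
  exact (ctxD4 hD φ).commutator_eq_top (perfD4 hD h) e

theorem core_twistedE6 (hD : Good chevE6) (hq : IsPrimePow q) (hK : Fintype.card K = q ^ 2) :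
    ((chevE6.borelSubgroup K ⊓ twistedE6 K q).subgroupOf (twistedE6 K q)).normalCore = ⊥ := by
  obtain ⟨φ, e, -⟩ := exists_ctxE6 hD hq hK
  exact (ctxE6 hD φ).normalCore_eq_bot ChevBN.rootsE6 e6_cartan e6_long e

theorem core_twistedD4 (hD : Good chevD4) (hq : IsPrimePow q) (hK : Fintype.card K = q ^ 3) :
    ((chevD4.borelSubgroup K ⊓ twistedD4 K q).subgroupOf (twistedD4 K q)).normalCore = ⊥ := by
  obtain ⟨φ, e, -⟩ := exists_ctxD4 hD hq hK
  exact (ctxD4 hD φ).normalCore_eq_bot ChevBN.rootsD4 d4_cartan d4_long e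

theorem simple_twistedE6 (hD : Good chevE6) (hq : IsPrimePow q) (hK : Fintype.card K = q ^ 2) :
    IsSimpleGroup ↥(twistedE6 K q) ∧ ¬ IsMulCommutative ↥(twistedE6 K q) := by
  obtain ⟨φ, e, h⟩ := exists_ctxE6 hD hq hK
  exact (ctxE6 hD φ).isSimple h hq ChevBN.rootsE6 e6_cartan e6_long e6_ordOK f4_connected (perfE6 hD h) (0 : Fin 4) e

theorem simple_twistedD4 (hD : Good chevD4) (hq : IsPrimePow q) (hK : Fintype.card K = q ^ 3) :
    IsSimpleGroup ↥(twistedD4 K q) ∧ ¬ IsMulCommutative ↥(twistedD4 K q) := by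
  obtain ⟨φ, e, h⟩ := exists_ctxD4 hD hq hK
  exact (ctxD4 hD φ).isSimple h hq ChevBN.rootsD4 d4_cartan d4_long d4_ordOK g2_connected (perfD4 hD h) (0 : Fin 2) e

end Cfsg.Agent.TwistE6D4
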