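import Cfsg.Agent.Lib.TwistE6D4.D4Heis
import Cfsg.Agent.EqLemmas

/-!
# The radical of the Heisenberg parabolic subgroup of ³D₄ inside the fixed group

* `eN_mem_G0`         : fixed parameters give fixed elements.
* `exists_ns_conj14`  : the long elements are conjugate, with fixed parameters.
* `conj_A`            : the action of b, t on the part d, e, z.
* `hTor`, `sTor`      : two tori, with their action.
-/

set_option autoImplicit false
set_option maxRecDepth 100000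
set_option linter.unusedSectionVars false
set_option linter.unusedSimpArgs false

namespace Cfsg.Agent.TwistE6D4.D4Heis

open Cfsg.Lie Cfsg.Lie.ChevalleyDatum Cfsg.Agent.Chev

variable {K : Type*} [Field K] (hD : Good chevD4) (φ : K →+* K)

theorem reps_table : (14 ∈ d4Twist.reps ∧ 15 ∈ d4Twist.reps ∧ 17 ∈ d4Twist.reps ∧ 22 ∈ d4Twist.reps ∧
      23 ∈ d4Twist.reps) ∧ d4Twist.len 14 = 1 ∧ d4Twist.len 15 = 3 ∧ d4Twist.len 17 = 3 ∧ d4Twist.len 22 = 1 ∧
    d4Twist.len 23 = 1 ∧ ((List.range 3).map fun i => (d4Twist.rho^[i] 15, esgn d4Twist 15 i)) = [(15, 1), (19, -1), (16, 1)] ∧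
    ((List.range 3).map fun i => (d4Twist.rho^[i] 17, esgn d4Twist 17 i)) = [(17, 1), (20, -1), (21, -1)] := by
  decide +kernel

theorem wF_table : wF d4Twist (d4Node 1) 23 = 22 ∧ wF d4Twist (d4Node 0) 22 = 14 := by decide +kernel

theorem orb3 (r a₀ a₁ a₂ : ℕ) (e₀ e₁ e₂ : ℤ) (hl : d4Twist.len r = 3)
    (h : ((List.range 3).map fun i => (d4Twist.rho^[i] r, esgn d4Twist r i)) = [(a₀, e₀), (a₁, e₁), (a₂, e₂)])
    (t : K) : orb hD d4Twist φ r t =
      gx hD K a₀ ((e₀ : K) * t) * gx hD K a₁ ((e₁ : K) * φ t) * gx hD K a₂ ((e₂ : K) * φ (φ t)) := by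
  simp only [List.range_succ, List.range_zero, List.nil_append, List.map_append, List.map_cons, List.map_nil,
    List.cons_append, List.cons.injEq, Prod.mk.injEq] at h
  obtain ⟨⟨h0, g0⟩, ⟨h1, g1⟩, ⟨h2, g2⟩, -⟩ := h
  simp only [orb, cf, hl, List.range_succ, List.range_zero, List.nil_append, List.map_append, List.map_cons,
    List.map_nil, List.prod_append, List.prod_cons, List.prod_nil, mul_one, one_mul, h0, h1, h2, g0, g1, g2]
  rfl

theorem orb1_mem {r : ℕ} (hr : r ∈ d4Twist.reps) (hl : d4Twist.len r = 1) {u : K} (hu : φ u = u) :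
    gx hD K r u ∈ (ctxD4 hD φ).G0 := by
  rw [← (ctxD4 hD φ).orb_of_len_one hl]
  exact (ctxD4 hD φ).Uo_le_G0 d4_long ⟨r, hr⟩ ((ctxD4 hD φ).orb_mem_Uo hr (by
    show (⇑φ)^[d4Twist.len r] u = u
    rw [hl]; exact hu))

/-- A root element of a fixed root lying in the group has a fixed parameter. -/
theorem fixed_param {r : ℕ} (hr : r ∈ d4Twist.reps) (hl : d4Twist.len r = 1) {v : K}
    (h : gx hD K r v ∈ (ctxD4 hD φ).G0) : φ v = v := by
  have h2 : gx hD K r v ∈ (ctxD4 hD φ).Uo r :=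
    ⟨gx_mem_UT hD (T := (ctxD4 hD φ).orbS r) ⟨0, by show 0 < d4Twist.len r; omega, rfl⟩ v,
      (ctxD4 hD φ).G0_le_Fix h⟩
  obtain ⟨t, ht, e⟩ := (ctxD4 hD φ).mem_Uo hr h2
  rw [show d4Twist = (ctxD4 hD φ).T from rfl] at hl
  have e2 := (ctxD4 hD φ).orb_inj hr (((ctxD4 hD φ).orb_of_len_one hl v).trans e)
  rw [hl] at ht
  rw [e2]
  exact ht

theorem gx_ne_one {r : ℕ} (hr : r ∈ d4Twist.reps) (hl : d4Twist.len r = 1) {v : K} (hv : v ≠ 0) :
    gx hD K r v ≠ 1 := fun h =>
  hv ((ctxD4 hD (RingHom.id K)).orb_eq_one_iff hr (((ctxD4 hD (RingHom.id K)).orb_of_len_one hl v).trans h))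

variable (h3 : ∀ t, φ (φ (φ t)) = t)
include h3

theorem eN_mem_G0 {b t d e z : K} (hb : φ b = b) (he : φ e = e) (hz : φ z = z) :
    eN hD φ b t d e z ∈ (ctxD4 hD φ).G0 := by
  obtain ⟨⟨r14, r15, r17, r22, r23⟩, l14, l15, l17, l22, l23, t15, t17⟩ := reps_table
  have m3 : ∀ r, r ∈ d4Twist.reps → d4Twist.len r = 3 → ∀ u : K, orb hD d4Twist φ r u ∈ (ctxD4 hD φ).G0 :=
    fun r hr hl u => (ctxD4 hD φ).Uo_le_G0 d4_long ⟨r, hr⟩ ((ctxD4 hD φ).orb_mem_Uo hr (by
      show (⇑φ)^[d4Twist.len r] u = u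
      rw [hl]; exact h3 u))
  have e : eN hD φ b t d e z =
      gx hD K 14 b * orb hD d4Twist φ 15 t * orb hD d4Twist φ 17 d * gx hD K 22 e * gx hD K 23 z := by
    rw [orb3 hD φ 15 15 19 16 1 (-1) 1 l15 t15, orb3 hD φ 17 17 20 21 1 (-1) (-1) l17 t17]
    simp only [eN, nf, Int.cast_one, Int.cast_neg, one_mul, neg_mul, mul_assoc]
  rw [e]
  exact mul_mem (mul_mem (mul_mem (mul_mem (orb1_mem hD φ r14 l14 hb) (m3 15 r15 l15 t)) (m3 17 r17 l17 d))
    (orb1_mem hD φ r22 l22 he)) (orb1_mem hD φ r23 l23 hz)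

/-- The element of the second simple orbit moves the root 23 to the root 22. -/
theorem exists_ns_conj23 {u : K} (hu : φ u = u) :
    ∃ v, φ v = v ∧ (ctxD4 hD φ).ns (1 : Fin 2) 1 * gx hD K 23 u * ((ctxD4 hD φ).ns (1 : Fin 2) 1)⁻¹ =
      gx hD K 22 v := by
  obtain ⟨⟨-, -, -, r22, r23⟩, -, -, -, l22, l23, -, -⟩ := reps_table
  have hn : (ctxD4 hD φ).ns (1 : Fin 2) 1 ∈ (ctxD4 hD φ).G0 := (ctxD4 hD φ).ns_mem_G0 _ ((ctxD4 hD φ).Pm_one _)
  obtain ⟨-, v, hv⟩ := (ctxD4 hD φ).ns_conj_gx (1 : Fin 2) (one_ne_zero (α := K))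
    (show 23 < chevD4.nroots by decide) u
  rw [show wF (ctxD4 hD φ).T ((ctxD4 hD φ).node 1) 23 = 22 from wF_table.1] at hv
  refine ⟨v, fixed_param hD φ r22 l22 ?_, hv⟩
  rw [← show _ = gx hD K 22 v from hv]
  exact mul_mem (mul_mem hn (orb1_mem hD φ r23 l23 hu)) (inv_mem hn)

/-- The element of the first simple orbit moves the root 22 to the root 14. -/
theorem exists_ns_conj22 {u : K} (hu : φ u = u) :
    ∃ v, φ v = v ∧ (ctxD4 hD φ).ns (0 : Fin 2) 1 * gx hD K 22 u * ((ctxD4 hD φ).ns (0 : Fin 2) 1)⁻¹ =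
      gx hD K 14 v := by
  obtain ⟨⟨r14, -, -, r22, -⟩, l14, -, -, l22, -, -, -⟩ := reps_table
  have hn : (ctxD4 hD φ).ns (0 : Fin 2) 1 ∈ (ctxD4 hD φ).G0 := (ctxD4 hD φ).ns_mem_G0 _ ((ctxD4 hD φ).Pm_one _)
  obtain ⟨-, v, hv⟩ := (ctxD4 hD φ).ns_conj_gx (0 : Fin 2) (one_ne_zero (α := K))
    (show 22 < chevD4.nroots by decide) u
  rw [show wF (ctxD4 hD φ).T ((ctxD4 hD φ).node 0) 22 = 14 from wF_table.2] at hv
  refine ⟨v, fixed_param hD φ r14 l14 ?_, hv⟩
  rw [← show _ = gx hD K 14 v from hv]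
  exact mul_mem (mul_mem hn (orb1_mem hD φ r22 l22 hu)) (inv_mem hn)

omit h3 in
theorem ns_zero_commute_23 : ∀ r ∈ [18, 13, 12, 5, 10, 11], Free r 23 := by decide +kernel

omit h3 in
theorem op_commute_z (u z : K) : Commute ((ctxD4 hD φ).op (0 : Fin 2) u) (gx hD K 23 z) := by
  rw [op_zero_eq]
  exact (((ns_zero_commute_23 18 (by simp)).commute hD _ z).mul_left
    ((ns_zero_commute_23 13 (by simp)).commute hD _ z)).mul_left ((ns_zero_commute_23 12 (by simp)).commute hD _ z)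

omit h3 in
theorem om_commute_z (u z : K) : Commute ((ctxD4 hD φ).om (0 : Fin 2) u) (gx hD K 23 z) := by
  rw [om_zero_eq]
  exact (((ns_zero_commute_23 5 (by simp)).commute hD _ z).mul_left
    ((ns_zero_commute_23 10 (by simp)).commute hD _ z)).mul_left ((ns_zero_commute_23 11 (by simp)).commute hD _ z)

omit h3 in
theorem ns_commute_z (z : K) : Commute ((ctxD4 hD φ).ns (0 : Fin 2) 1) (gx hD K 23 z) := by
  rw [Ctx.ns_eq]
  exact ((op_commute_z hD φ 1 z).mul_left (om_commute_z hD φ _ z)).mul_left (op_commute_z hD φ 1 z)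

omit h3 in
theorem om_commute_b (u b : K) : Commute ((ctxD4 hD φ).om (0 : Fin 2) u) (gx hD K 14 b) := by
  rw [om_zero_eq]
  exact (((by decide +kernel : Free 5 14).commute hD _ b).mul_left
    ((by decide +kernel : Free 10 14).commute hD _ b)).mul_left ((by decide +kernel : Free 11 14).commute hD _ b)

/-- The action of b and t on the abelian part d, e, z. -/
theorem conj_A (b t d e z : K) :
    eN hD φ b t 0 0 0 * eN hD φ 0 0 d e z =
      eN hD φ 0 0 d e (z + b * e + tr φ (φ t * d)) * eN hD φ b t 0 0 0 := by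
  simp only [eN_mul hD φ h3, map_zero, zero_add, add_zero, mul_zero, zero_mul, tr_zero, sub_zero]
  congr 1
  ring

omit h3 in
/-- The torus acting on the lines with given factors. -/
theorem theta_eN (x : Fin chevD4.rank → Kˣ) {m₁ m₂ m₃ m₄ m₅ : K}
    (h : (chiX x 14 : K) = m₁ ∧ ∀ r ∈ [15, 19, 16], (chiX x r : K) = m₂)
    (h' : ∀ r ∈ [17, 20, 21], (chiX x r : K) = m₃) (h22 : (chiX x 22 : K) = m₄) (h23 : (chiX x 23 : K) = m₅)
    (hm₂ : φ m₂ = m₂) (hm₃ : φ m₃ = m₃) (b t d e z : K) :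
    theta chevD4 K x * eN hD φ b t d e z =
      eN hD φ (m₁ * b) (m₂ * t) (m₃ * d) (m₄ * e) (m₅ * z) * theta chevD4 K x := by
  rw [← mul_inv_eq_iff_eq_mul]
  obtain ⟨h14, h⟩ := h
  simp only [List.forall_mem_cons] at h h'
  obtain ⟨h15, h19, h16, -⟩ := h
  obtain ⟨h17, h20, h21, -⟩ := h'
  simp only [eN, nf, ← MulAut.conj_apply, map_mul]
  simp only [MulAut.conj_apply, theta_conj_gx hD x (show 14 < chevD4.nroots by decide),
    theta_conj_gx hD x (show 15 < chevD4.nroots by decide), theta_conj_gx hD x (show 16 < chevD4.nroots by decide),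
    theta_conj_gx hD x (show 17 < chevD4.nroots by decide), theta_conj_gx hD x (show 19 < chevD4.nroots by decide),
    theta_conj_gx hD x (show 20 < chevD4.nroots by decide), theta_conj_gx hD x (show 21 < chevD4.nroots by decide),
    theta_conj_gx hD x (show 22 < chevD4.nroots by decide), theta_conj_gx hD x (show 23 < chevD4.nroots by decide),
    h14, h15, h16, h17, h19, h20, h21, h22, h23, map_mul, hm₂, hm₃, mul_neg]

/-- The torus of the long simple root. -/
def hTor (s : Kˣ) : Fin chevD4.rank → Kˣ := fun i => if i.val = 1 then s else 1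

/-- The scalar torus of the Levi subgroup. -/
def sTor (s : Kˣ) : Fin chevD4.rank → Kˣ := fun i => if i.val = 1 then s ^ 2 else s

omit h3 in
theorem hTor_mem {s : Kˣ} (hs : φ (s : K) = s) : hTor s ∈ TorSym d4Twist φ := by
  have hpi : ∀ i : Fin chevD4.rank, (d4Twist.pi i).val = 1 ↔ i.val = 1 := by decide +kernel
  intro i
  simp only [hTor, hpi]
  split_ifs
  · exact Units.ext hs.symm
  · simp

omit h3 in
theorem sTor_mem {s : Kˣ} (hs : φ (s : K) = s) : sTor s ∈ TorSym d4Twist φ := by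
  have hpi : ∀ i : Fin chevD4.rank, (d4Twist.pi i).val = 1 ↔ i.val = 1 := by decide +kernel
  intro i
  simp only [sTor, hpi]
  split_ifs
  · exact Units.ext (by simp [hs])
  · exact Units.ext hs.symm

omit h3 in
theorem chiX_const {f : Fin chevD4.rank → ℤ} (s : Kˣ) (r : ℕ) :
    chiX (fun i => s ^ f i) r = s ^ (∑ i, f i * chevD4.cartan i.val r) := by
  simp only [chiX, ← zpow_mul, zpow_sum]

omit h3 in
theorem hTor_conj (s : Kˣ) (hs : φ (s : K) = s) (b t d e z : K) :
    theta chevD4 K (hTor s) * eN hD φ b t d e z =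
      eN hD φ ((s : K) ^ 2 * b) ((s : K) * t) d ((s : K)⁻¹ * e) ((s : K) * z) * theta chevD4 K (hTor s) := by
  have hT : hTor s = fun i : Fin chevD4.rank => s ^ (if i.val = 1 then 1 else 0 : ℤ) := by
    funext i; simp only [hTor]; split_ifs <;> simp
  have hex : [14, 15, 19, 16, 17, 20, 21, 22, 23].map
      (fun r => ∑ i : Fin chevD4.rank, (if i.val = 1 then 1 else 0 : ℤ) * chevD4.cartan i.val r) =
      [2, 1, 1, 1, 0, 0, 0, -1, 1] := by decide +kernel
  simp only [List.map_cons, List.map_nil, List.cons.injEq, and_true] at hex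
  obtain ⟨e14, e15, e19, e16, e17, e20, e21, e22, e23⟩ := hex
  have h := theta_eN hD φ (hTor s) (m₁ := (s : K) ^ 2) (m₂ := (s : K)) (m₃ := 1) (m₄ := (s : K)⁻¹) (m₅ := (s : K))
    ⟨by rw [hT, chiX_const, e14]; simp, by
      simp only [List.forall_mem_cons, List.forall_mem_nil, and_true, hT, chiX_const, e15, e19, e16]; simp⟩
    (by simp only [List.forall_mem_cons, List.forall_mem_nil, and_true, hT, chiX_const, e17, e20, e21]; simp)
    (by rw [hT, chiX_const, e22]; simp) (by rw [hT, chiX_const, e23]; simp) hs (map_one φ) b t d e z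
  simpa using h

omit h3 in
theorem sTor_conj (s : Kˣ) (hs : φ (s : K) = s) (b t d e z : K) :
    theta chevD4 K (sTor s) * eN hD φ b t d e z =
      eN hD φ ((s : K) * b) ((s : K) * t) ((s : K) * d) ((s : K) * e) ((s : K) ^ 2 * z) *
        theta chevD4 K (sTor s) := by
  have hT : sTor s = fun i : Fin chevD4.rank => s ^ (if i.val = 1 then 2 else 1 : ℤ) := by
    funext i; simp only [sTor]; split_ifs <;> simp [zpow_ofNat]
  have hex : [14, 15, 19, 16, 17, 20, 21, 22, 23].map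
      (fun r => ∑ i : Fin chevD4.rank, (if i.val = 1 then 2 else 1 : ℤ) * chevD4.cartan i.val r) =
      [1, 1, 1, 1, 1, 1, 1, 1, 2] := by decide +kernel
  simp only [List.map_cons, List.map_nil, List.cons.injEq, and_true] at hex
  obtain ⟨e14, e15, e19, e16, e17, e20, e21, e22, e23⟩ := hex
  exact theta_eN hD φ (sTor s) (m₁ := (s : K)) (m₂ := (s : K)) (m₃ := (s : K)) (m₄ := (s : K)) (m₅ := (s : K) ^ 2)
    ⟨by rw [hT, chiX_const, e14]; simp, by
      simp only [List.forall_mem_cons, List.forall_mem_nil, and_true, hT, chiX_const, e15, e19, e16]; simp⟩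
    (by simp only [List.forall_mem_cons, List.forall_mem_nil, and_true, hT, chiX_const, e17, e20, e21]; simp)
    (by rw [hT, chiX_const, e22]; simp) (by rw [hT, chiX_const, e23]; simp [zpow_ofNat]) hs hs b t d e z

end Cfsg.Agent.TwistE6D4.D4Heis
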