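import Cfsg.Agent.Lib.TwistE6D4.D4TorusLevi
import Cfsg.Agent.EqLemmas

/-!
# The centraliser of a torus element central in the Levi subgroup

* `Central`: the parameters u, γ of the element, with a = u²/γ far from roots of unity of small order;
* `chi_eq_a`: the roots where the character takes the value a;
* `mem_levi_of_commute`: for γ ≠ 1 the centraliser is the Levi subgroup.
-/

set_option autoImplicit false
set_option maxRecDepth 100000

namespace Cfsg.Agent.TwistE6D4.D4

open Cfsg.Lie Cfsg.Lie.ChevalleyDatum Cfsg.Agent.Chev Matrix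

variable {K : Type*} [Field K]

theorem chiX_neg {D : ChevalleyDatum} (hD : Good D) (x : Fin D.rank → Kˣ) {r : ℕ} (hr : r < D.nroots) :
    (chiX x (D.neg r) : K) = (chiX x r : K)⁻¹ := by
  rw [← Units.val_inv_eq_inv_val]
  congr 1
  simp only [chiX, ← Finset.prod_inv_distrib]
  exact Finset.prod_congr rfl fun i _ => by rw [hD.cartan_neg r hr i i.isLt, _root_.zpow_neg]

variable (φ : K →+* K)

/-- The parameters of a torus element central in the Levi subgroup. -/
structure Central (q : ℕ) (u γ : Kˣ) : Prop where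
  h3 : ∀ t, φ (φ (φ t)) = t
  pow : ∀ t, φ t = t ^ q
  two_le : 2 ≤ q
  fixed : φ (γ : K) = γ
  norm : (γ : K) ^ 2 = u * φ u * φ (φ u)
  gen : ∀ k, 0 < k → k < q ^ 3 - 1 → ((u : K) ^ 2 / γ) ^ k ≠ 1

variable {φ} (hD : Good chevD4)

local notation "C" => ctxD4 hD φ
local notation "o" => orb hD d4Twist φ

namespace Central

variable {q : ℕ} {u γ : Kˣ} (P : Central φ q u γ)
include P

theorem ne_zero : (u : K) ^ 2 / γ ≠ 0 := div_ne_zero (pow_ne_zero _ u.ne_zero) γ.ne_zero

theorem norm_a : ((u : K) ^ 2 / γ) * φ ((u : K) ^ 2 / γ) * φ (φ ((u : K) ^ 2 / γ)) = γ := by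
  have h := P.norm
  simp only [map_div₀, map_pow, P.fixed]
  field_simp
  linear_combination (-((γ : K) ^ 2 + (u : K) * φ u * φ (φ u))) * h

theorem facts : let a := (u : K) ^ 2 / γ
    φ a ≠ a ∧ φ (φ a) ≠ a ∧ a * a ≠ 1 ∧ a * φ a ≠ 1 ∧ a * φ (φ a) ≠ 1 ∧ φ a * φ (φ a) ≠ a ∧ φ a ≠ 1 ∧
      φ (φ a) ≠ 1 ∧ a * a * φ (φ a) ≠ 1 ∧ a * a * φ a ≠ 1 ∧ a ≠ 1 := by
  intro a
  have e1 : φ a = a ^ q := P.pow a
  have e2 : φ (φ a) = a ^ (q * q) := by rw [e1, P.pow, ← pow_mul]
  have ha : a ≠ 0 := P.ne_zero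
  have hq := P.two_le
  have hqq : 2 * q ≤ q * q := Nat.mul_le_mul_right q hq
  have hqqq : 2 * (q * q) ≤ q * (q * q) := Nat.mul_le_mul_right _ hq
  have hN : q ^ 3 = q * (q * q) := by ring
  have g : ∀ k, 0 < k → k < q ^ 3 - 1 → a ^ k ≠ 1 := P.gen
  have g' : ∀ {i j : ℕ}, j < i → i - j < q ^ 3 - 1 → a ^ i ≠ a ^ j := fun {i j} h1 h2 e => by
    refine g (i - j) (by omega) h2 (mul_right_cancel₀ (pow_ne_zero j ha) ?_)
    rw [← pow_add, Nat.sub_add_cancel h1.le, one_mul, e]
  have a1 : a = a ^ 1 := (pow_one a).symm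
  rw [e2, e1]
  refine ⟨fun e => g' (i := q) (j := 1) (by omega) (by omega) (by rw [pow_one]; exact e),
    fun e => g' (i := q * q) (j := 1) (by omega) (by omega) (by rw [pow_one]; exact e),
    fun e => g 2 two_pos (by omega) (by rw [pow_two]; exact e),
    fun e => g (1 + q) (by omega) (by omega) (by rw [pow_add, pow_one]; exact e),
    fun e => g (1 + q * q) (by omega) (by omega) (by rw [pow_add, pow_one]; exact e),
    fun e => g' (i := q + q * q) (j := 1) (by omega) (by omega) (by rw [pow_add, pow_one]; exact e),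
    g q (by omega) (by omega), g (q * q) (by omega) (by omega),
    fun e => g (2 + q * q) (by omega) (by omega) (by rw [pow_add, pow_two]; exact e),
    fun e => g (2 + q) (by omega) (by omega) (by rw [pow_add, pow_two]; exact e),
    fun e => g 1 one_pos (by omega) (by rw [pow_one]; exact e)⟩

theorem mem : tor φ u γ ∈ TorSym d4Twist φ := tor_mem P.h3 u P.fixed

theorem values : let a := (u : K) ^ 2 / γ
    (chiX (tor φ u γ) 18 : K) = a ∧ (chiX (tor φ u γ) 14 : K) = 1 ∧ (chiX (tor φ u γ) 15 : K) = φ (φ a) ∧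
    (chiX (tor φ u γ) 19 : K) = a ∧ (chiX (tor φ u γ) 17 : K) = φ a * φ (φ a) ∧
    (chiX (tor φ u γ) 22 : K) = γ ∧ (chiX (tor φ u γ) 23 : K) = γ := by
  intro a
  obtain ⟨v18, v14, v15, v19, v17, v22, v23, -⟩ := chi_values (φ := φ) u γ
  have h := P.norm
  have hu : (u : K) ≠ 0 := u.ne_zero
  have hu1 : φ (u : K) ≠ 0 := by simp
  have hu2 : φ (φ (u : K)) ≠ 0 := by simp
  have hγ : (γ : K) ≠ 0 := γ.ne_zero
  refine ⟨v18, ?_, ?_, ?_, ?_, ?_, v23⟩
  · rw [v14, h, div_self (by simp)]
  · rw [v15]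
    simp only [a, map_div₀, map_pow, P.fixed]
    field_simp
    linear_combination h
  · rw [v19]
    simp only [a]
    field_simp
    linear_combination h
  · rw [v17]
    simp only [a, map_div₀, map_pow, P.fixed]
    field_simp
    linear_combination h
  · rw [v22, ← h]
    field_simp

/-- The roots where the character takes the value a. -/
theorem chi_eq_a (hD : Good chevD4) {r : ℕ} (hr : r < chevD4.nroots)
    (h : (chiX (tor φ u γ) r : K) = (u : K) ^ 2 / γ) : r ∈ [18, 19] ∨ ((γ : K) = 1 ∧ r = 6) := by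
  obtain ⟨v18, v14, v15, v19, v17, v22, v23⟩ := P.values
  obtain ⟨f1, f2, f3, f4, f5, f6, f7, f8, f9, f10, f11⟩ := P.facts
  have hNa := P.norm_a
  set a := (u : K) ^ 2 / γ
  have h3 := P.h3
  have hng : chevD4.neg 18 = 5 ∧ chevD4.neg 14 = 9 ∧ chevD4.neg 19 = 4 ∧ chevD4.neg 22 = 1 ∧ chevD4.neg 23 = 0 ∧
      chevD4.neg 21 = 2 ∧ d4Twist.rho 17 = 20 ∧ d4Twist.rho 20 = 21 := by decide +kernel
  obtain ⟨n18, n14, n19, n22, n23, n21, r17, r20⟩ := hng
  have hlt : ∀ k ∈ [18, 14, 19, 22, 23, 21, 17, 20], k < chevD4.nroots := by decide +kernel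
  have rho : ∀ {s}, s < chevD4.nroots →
      (chiX (tor φ u γ) (d4Twist.rho s) : K) = φ (chiX (tor φ u γ) s : K) := fun {s} hs => by
    rw [chiX_rho d4Twist_ok P.mem hs]; rfl
  have w5 : (chiX (tor φ u γ) 5 : K) = a⁻¹ := by rw [← n18, chiX_neg hD _ (hlt _ (by simp)), v18]
  have w4 : (chiX (tor φ u γ) 4 : K) = a⁻¹ := by rw [← n19, chiX_neg hD _ (hlt _ (by simp)), v19]
  have w2 : (chiX (tor φ u γ) 2 : K) = (a * φ a)⁻¹ := by
    rw [← n21, chiX_neg hD _ (hlt _ (by simp)), ← r20, rho (hlt _ (by simp)), ← r17, rho (hlt _ (by simp)), v17]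
    simp only [map_mul, h3]
  obtain ⟨rep, hrep, i, hi, rfl⟩ := d4Twist_ok.rep_cover r hr
  have hrepl := (d4Twist_ok.rep_lt rep hrep).1
  have hit : ∀ i, (chiX (tor φ u γ) (d4Twist.rho^[i] rep) : K) = (⇑φ)^[i] (chiX (tor φ u γ) rep : K) := fun i => by
    induction i with
    | zero => rfl
    | succ i ih =>
      rw [Function.iterate_succ_apply', Function.iterate_succ_apply', ← ih, rho (d4Twist_ok.iter_lt hrepl i)]
  rw [hit] at h
  have hfix : ∀ v : K, φ v = v → (⇑φ)^[i] v = a → False := fun v hv e => by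
    rw [Function.iterate_fixed hv] at e
    subst e; exact f1 hv
  have e0 : a ≠ 0 := P.ne_zero
  have hinv : ∀ v : K, v⁻¹ = a → a * v = 1 := fun v e => by
    have : v ≠ 0 := fun hv => e0 (by rw [← e, hv, _root_.inv_zero])
    rw [← e, inv_mul_cancel₀ this]
  simp only [d4Twist, List.mem_cons, List.not_mem_nil, or_false] at hrep
  rcases hrep with rfl | rfl | rfl | rfl | rfl | rfl | rfl | rfl | rfl | rfl | rfl | rfl
  -- 18
  · have hi3 : i < 3 := hi
    rw [v18] at h
    interval_cases i <;> simp at h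
    · exact Or.inl (by simp)
    · exact absurd h f1
    · exact absurd h f2
  -- 14
  · exact (hfix _ (by rw [v14, map_one]) h).elim
  -- 5
  · have hi3 : i < 3 := hi
    rw [w5] at h
    interval_cases i <;> simp at h
    · exact absurd (hinv a h) f3
    · exact absurd (hinv _ h) f4
    · exact absurd (hinv _ h) f5
  -- 9
  · exact (hfix _ (by rw [← n14, chiX_neg hD _ (hlt _ (by simp)), v14, inv_one, map_one]) h).elim
  -- 0
  · exact (hfix _ (by rw [← n23, chiX_neg hD _ (hlt _ (by simp)), v23, map_inv₀, P.fixed]) h).elim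
  -- 1
  · exact (hfix _ (by rw [← n22, chiX_neg hD _ (hlt _ (by simp)), v22, map_inv₀, P.fixed]) h).elim
  -- 2
  · have hi3 : i < 3 := hi
    rw [w2] at h
    interval_cases i
    · simp only [Function.iterate_zero_apply] at h
      exact absurd (by linear_combination hinv _ h) f10
    · simp only [Function.iterate_one, map_inv₀, map_mul] at h
      refine Or.inr ⟨?_, by decide⟩
      rw [← hNa, mul_assoc]
      exact hinv _ h
    · simp only [Function.iterate_succ_apply', Function.iterate_zero_apply, map_inv₀, map_mul, h3] at h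
      exact absurd (by linear_combination hinv _ h) f9
  -- 4
  · have hi3 : i < 3 := hi
    rw [w4] at h
    interval_cases i <;> simp at h
    · exact absurd (hinv a h) f3
    · exact absurd (hinv _ h) f4
    · exact absurd (hinv _ h) f5
  -- 15
  · have hi3 : i < 3 := hi
    rw [v15] at h
    interval_cases i <;> simp [h3] at h
    · exact absurd h f2
    · exact Or.inl (by decide)
    · exact absurd h f1
  -- 17
  · have hi3 : i < 3 := hi
    rw [v17] at h
    interval_cases i
    · exact absurd (by simpa using h) f6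
    · simp only [Function.iterate_one, map_mul, h3] at h
      exact absurd ((mul_eq_right₀ e0).1 h) f8
    · simp only [Function.iterate_succ_apply', Function.iterate_zero_apply, map_mul, h3] at h
      exact absurd ((mul_eq_left₀ e0).1 h) f7
  -- 22
  · exact (hfix _ (by rw [v22, P.fixed]) h).elim
  -- 23
  · exact (hfix _ (by rw [v23, P.fixed]) h).elim

end Central

theorem Uminus_nil : (C).rgd.Uminus ([] : List (Fin 2)) = ⊥ :=
  le_bot_iff.1 ((C).rgd.span_le fun _ hr => absurd hr.1 hr.2)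

/-- The Bruhat factors of a centralising element, with the middle one among twelve words. -/
theorem decomp_word {q : ℕ} {u γ : Kˣ} (P : Central φ q u γ) {g : GL chevD4.Idx K} (hg : g ∈ (C).G0)
    (hc : theta chevD4 K (tor φ u γ) * g = g * theta chevD4 K (tor φ u γ)) :
    ∃ a ∈ (C).rgd.Upos, ∃ t ∈ (C).H0, ∃ w ∈ words, ∃ b ∈ (C).rgd.Uminus w, g = a * t * (C).rgd.nw w * b ∧
      theta chevD4 K (tor φ u γ) * a = a * theta chevD4 K (tor φ u γ) ∧
      theta chevD4 K (tor φ u γ) * b = b * theta chevD4 K (tor φ u γ) ∧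
      theta chevD4 K (tor φ u γ) * (C).rgd.nw w = (C).rgd.nw w * theta chevD4 K (tor φ u γ) ∧
      ∀ s ∈ [18, 19], wW d4Twist d4Node w s ∈ [18, 19] ∨ ((γ : K) = 1 ∧ wW d4Twist d4Node w s = 6) := by
  obtain ⟨a, ha, t, ht, l, b, hb, e, ca, cb, cl⟩ := (C).centralizer_decomp P.mem hg hc
  obtain ⟨w, hw, k, hk, el⟩ := exists_word hD (φ := φ) l
  set θ := theta chevD4 K (tor φ u γ)
  have hθk : θ * k = k * θ := by
    obtain ⟨y, -, rfl⟩ := hk
    rw [← map_mul, mul_comm, map_mul]
  have cw : θ * (C).rgd.nw w = (C).rgd.nw w * θ := by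
    rw [el] at cl
    refine mul_left_cancel (a := k) ?_
    calc k * (θ * (C).rgd.nw w) = θ * (k * (C).rgd.nw w) := by rw [← mul_assoc, ← hθk, mul_assoc]
      _ = k * (C).rgd.nw w * θ := cl
      _ = _ := mul_assoc _ _ _
  refine ⟨a, ha, t * k, mul_mem ht hk, w, hw, b, (C).rgd.Uminus_congr hk el ▸ hb, ?_, ca, cb, cw, fun s hs => ?_⟩
  · rw [e, el]; group
  · have hs' : s < chevD4.nroots ∧ (chiX (tor φ u γ) s : K) = (u : K) ^ 2 / γ := by
      obtain ⟨v18, -, -, v19, -, -, -⟩ := P.values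
      simp only [List.mem_cons, List.not_mem_nil, or_false] at hs
      rcases hs with rfl | rfl
      · exact ⟨by decide +kernel, v18⟩
      · exact ⟨by decide +kernel, v19⟩
    obtain ⟨hlt, -⟩ := (C).monomial_mulVec w hs'.1
    exact P.chi_eq_a hD hlt ((congrArg Units.val ((C).chi_wW cw hs'.1)).trans hs'.2)

theorem words_pair : ∀ w ∈ words, wW d4Twist d4Node w 18 ∈ [18, 19] → wW d4Twist d4Node w 19 ∈ [18, 19] →
    w = [] ∨ w = [1] := by decide +kernel

/-- For γ ≠ 1 the centraliser lies in the Levi subgroup. -/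
theorem mem_levi_of_commute {q : ℕ} {u γ : Kˣ} (P : Central φ q u γ) (hγ : (γ : K) ≠ 1) {g : GL chevD4.Idx K}
    (hg : g ∈ (C).G0) (hc : theta chevD4 K (tor φ u γ) * g = g * theta chevD4 K (tor φ u γ)) :
    g ∈ (levi (φ := φ) hD).range := by
  obtain ⟨a, ha, t, ht, w, hw, b, hb, rfl, ca, cb, -, hs⟩ := decomp_word hD P hg hc
  have pos : ∀ a ∈ (C).rgd.Upos, theta chevD4 K (tor φ u γ) * a = a * theta chevD4 K (tor φ u γ) →
      a ∈ (levi (φ := φ) hD).range := by
    intro a ha ca
    obtain ⟨x, y, z, w, v, e, hy, -, -, rfl, c18, c15, c17, c22, c23⟩ := pos_centralizer hD P.mem ha ca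
    obtain ⟨v18, -, v15, -, v17, v22, v23⟩ := P.values
    obtain ⟨-, -, -, -, -, -, f7, f8, -, -, f11⟩ := P.facts
    rw [v18] at c18
    rw [v15] at c15
    rw [v17] at c17
    rw [v22] at c22
    rw [v23] at c23
    obtain rfl := c18.resolve_left f11
    obtain rfl := c15.resolve_left f8
    obtain rfl := c17.resolve_left (fun h => by
      have h' := P.norm_a
      rw [mul_assoc, h, mul_one] at h'
      exact P.facts.1 (h'.symm ▸ P.fixed))
    obtain rfl := c22.resolve_left hγ
    obtain rfl := c23.resolve_left hγ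
    simp only [(C).orb_zero, one_mul, mul_one]
    exact mem_levi_pos hD P.h3 hy
  refine mul_mem (mul_mem (mul_mem (pos a ha ca) (mem_levi_torus hD P.h3 ht)) ?_)
    (pos b ((C).rgd.Uminus_le_Upos w hb) cb)
  rcases words_pair w hw ((hs 18 (by simp)).resolve_right fun h => hγ h.1)
    ((hs 19 (by simp)).resolve_right fun h => hγ h.1) with rfl | rfl
  · rw [RGD.RootData.nw_nil]; exact one_mem _
  · exact mem_levi_nw hD P.h3

end Cfsg.Agent.TwistE6D4.D4
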