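import Cfsg.Agent.Lib.TwistE6D4.D4TorusBase
import Cfsg.Agent.Lib.Chev.SL2Hom
import Cfsg.Agent.EqLemmas

/-!
# The Levi subgroup of the long simple root of ³D₄

* `Fib`, `levi`: the pairs (M, u), det M = N(u), and their embedding in the group; `levi_injective`;
* `mem_levi_pos`, `mem_levi_torus`, `mem_levi_nw`: its standard elements.
-/

set_option autoImplicit false
set_option maxRecDepth 100000

namespace Cfsg.Agent.TwistE6D4.D4

open Cfsg.Lie Cfsg.Lie.ChevalleyDatum Cfsg.Agent.Chev Matrix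
open Cfsg.Agent.Chev.RankOne (sl2Hom slX slY slW eq_xyx)
open scoped MatrixGroups

variable {K : Type*} [Field K]

/-- Two homomorphisms on SL₂ agreeing on the unitriangular matrices are equal. -/
theorem sl2_ext {G : Type*} [Group G] {f g : SL(2, K) →* G} (hX : ∀ t, f (slX t) = g (slX t))
    (hY : ∀ t, f (slY t) = g (slY t)) : f = g := by
  have hne : ∀ s : SL(2, K), s.1 1 0 ≠ 0 → f s = g s := fun s hc => by
    rw [eq_xyx s hc]; simp only [map_mul, hX, hY]
  refine MonoidHom.ext fun s => ?_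
  by_cases hc : s.1 1 0 = 0
  · have h1 : (s * slY 1).1 1 0 ≠ 0 := by
      rw [Chev.RankOne.mul_slY_c s hc]; exact (Chev.RankOne.ne_zero_of_c s hc).2
    have := hne _ h1
    rw [map_mul, map_mul, hY] at this
    exact mul_right_cancel this
  · exact hne s hc

/-- Conjugation of SL₂ by diag(1, n). -/
def conjD (n : Kˣ) : SL(2, K) →* SL(2, K) where
  toFun s := ⟨!![s.1 0 0, s.1 0 1 * n; s.1 1 0 * (n⁻¹ : Kˣ), s.1 1 1], by
    have h := Chev.RankOne.det_eq s
    rw [Matrix.det_fin_two_of]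
    linear_combination h + (-(s.1 0 1 * s.1 1 0)) * n.mul_inv⟩
  map_one' := by ext i j; fin_cases i <;> fin_cases j <;> simp
  map_mul' s t := by
    apply Subtype.ext
    show !![(s.1 * t.1) 0 0, (s.1 * t.1) 0 1 * (n : K); (s.1 * t.1) 1 0 * (n⁻¹ : Kˣ), (s.1 * t.1) 1 1] =
      !![s.1 0 0, s.1 0 1 * n; s.1 1 0 * (n⁻¹ : Kˣ), s.1 1 1] *
        !![t.1 0 0, t.1 0 1 * n; t.1 1 0 * (n⁻¹ : Kˣ), t.1 1 1]
    ext i j
    fin_cases i <;> fin_cases j <;> simp [Matrix.mul_apply, Fin.sum_univ_two] <;> field_simp <;> ring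

theorem coe_conjD (n : Kˣ) (s : SL(2, K)) :
    (conjD n s).1 = !![s.1 0 0, s.1 0 1 * n; s.1 1 0 * (n⁻¹ : Kˣ), s.1 1 1] := rfl

variable (φ : K →+* K)

/-- The fixed field. -/
def Fq : Subfield K := φ.eqLocusField (RingHom.id K)

theorem mem_Fq {x : K} : x ∈ Fq φ ↔ φ x = x := Iff.rfl

theorem fixq (x : Fq φ) : φ (x : K) = x := x.2

/-- The norm to the fixed field. -/
def nm : Kˣ →* Kˣ :=
  MonoidHom.id _ * Units.map (φ : K →* K) * (Units.map (φ : K →* K)).comp (Units.map (φ : K →* K))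

theorem coe_nm (u : Kˣ) : (nm φ u : K) = u * φ u * φ (φ u) := by simp [nm]

variable {φ}

theorem fix_nm (h3 : ∀ t, φ (φ (φ t)) = t) (u : Kˣ) : φ (nm φ u : K) = nm φ u := by
  rw [coe_nm]; exact fix_norm h3 _

variable (φ)

/-- Pairs (M, u) with det M = N(u). -/
def Fib : Subgroup (GL (Fin 2) (Fq φ) × Kˣ) :=
  (((Units.map ((Fq φ).subtype : Fq φ →* K)).comp Matrix.GeneralLinearGroup.det).comp (MonoidHom.fst _ _)).eqLocus
    ((nm φ).comp (MonoidHom.snd _ _))

variable {φ}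

theorem mem_Fib {p : GL (Fin 2) (Fq φ) × Kˣ} :
    p ∈ Fib φ ↔ (((p.1 : Matrix (Fin 2) (Fin 2) (Fq φ)).det : Fq φ) : K) = nm φ p.2 := by
  refine ⟨fun h => congrArg Units.val h, fun h => Units.ext h⟩

/-- The SL₂ part of a pair. -/
def slPart (p : Fib φ) : SL(2, K) :=
  ⟨!![((p.1.1.1 0 0 : Fq φ) : K), ((p.1.1.1 0 1 : Fq φ) : K);
      ((p.1.1.1 1 0 : Fq φ) : K) * ((nm φ p.1.2)⁻¹ : Kˣ), ((p.1.1.1 1 1 : Fq φ) : K) * ((nm φ p.1.2)⁻¹ : Kˣ)], by
    have h := mem_Fib.1 p.2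
    rw [Matrix.det_fin_two] at h
    push_cast at h
    rw [Matrix.det_fin_two_of]
    calc _ = (((p.1.1.1 0 0 : Fq φ) : K) * ((p.1.1.1 1 1 : Fq φ) : K) - ((p.1.1.1 0 1 : Fq φ) : K) *
          ((p.1.1.1 1 0 : Fq φ) : K)) * ((nm φ p.1.2)⁻¹ : Kˣ) := by ring
      _ = _ := by rw [h, Units.mul_inv]⟩

variable (hD : Good chevD4)

theorem lt14 : 14 < chevD4.nroots := by decide +kernel

theorem neg14 : chevD4.neg 14 = 9 := by decide +kernel

theorem simple1 : chevD4.simple 1 = 14 := by decide +kernel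

local notation "C" => ctxD4 hD φ
local notation "o" => orb hD d4Twist φ

theorem orb14_eq (r : ℕ) (hr : d4Twist.len r = 1) (t : K) : o r t = ChevBN.xg hD K r t := by
  simp [orb, hr, cf_zero, List.range_one]

theorem conj_slPart_aux (u : Kˣ) (s : SL(2, K)) :
    (theta chevD4 K (tor φ u 1))⁻¹ * sl2Hom hD lt14 s * theta chevD4 K (tor φ u 1) =
      sl2Hom hD lt14 (conjD (nm φ u) s) := by
  set θ := theta chevD4 K (tor φ u 1)
  have h14 := lt14
  have h9 := neg14
  have hc14 : (chiX (tor φ u 1) 14 : K) = ((nm φ u)⁻¹ : Kˣ) := by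
    rw [(chi_values (φ := φ) u 1).2.1, Units.val_inv_eq_inv_val, coe_nm]
    simp
  have hc9 : (chiX (tor φ u 1) 9 : K) = nm φ u := by
    have h : chiX (tor φ u 1) 9 = (chiX (tor φ u 1) 14)⁻¹ := by
      simp only [chiX, ← h9, ← Finset.prod_inv_distrib]
      refine Finset.prod_congr rfl fun i _ => ?_
      rw [hD.cartan_neg 14 h14 i i.isLt, _root_.zpow_neg]
    rw [h, Units.val_inv_eq_inv_val, hc14, Units.val_inv_eq_inv_val, inv_inv]
  have key : ∀ {r : ℕ}, r < chevD4.nroots → ∀ t : K, θ⁻¹ * ChevBN.xg hD K r t * θ =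
      ChevBN.xg hD K r (t / (chiX (tor φ u 1) r : K)) := fun {r} hr t => by
    have h := theta_conj_gx hD (tor φ u 1) hr (t / (chiX (tor φ u 1) r : K))
    rw [mul_div_cancel₀ _ (Units.ne_zero _)] at h
    change θ * ChevBN.xg hD K r _ * θ⁻¹ = ChevBN.xg hD K r t at h
    rw [← h]
    group
  have e : ((MulAut.conj θ⁻¹).toMonoidHom.comp (sl2Hom hD lt14)) = (sl2Hom hD lt14).comp (conjD (nm φ u)) := by
    refine sl2_ext (fun t => ?_) (fun t => ?_) <;>
      simp only [MonoidHom.comp_apply, MulEquiv.coe_toMonoidHom, MulAut.conj_apply, inv_inv]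
    · rw [Chev.RankOne.sl2Hom_slX, key h14, hc14, Units.val_inv_eq_inv_val, div_inv_eq_mul,
        show conjD (nm φ u) (slX t) = slX (t * (nm φ u : K)) from by
          apply Subtype.ext; rw [coe_conjD]; simp [slX],
        Chev.RankOne.sl2Hom_slX]
    · rw [Chev.RankOne.sl2Hom_slY, h9, key (h9 ▸ hD.neg_lt 14 h14), hc9,
        show conjD (nm φ u) (slY t) = slY (t / (nm φ u : K)) from by
          apply Subtype.ext; rw [coe_conjD]; simp [slY, div_eq_mul_inv],
        Chev.RankOne.sl2Hom_slY, h9]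
  simpa using DFunLike.congr_fun e s

/-- The Levi subgroup as the image of the pairs. -/
noncomputable def levi : Fib φ →* GL chevD4.Idx K :=
  MonoidHom.mk' (fun p => theta chevD4 K (tor φ p.1.2 1) * sl2Hom hD lt14 (slPart p)) fun p p' => by
    have e : slPart (p * p') = conjD (nm φ p'.1.2) (slPart p) * slPart p' := by
      apply Subtype.ext
      simp only [Matrix.SpecialLinearGroup.coe_mul, coe_conjD]
      ext i j
      fin_cases i <;> fin_cases j <;>
        simp [slPart, Matrix.mul_apply, Fin.sum_univ_two, map_mul, Units.val_inv_eq_inv_val] <;>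
        field_simp
    rw [e, map_mul, ← conj_slPart_aux hD]
    simp only [Subgroup.coe_mul, Prod.snd_mul]
    rw [show tor φ (p.1.2 * p'.1.2) 1 = tor φ p.1.2 1 * tor φ p'.1.2 1 by rw [← tor_mul, mul_one], map_mul]
    group

theorem levi_apply (p : Fib φ) :
    levi hD p = theta chevD4 K (tor φ p.1.2 1) * sl2Hom hD lt14 (slPart p) := rfl

theorem levi_mem_G0 (h3 : ∀ t, φ (φ (φ t)) = t) (p : Fib φ) : levi hD p ∈ (C).G0 := by
  rw [levi_apply]
  refine mul_mem ((C).theta_mem_G0 (tor_mem h3 _ (map_one φ))) ?_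
  have hx : ∀ t, φ t = t → ChevBN.xg hD K 14 t ∈ (C).G0 := fun t ht => by
    rw [← orb14_eq hD 14 (by decide)]
    exact orb_mem_G0 hD φ (by decide) (by simpa [show d4Twist.len 14 = 1 by decide] using ht)
  have hy : ∀ t, φ t = t → ChevBN.xg hD K 9 t ∈ (C).G0 := fun t ht => by
    rw [← orb14_eq hD 9 (by decide)]
    exact orb_mem_G0 hD φ (by decide) (by simpa [show d4Twist.len 9 = 1 by decide] using ht)
  have hn : ∀ t, φ t = t → ChevBN.ng hD K 14 t ∈ (C).G0 := fun t ht => by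
    rw [ChevBN.ng, neg14]
    exact mul_mem (mul_mem (hx t ht) (hy _ (by simp [ht]))) (hx t ht)
  have hN : φ ((nm φ p.1.2)⁻¹ : Kˣ).val = ((nm φ p.1.2)⁻¹ : Kˣ).val := by
    rw [Units.val_inv_eq_inv_val, map_inv₀, fix_nm h3]
  show Chev.RankOne.phi hD (r := 14) (slPart p) ∈ (C).G0
  simp only [Chev.RankOne.phi, Chev.RankOne.phiE]
  split
  · exact mul_mem (mul_mem (hn _ (by simp [slPart, fixq])) (hn _ (by simp))) (hx _ (by simp [slPart, fixq]))
  · exact mul_mem (mul_mem (hx _ (by simp [slPart, fixq, hN]; simp [fixq, fix_nm h3]))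
      (hn _ (by simp [slPart, fixq, hN]; simp [fixq, fix_nm h3])))
      (hx _ (by simp [slPart, fixq, hN]; simp [fixq, fix_nm h3]))

/-- The element (M, u) given by entries. -/
theorem mem_range_of (h3 : ∀ t, φ (φ (φ t)) = t) (u : Kˣ) {a b c d : K} (ha : φ a = a) (hb : φ b = b) (hc : φ c = c)
    (hd : φ d = d) (hdet : a * d - b * c = 1) :
    theta chevD4 K (tor φ u 1) * sl2Hom hD lt14 ⟨!![a, b; c, d], by rw [Matrix.det_fin_two_of]; exact hdet⟩ ∈
      (levi (φ := φ) hD).range := by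
  set n : K := (nm φ u : K)
  have hn : φ n = n := fix_nm h3 u
  let M : Matrix (Fin 2) (Fin 2) (Fq φ) :=
    !![⟨a, ha⟩, ⟨b, hb⟩; ⟨c * n, show φ (c * n) = c * n by rw [map_mul, hc, hn]⟩,
      ⟨d * n, show φ (d * n) = d * n by rw [map_mul, hd, hn]⟩]
  have hM : ((M.det : Fq φ) : K) = n := by
    rw [Matrix.det_fin_two]
    show a * (d * n) - b * (c * n) = n
    linear_combination n * hdet
  have hM0 : IsUnit M.det := isUnit_iff_ne_zero.2 fun e => (nm φ u).ne_zero (by
    rw [e] at hM; exact hM.symm)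
  refine ⟨⟨(Matrix.GeneralLinearGroup.mk'' M hM0, u), mem_Fib.2 hM⟩, ?_⟩
  have hval : (Matrix.GeneralLinearGroup.mk'' M hM0).1 = M := rfl
  rw [levi_apply]
  congr 2
  ext i j
  fin_cases i <;> fin_cases j <;>
    simp [slPart, hval] <;> simp [M, n, Units.val_inv_eq_inv_val]

theorem tor_one_single (c : Kˣ) : tor φ 1 c = Pi.mulSingle (d4Node 1) c := by
  refine funext fun i => ?_
  by_cases hi : i = d4Node 1
  · subst hi
    rw [Pi.mulSingle_eq_same]
    rfl
  · rw [Pi.mulSingle_eq_of_ne hi]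
    revert i
    show ∀ i : Fin 4, _
    intro i
    match i with
    | 0 => exact fun _ => rfl
    | 1 => exact fun h => absurd rfl h
    | 2 => exact fun _ => map_one _
    | 3 => exact fun _ => (congrArg _ (map_one _)).trans (map_one _)

theorem theta_tor_one (c : Kˣ) : theta chevD4 K (tor φ 1 c) = ChevBN.hg hD K 14 (c : K) := by
  rw [tor_one_single, theta_single hD, show chevD4.simple ((d4Node 1).val) = 14 by decide +kernel]

theorem tor_one : theta chevD4 K (tor φ (1 : Kˣ) 1) = 1 := by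
  rw [tor_one_single, Pi.mulSingle_one, map_one]

theorem mem_levi_torus (h3 : ∀ t, φ (φ (φ t)) = t) {t : GL chevD4.Idx K} (ht : t ∈ (C).H0) :
    t ∈ (levi (φ := φ) hD).range := by
  obtain ⟨x, hx, rfl⟩ := ht
  obtain ⟨u, c, hc, rfl⟩ := tor_surj hx
  have e : theta chevD4 K (tor φ u c) = theta chevD4 K (tor φ u 1) *
      sl2Hom hD lt14 ⟨!![(c : K), 0; 0, ((c : K))⁻¹], by simp⟩ := by
    have h1 : sl2Hom hD lt14 ⟨!![(c : K), 0; 0, ((c : K))⁻¹], by simp⟩ = theta chevD4 K (tor φ 1 c) := by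
      show Chev.RankOne.phi hD (r := 14) _ = _
      rw [theta_tor_one hD]
      simp [Chev.RankOne.phi, Chev.RankOne.phiE, ChevBN.xg_zero]
    rw [h1, ← map_mul, ← tor_mul, mul_one, one_mul]
  rw [e]
  exact mem_range_of hD h3 u hc (map_zero φ) (map_zero φ) (by simp [hc]) (by simp)

theorem mem_levi_pos (h3 : ∀ t, φ (φ (φ t)) = t) {y : K} (hy : φ y = y) :
    o 14 y ∈ (levi (φ := φ) hD).range := by
  have h := mem_range_of hD h3 1 (map_one φ) hy (map_zero φ) (map_one φ) (show (1 : K) * 1 - y * 0 = 1 by ring)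
  rw [tor_one, one_mul] at h
  rwa [orb14_eq hD 14 (by decide), ← Chev.RankOne.sl2Hom_slX hD lt14]

theorem nw_one : (C).rgd.nw [(1 : Fin 2)] = sl2Hom hD lt14 slW := by
  rw [RGD.RootData.nw_cons, RGD.RootData.nw_nil, mul_one]
  show (C).ns (1 : Fin 2) 1 = Chev.RankOne.phi hD (r := 14) slW
  have hL : (C).L (1 : Fin 2) = 1 := by
    show d4Twist.len (chevD4.simple (d4Node 1).val) = 1
    rw [d4_len]; rfl
  simp [Ctx.ns, Ctx.oprod, hL, List.range_one, Chev.RankOne.phi, Chev.RankOne.phiE, slW, Ctx.rk, ChevBN.xg_zero,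
    show chevD4.simple ((d4Node 1).val) = 14 by decide +kernel]

theorem mem_levi_nw (h3 : ∀ t, φ (φ (φ t)) = t) : (C).rgd.nw [(1 : Fin 2)] ∈ (levi (φ := φ) hD).range := by
  have h := mem_range_of hD h3 1 (map_zero φ) (map_one φ) (show φ (-1 : K) = -1 by simp) (map_zero φ) (show (0 : K) * 0 - 1 * -1 = 1 by ring)
  rw [tor_one, one_mul] at h
  rwa [nw_one]

theorem levi_injective (h3 : ∀ t, φ (φ (φ t)) = t) : Function.Injective (levi (φ := φ) hD) := by
  refine (injective_iff_map_eq_one _).2 fun p hp => ?_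
  rw [levi_apply] at hp
  have hphi : sl2Hom hD lt14 (slPart p) ∈ (C).H0 := by
    rw [eq_inv_of_mul_eq_one_right hp]
    exact inv_mem ⟨_, tor_mem h3 _ (map_one φ), rfl⟩
  set s := slPart p with hs
  have hfix : ∀ i j, φ (s.1 i j) = s.1 i j := by
    intro i j
    have hn : φ ((nm φ p.1.2)⁻¹ : Kˣ).val = ((nm φ p.1.2)⁻¹ : Kˣ).val := by
      rw [Units.val_inv_eq_inv_val, map_inv₀, fix_nm h3]
    rw [hs]
    fin_cases i <;> fin_cases j <;> simp [slPart, fixq, fix_nm h3]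
  have hU : ∀ t, φ t = t → ChevBN.xg hD K 14 t ∈ (C).rgd.Upos := fun t ht => by
    rw [← orb14_eq hD 14 (by decide)]
    refine (C).rgd.U_le_Upos (r := ⟨14, show 14 ∈ d4Twist.reps by decide⟩) (show 0 < d4Twist.ht 14 by decide) ?_
    exact (C).orb_mem_Uo (show 14 ∈ d4Twist.reps by decide) (by simpa [show d4Twist.len 14 = 1 by decide] using ht)
  have hh : ∀ a : Kˣ, φ (a : K) = a → ChevBN.hg hD K 14 (a : K) ∈ (C).H0 := fun a ha => by
    rw [← theta_tor_one (φ := φ) hD]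
    exact ⟨_, tor_mem h3 1 ha, rfl⟩
  change Chev.RankOne.phi hD (r := 14) s ∈ (C).H0 at hphi
  simp only [Chev.RankOne.phi, Chev.RankOne.phiE] at hphi
  split at hphi
  next hc0 =>
    obtain ⟨ha, -⟩ := Chev.RankOne.ne_zero_of_c s hc0
    have hU1 : ChevBN.xg hD K 14 (s.1 0 1 / s.1 0 0) ∈ (C).rgd.Upos ⊓ (C).rgd.H := by
      refine Subgroup.mem_inf.2 ⟨hU _ (by rw [map_div₀, hfix, hfix]), ?_⟩
      have := mul_mem (inv_mem (hh (Units.mk0 _ ha) (hfix 0 0))) hphi
      show _ ∈ (C).H0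
      simpa using this
    rw [show (C).rgd.Upos ⊓ (C).rgd.H = ⊥ from (C).rgd.U_inf_H, Subgroup.mem_bot] at hU1
    rw [← orb14_eq hD 14 (by decide)] at hU1
    have hb0 : s.1 0 1 = 0 := by
      have := (C).orb_eq_one_iff (show 14 ∈ d4Twist.reps by decide) hU1
      simpa [ha] using this
    have e := hp
    change theta chevD4 K (tor φ p.1.2 1) * Chev.RankOne.phi hD (r := 14) s = 1 at e
    simp only [Chev.RankOne.phi, Chev.RankOne.phiE, hc0, hb0, if_true, zero_div, ChevBN.xg_zero, mul_one] at e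
    have e1 := theta_tor_one (φ := φ) hD (Units.mk0 _ ha)
    rw [Units.val_mk0] at e1
    rw [← e1, ← map_mul, ← tor_mul, mul_one, one_mul] at e
    obtain ⟨hu, hca⟩ := tor_inj h3 e
    have ha1 : s.1 0 0 = 1 := congrArg Units.val hca
    have hn1 : (nm φ p.1.2 : K) = 1 := by rw [hu, map_one, Units.val_one]
    have hd1 : s.1 1 1 = 1 := by
      have h := Chev.RankOne.det_eq s
      rw [hc0, ha1, hb0] at h
      linear_combination h
    rw [hs] at ha1 hb0 hc0 hd1
    simp [slPart, Units.val_inv_eq_inv_val, hn1] at ha1 hb0 hc0 hd1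
    refine Subtype.ext (Prod.ext (Units.ext (Matrix.ext fun i j => Subtype.ext ?_)) hu)
    fin_cases i <;> fin_cases j <;> simp [ha1, hb0, hc0, hd1]
  next hc0 =>
    exfalso
    set R := (C).rgd
    have hq : ChevBN.ng hD K 14 (-1 / s.1 1 0) ∈ R.B := by
      have h1 := hU _ (show φ (s.1 0 0 / s.1 1 0) = _ by rw [map_div₀, hfix, hfix])
      have h2 := hU _ (show φ (s.1 1 1 / s.1 1 0) = _ by rw [map_div₀, hfix, hfix])
      have h3' := mul_mem (mul_mem (inv_mem (R.Upos_le_B h1)) (R.H_le_B hphi)) (inv_mem (R.Upos_le_B h2))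
      simpa [mul_assoc] using h3'
    have hne : -1 / s.1 1 0 ≠ 0 := div_ne_zero (by simp) hc0
    have e2 : ChevBN.ng hD K 14 (-1 / s.1 1 0) = ChevBN.hg hD K 14 (-1 / s.1 1 0) * R.nw [(1 : Fin 2)] := by
      rw [nw_one]
      show _ = _ * Chev.RankOne.phi hD (r := 14) slW
      simp [Chev.RankOne.phi, Chev.RankOne.phiE, slW, ChevBN.xg_zero]
      exact Chev.RankOne.ng_eq_hg_mul hD 14 _
    rw [e2] at hq
    have h4 : R.nw [(1 : Fin 2)] ∈ R.B := by
      have := mul_mem (inv_mem (R.H_le_B (hh (Units.mk0 _ hne) (by simp [hfix])))) hq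
      simpa using this
    have h5 := ((C).nw_mem_H_iff _).1 ((R.nw_mem_B_iff _).1 h4)
    exact absurd h5 (show ¬ posW d4Twist d4Node [1] by decide +kernel)

end Cfsg.Agent.TwistE6D4.D4
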