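import Cfsg.Agent.Lib.TwistE6D4.Unip
import Cfsg.Agent.Lib.ChevCentralizer.Pair
import Cfsg.Agent.EqLemmas

/-!
# A collection procedure for words in root elements, integer coefficients

Parameters are polynomials over the integers, as lists of terms (coefficient, sorted variables).
`evalW_eq`: words with equal normal forms are equal in every Chevalley group.
-/

set_option autoImplicit false

namespace Cfsg.Agent.TwistE6D4.CollectInt

open Cfsg.Lie Cfsg.Lie.ChevalleyDatum Cfsg.Agent.Chev Cfsg.Agent.TwistE6D4

/-- Polynomials over the integers. -/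
abbrev Poly : Type := List (ℤ × List ℕ)

/-- Insertion in a sorted list of variables. -/
def insV (a : ℕ) : List ℕ → List ℕ
  | [] => [a]
  | b :: l => if a ≤ b then a :: b :: l else b :: insV a l

/-- Comparison of monomials. -/
def leM : List ℕ → List ℕ → Bool
  | [], _ => true
  | _ :: _, [] => false
  | a :: l, b :: m => if a < b then true else if b < a then false else leM l m

/-- Addition of a term to a sorted polynomial. -/
def addM (c : ℤ) (a : List ℕ) : Poly → Poly
  | [] => if c = 0 then [] else [(c, a)]
  | (d, b) :: l =>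
    if a = b then (if c + d = 0 then l else (c + d, b) :: l)
    else if leM a b then (if c = 0 then (d, b) :: l else (c, a) :: (d, b) :: l)
    else (d, b) :: addM c a l

/-- Sums. -/
def padd (p q : Poly) : Poly := p.foldr (fun m acc => addM m.1 m.2 acc) q

/-- Products. -/
def pmul (p q : Poly) : Poly :=
  p.foldr (fun a acc => q.foldr (fun b acc => addM (a.1 * b.1) (a.2.foldr insV b.2) acc) acc) []

/-- Powers. -/
def ppow (p : Poly) : ℕ → Poly
  | 0 => [(1, [])]
  | n + 1 => pmul (ppow p n) p

variable {D : ChevalleyDatum}

/-- The correcting terms of a transposition. -/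
def terms (D : ChevalleyDatum) (r s : ℕ) (t u : Poly) : List (ℕ × Poly) :=
  (D.commTerms r s).map fun τ =>
    (τ.1, pmul [(τ.2.1 * (-1) ^ τ.2.2.1, [])] (pmul (ppow t τ.2.2.1) (ppow u τ.2.2.2)))

/-- Insertion of a root element from the left into a collected word. -/
def push (D : ChevalleyDatum) (key : ℕ → ℕ) : ℕ → ℕ × Poly → List (ℕ × Poly) → List (ℕ × Poly)
  | 0, e, W => e :: W
  | _ + 1, e, [] => if e.2 = [] then [] else [e]
  | n + 1, e, (r, t) :: W =>
    if e.2 = [] then (r, t) :: W
    else if e.1 = r then
      if padd e.2 t = [] then W else (r, padd e.2 t) :: W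
    else if key r < key e.1 ∧ r < D.nroots ∧ e.1 < D.nroots ∧ e.1 ≠ D.neg r then
      (r, t) :: (e :: terms D r e.1 t e.2).foldr (push D key n) W
    else e :: (r, t) :: W

/-- Collection. -/
def norm (D : ChevalleyDatum) (key : ℕ → ℕ) (n : ℕ) (W : List (ℕ × Poly)) : List (ℕ × Poly) :=
  W.foldr (push D key n) []

variable {K : Type*} [Field K] (hD : Good D) (σ : ℕ → K)

/-- The value of a polynomial. -/
def evalP (σ : ℕ → K) (p : Poly) : K := (p.map fun m => (m.1 : K) * (m.2.map σ).prod).sum

/-- The value of a letter. -/
abbrev evalE (e : ℕ × Poly) : GL D.Idx K := gx hD K e.1 (evalP σ e.2)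

/-- The value of a word. -/
def evalW (W : List (ℕ × Poly)) : GL D.Idx K := (W.map (evalE hD σ)).prod

theorem evalW_nil : evalW hD σ [] = 1 := rfl

theorem evalW_cons (e : ℕ × Poly) (W : List (ℕ × Poly)) :
    evalW hD σ (e :: W) = evalE hD σ e * evalW hD σ W := by simp [evalW]

theorem evalW_append (A B : List (ℕ × Poly)) : evalW hD σ (A ++ B) = evalW hD σ A * evalW hD σ B := by
  simp [evalW]

omit hD

theorem insV_prod (a : ℕ) : ∀ l : List ℕ, ((insV a l).map σ).prod = σ a * (l.map σ).prod
  | [] => by simp [insV]
  | b :: l => by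
    rw [insV]
    split
    · simp
    · simp [insV_prod a l, mul_left_comm]

theorem foldr_insV_prod (a b : List ℕ) :
    ((a.foldr insV b).map σ).prod = (a.map σ).prod * (b.map σ).prod := by
  induction a with
  | nil => simp
  | cons x a ih => rw [List.foldr_cons, insV_prod, ih, List.map_cons, List.prod_cons, mul_assoc]

theorem evalP_addM (c : ℤ) (a : List ℕ) :
    ∀ p : Poly, evalP σ (addM c a p) = (c : K) * (a.map σ).prod + evalP σ p
  | [] => by
    rw [addM]
    split
    next h => simp [h, evalP]
    next => simp [evalP]
  | (d, b) :: l => by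
    have ih := evalP_addM c a l
    rw [addM]
    split_ifs with h1 h2 h3 h4
    · subst h1
      have : (c : K) + (d : K) = 0 := by rw [← Int.cast_add, h2, Int.cast_zero]
      simp only [evalP, List.map_cons, List.sum_cons]
      rw [← add_assoc, ← add_mul, this, zero_mul, zero_add]
    · subst h1
      simp only [evalP, List.map_cons, List.sum_cons, Int.cast_add, add_mul, add_assoc]
    · simp [h4, evalP]
    · simp [evalP]
    · simp only [evalP, List.map_cons, List.sum_cons] at ih ⊢
      rw [ih, add_left_comm]

theorem evalP_padd (p q : Poly) : evalP σ (padd p q) = evalP σ p + evalP σ q := by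
  induction p with
  | nil => simp [padd, evalP]
  | cons a p ih =>
    rw [padd, List.foldr_cons, evalP_addM, ← padd, ih]
    simp [evalP, add_assoc]

theorem evalP_pmul (p q : Poly) : evalP σ (pmul p q) = evalP σ p * evalP σ q := by
  induction p with
  | nil => simp [pmul, evalP]
  | cons a p ih =>
    have inner : ∀ (q acc : Poly),
        evalP σ (q.foldr (fun b acc => addM (a.1 * b.1) (a.2.foldr insV b.2) acc) acc) =
          (a.1 : K) * (a.2.map σ).prod * evalP σ q + evalP σ acc := by
      intro q acc
      induction q with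
      | nil => simp [evalP]
      | cons b q ih =>
        rw [List.foldr_cons, evalP_addM, ih, foldr_insV_prod]
        simp only [evalP, List.map_cons, List.sum_cons, Int.cast_mul]
        ring
    rw [pmul, List.foldr_cons, inner, ← pmul, ih]
    simp [evalP, add_mul]

theorem evalP_ppow (p : Poly) : ∀ n, evalP σ (ppow p n) = evalP σ p ^ n
  | 0 => by simp [ppow, evalP]
  | n + 1 => by rw [ppow, evalP_pmul, evalP_ppow p n, pow_succ]

include hD

theorem evalW_terms (r s : ℕ) (t u : Poly) :
    evalW hD σ (terms D r s t u) =
      ((D.commWord K r s (evalP σ t) (evalP σ u)).map fun p => gx hD K p.1 p.2).prod := by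
  unfold evalW terms ChevalleyDatum.commWord
  rw [List.map_map, List.map_map]
  refine congrArg List.prod (List.map_congr_left fun τ _ => ?_)
  simp only [Function.comp_apply, evalE]
  congr 1
  rw [evalP_pmul, evalP_pmul, evalP_ppow, evalP_ppow,
    show evalP σ [(τ.2.1 * (-1) ^ τ.2.2.1, [])] = (τ.2.1 : K) * (-1) ^ τ.2.2.1 by simp [evalP],
    neg_pow (evalP σ t)]
  ring

theorem evalW_push (key : ℕ → ℕ) : ∀ (n : ℕ) (e : ℕ × Poly) (W : List (ℕ × Poly)),
    evalW hD σ (push D key n e W) = evalE hD σ e * evalW hD σ W
  | 0, e, W => by rw [push, evalW_cons]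
  | _ + 1, e, [] => by
    rw [push]
    split
    next h => simp [evalW, evalE, h, evalP]
    next => rw [evalW_cons]
  | n + 1, (s, u), (r, t) :: W => by
    rw [push]
    split_ifs with h0 h1 h2 h3
    · simp only at h0; simp [evalE, h0, evalP]
    · simp only at h1 h2; subst h1
      rw [evalW_cons, ← mul_assoc]
      simp only [evalE]
      rw [← gx_add, ← evalP_padd, h2]
      simp [evalP]
    · simp only at h1; subst h1
      rw [evalW_cons, evalW_cons, ← mul_assoc]
      simp only [evalE]
      rw [← gx_add, ← evalP_padd]
    · obtain ⟨-, hr, hs, hneg⟩ := h3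
      simp only at hr hs hneg h1
      have key2 : ∀ L : List (ℕ × Poly), evalW hD σ (L.foldr (push D key n) W) =
          evalW hD σ L * evalW hD σ W := by
        intro L
        induction L with
        | nil => rw [List.foldr_nil, evalW_nil, one_mul]
        | cons e L ih => rw [List.foldr_cons, evalW_push key n, ih, evalW_cons, mul_assoc]
      rw [evalW_cons, key2, evalW_cons, evalW_cons, evalW_terms]
      simp only [evalE]
      have e := ChevCentralizer.xg_pass hD hr hs h1 hneg (evalP σ t) (evalP σ u)
      simp only [gx]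
      rw [← mul_assoc (ChevBN.xg hD K s (evalP σ u)) (ChevBN.xg hD K r (evalP σ t)), e]
      simp only [mul_assoc]
    · rw [evalW_cons]

theorem evalW_norm (key : ℕ → ℕ) (n : ℕ) : ∀ W, evalW hD σ (norm D key n W) = evalW hD σ W
  | [] => rfl
  | e :: W => by rw [norm, List.foldr_cons, evalW_push, ← norm, evalW_norm key n W, evalW_cons]

/-- Words with equal normal forms are equal. -/
theorem evalW_eq (key : ℕ → ℕ) (n : ℕ) {A B : List (ℕ × Poly)} (h : norm D key n A = norm D key n B) :
    evalW hD σ A = evalW hD σ B := by
  rw [← evalW_norm hD σ key n A, h, evalW_norm]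

end Cfsg.Agent.TwistE6D4.CollectInt
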