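import Cfsg.Agent.Lib.TwistE6D4.D4Orbit
import Cfsg.Agent.EqLemmas

/-!
# Elements of ³D₄(q) used for the smallest degree, with their relations

* `NN`, `ZZ`, `BB`, `EE`, `AA`, `WW` : the radical in coordinates over the fixed field.
* `TS`, `TH`, `GM`, `GP`             : two tori, lowering and raising elements.
* `exists_conj_ZZ_BB`                : the long root lines are conjugate.
-/

set_option autoImplicit false
set_option linter.unusedSectionVars false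
set_option linter.unusedSimpArgs false

namespace Cfsg.Agent.TwistE6D4.D4Heis

open Cfsg.Lie Cfsg.Lie.ChevalleyDatum Cfsg.Agent.Chev

variable {K : Type*} [Field K] (hD : Good chevD4) (φ : K →+* K)

/-- The quotient of the radical by the centre. -/
abbrev SW : Type _ := FX φ × K × K × FX φ

/-- The abelian part d, e, z. -/
abbrev AD : Type _ := K × FX φ × FX φ

theorem unit_ne {s : FX φ} (hs : s ≠ 0) : (s : K) ≠ 0 := fun h => hs (Subtype.ext h)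

variable (h3 : ∀ t, φ (φ (φ t)) = t)

/-- An element of the radical. -/
def NN (b : FX φ) (t d : K) (e z : FX φ) : ↥(ctxD4 hD φ).G0 :=
  ⟨eN hD φ (b : K) t d (e : K) (z : K), eN_mem_G0 hD φ h3 (FX.fix φ b) (FX.fix φ e) (FX.fix φ z)⟩

/-- The centre. -/
def ZZ (z : FX φ) : ↥(ctxD4 hD φ).G0 := NN hD φ h3 0 0 0 0 z

/-- The line b. -/
def BB (b : FX φ) : ↥(ctxD4 hD φ).G0 := NN hD φ h3 b 0 0 0 0

/-- The line e. -/
def EE (e : FX φ) : ↥(ctxD4 hD φ).G0 := NN hD φ h3 0 0 0 e 0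

/-- The abelian part. -/
def AA (c : AD φ) : ↥(ctxD4 hD φ).G0 := NN hD φ h3 0 0 c.1 c.2.1 c.2.2

/-- Lifts of the quotient by the centre. -/
def WW (w : SW φ) : ↥(ctxD4 hD φ).G0 := NN hD φ h3 w.1 w.2.1 w.2.2.1 w.2.2.2 0

theorem NN_mul (b : FX φ) (t d : K) (e z b' : FX φ) (t' d' : K) (e' z' : FX φ) :
    NN hD φ h3 b t d e z * NN hD φ h3 b' t' d' e' z' =
      NN hD φ h3 (b + b') (t + t') (d + d') (e + e') (z + z' - b' * e - trF φ h3 (φ t' * d)) :=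
  Subtype.ext (eN_mul hD φ h3 (b : K) t d (e : K) (z : K) (b' : K) t' d' (e' : K) (z' : K))

theorem NN_zero : NN hD φ h3 0 0 0 0 0 = 1 := Subtype.ext (eN_zero hD φ h3)

theorem ZZ_zero : ZZ hD φ h3 0 = 1 := NN_zero hD φ h3

theorem BB_zero : BB hD φ h3 0 = 1 := NN_zero hD φ h3

theorem WW_zero : WW hD φ h3 0 = 1 := NN_zero hD φ h3

theorem ZZ_add (a b : FX φ) : ZZ hD φ h3 (a + b) = ZZ hD φ h3 a * ZZ hD φ h3 b := by simp [ZZ, NN_mul]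

theorem EE_add (a b : FX φ) : EE hD φ h3 (a + b) = EE hD φ h3 a * EE hD φ h3 b := by simp [EE, NN_mul]

theorem AA_add (a b : AD φ) : AA hD φ h3 (a + b) = AA hD φ h3 a * AA hD φ h3 b := by
  simp [AA, NN_mul]

theorem WW_mul (a b : SW φ) : ∃ z, WW hD φ h3 a * WW hD φ h3 b = WW hD φ h3 (a + b) * ZZ hD φ h3 z :=
  ⟨0 + 0 - b.1 * a.2.2.2 - trF φ h3 (φ b.2.1 * a.2.2.1), by simp [WW, ZZ, NN_mul]⟩

theorem NN_eq_WW_mul (b : FX φ) (t d : K) (e z : FX φ) :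
    NN hD φ h3 b t d e z = WW hD φ h3 (b, t, d, e) * ZZ hD φ h3 z := by simp [WW, ZZ, NN_mul]

theorem WW_ZZ (w : SW φ) (z : FX φ) : WW hD φ h3 w * ZZ hD φ h3 z = ZZ hD φ h3 z * WW hD φ h3 w := by
  simp [WW, ZZ, NN_mul]

theorem EE_WW (e : FX φ) (w : SW φ) :
    EE hD φ h3 e * WW hD φ h3 w = WW hD φ h3 w * EE hD φ h3 e * ZZ hD φ h3 (-(w.1 * e)) := by
  simp [EE, WW, ZZ, NN_mul, add_comm]

theorem EE_conj_BB (b z : FX φ) (hb : b ≠ 0) :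
    EE hD φ h3 (-z / b) * BB hD φ h3 b * (EE hD φ h3 (-z / b))⁻¹ = BB hD φ h3 b * ZZ hD φ h3 z := by
  rw [mul_inv_eq_iff_eq_mul]
  simp only [EE, BB, ZZ, NN_mul]
  congr 1 <;> simp [mul_div_cancel₀, hb]

theorem ZZ_ne_one {z : FX φ} (hz : z ≠ 0) : ZZ hD φ h3 z ≠ 1 := fun h => by
  obtain ⟨⟨-, -, -, -, r23⟩, -, -, -, -, l23, -, -⟩ := reps_table
  have h' : eN hD φ 0 0 0 0 (z : K) = 1 := congrArg Subtype.val h
  rw [eN_z] at h'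
  exact gx_ne_one hD r23 l23 (fun h'' => hz (Subtype.ext h'')) h'

/-- The scalar torus. -/
def TS (s : FX φ) (hs : s ≠ 0) : ↥(ctxD4 hD φ).G0 :=
  ⟨theta chevD4 K (sTor (Units.mk0 (s : K) (unit_ne φ hs))), (ctxD4 hD φ).theta_mem_G0 (sTor_mem φ (FX.fix φ s))⟩

/-- The long torus. -/
def TH (s : FX φ) (hs : s ≠ 0) : ↥(ctxD4 hD φ).G0 :=
  ⟨theta chevD4 K (hTor (Units.mk0 (s : K) (unit_ne φ hs))), (ctxD4 hD φ).theta_mem_G0 (hTor_mem φ (FX.fix φ s))⟩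

theorem TS_mul (s : FX φ) (hs : s ≠ 0) (b : FX φ) (t d : K) (e z : FX φ) :
    TS hD φ s hs * NN hD φ h3 b t d e z =
      NN hD φ h3 (s * b) ((s : K) * t) ((s : K) * d) (s * e) (s ^ 2 * z) * TS hD φ s hs :=
  Subtype.ext (sTor_conj hD φ (Units.mk0 (s : K) (unit_ne φ hs)) (FX.fix φ s) (b : K) t d (e : K) (z : K))

theorem TH_mul (s : FX φ) (hs : s ≠ 0) (b : FX φ) (t d : K) (e z : FX φ) :
    TH hD φ s hs * NN hD φ h3 b t d e z =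
      NN hD φ h3 (s ^ 2 * b) ((s : K) * t) d (s⁻¹ * e) (s * z) * TH hD φ s hs :=
  Subtype.ext (hTor_conj hD φ (Units.mk0 (s : K) (unit_ne φ hs)) (FX.fix φ s) (b : K) t d (e : K) (z : K))

include h3

/-- Lowering elements. -/
def GM (u : K) : ↥(ctxD4 hD φ).G0 :=
  ⟨(ctxD4 hD φ).om (0 : Fin 2) u, (ctxD4 hD φ).om_mem_G0 _ (show (⇑φ)^[3] u = u from h3 u)⟩

/-- Raising elements. -/
def GP (u : K) : ↥(ctxD4 hD φ).G0 :=
  ⟨(ctxD4 hD φ).op (0 : Fin 2) u, (ctxD4 hD φ).op_mem_G0 _ (show (⇑φ)^[3] u = u from h3 u)⟩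

theorem GM_inv_ZZ (u : K) (z : FX φ) :
    (GM hD φ h3 u)⁻¹ * ZZ hD φ h3 z = ZZ hD φ h3 z * (GM hD φ h3 u)⁻¹ := by
  have h : Commute (GM hD φ h3 u) (ZZ hD φ h3 z) := Subtype.ext (by
    show (ctxD4 hD φ).om (0 : Fin 2) u * eN hD φ 0 0 0 0 (z : K) =
      eN hD φ 0 0 0 0 (z : K) * (ctxD4 hD φ).om (0 : Fin 2) u
    rw [eN_z]; exact (om_commute_z hD φ u _).eq)
  exact h.inv_left.eq

theorem GM_inv_BB (u : K) (b : FX φ) :
    (GM hD φ h3 u)⁻¹ * BB hD φ h3 b = BB hD φ h3 b * (GM hD φ h3 u)⁻¹ := by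
  have h : Commute (GM hD φ h3 u) (BB hD φ h3 b) := Subtype.ext (by
    show (ctxD4 hD φ).om (0 : Fin 2) u * eN hD φ (b : K) 0 0 0 0 =
      eN hD φ (b : K) 0 0 0 0 * (ctxD4 hD φ).om (0 : Fin 2) u
    rw [eN_b]; exact (om_commute_b hD φ u _).eq)
  exact h.inv_left.eq

/-- The norm to the fixed field. -/
def nrF (u : K) : FX φ :=
  ⟨u * φ u * φ (φ u), show φ (u * φ u * φ (φ u)) = _ by simp only [map_mul, h3, RingHom.id_apply]; ring⟩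

theorem central_param {b e : K} {t d z : K} (hb : φ b = b) (he : φ e = e)
    (hm : eN hD φ b t d e z ∈ (ctxD4 hD φ).G0) : φ z = z := by
  obtain ⟨⟨-, -, -, -, r23⟩, -, -, -, -, l23, -, -⟩ := reps_table
  rw [eN_split hD φ h3, Subgroup.mul_mem_cancel_left _ (eN_mem_G0 hD φ h3 hb he (map_zero φ)), eN_z] at hm
  exact fixed_param hD φ r23 l23 hm

theorem EE_GM (u : K) (e : FX φ) : ∃ z, EE hD φ h3 e * (GM hD φ h3 u)⁻¹ =
    (GM hD φ h3 u)⁻¹ * NN hD φ h3 (-(nrF φ h3 u * e)) (-(u * φ u * (e : K))) (-(u * (e : K))) e z := by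
  obtain ⟨z, hz⟩ := conj_om_E hD φ h3 u (e : K) (FX.fix φ e)
  have hm : eN hD φ ((-(nrF φ h3 u * e) : FX φ) : K) (-(u * φ u * (e : K))) (-(u * (e : K))) (e : K) z ∈
      (ctxD4 hD φ).G0 :=
    hz ▸ mul_mem (mul_mem (GM hD φ h3 u).2 (EE hD φ h3 e).2) (inv_mem (GM hD φ h3 u).2)
  refine ⟨⟨z, central_param hD φ h3 (FX.fix φ _) (FX.fix φ e) hm⟩, ?_⟩
  rw [eq_inv_mul_iff_mul_eq, ← mul_assoc]
  exact Subtype.ext hz

set_option maxHeartbeats 1000000 in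
theorem GP_AA (u : K) : ∃ cz : K → FX φ, ∀ c : AD φ, GP hD φ h3 u * AA hD φ h3 c =
    AA hD φ h3 (c.1, c.2.1 - trF φ h3 (u * c.1), c.2.2 + cz c.1) * GP hD φ h3 u := by
  have hd : ∀ d, ∃ z : FX φ, GP hD φ h3 u * AA hD φ h3 (d, 0, 0) =
      AA hD φ h3 (d, -trF φ h3 (u * d), z) * GP hD φ h3 u := fun d => by
    obtain ⟨z, hz⟩ := conj_op_D hD φ h3 u d
    have hm : eN hD φ 0 0 d (-tr φ (u * d)) z ∈ (ctxD4 hD φ).G0 :=
      hz ▸ mul_mem (mul_mem (GP hD φ h3 u).2 (AA hD φ h3 (d, 0, 0)).2) (inv_mem (GP hD φ h3 u).2)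
    exact ⟨⟨z, central_param hD φ h3 (map_zero φ) (by rw [map_neg, tr_phi φ h3]) hm⟩,
      Subtype.ext (mul_inv_eq_iff_eq_mul.1 hz)⟩
  choose cz hcz using hd
  refine ⟨cz, fun c => ?_⟩
  have hge : GP hD φ h3 u * EE hD φ h3 c.2.1 = EE hD φ h3 c.2.1 * GP hD φ h3 u :=
    Subtype.ext (mul_inv_eq_iff_eq_mul.1 (conj_op_E hD φ h3 u (c.2.1 : K)))
  have hgz : GP hD φ h3 u * ZZ hD φ h3 c.2.2 = ZZ hD φ h3 c.2.2 * GP hD φ h3 u := Subtype.ext (by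
    show (ctxD4 hD φ).op (0 : Fin 2) u * eN hD φ 0 0 0 0 _ = eN hD φ 0 0 0 0 _ * (ctxD4 hD φ).op (0 : Fin 2) u
    rw [eN_z]; exact (op_commute_z hD φ u _).eq)
  have hsplit : AA hD φ h3 c = AA hD φ h3 (c.1, 0, 0) * EE hD φ h3 c.2.1 * ZZ hD φ h3 c.2.2 := by
    simp [AA, EE, ZZ, NN_mul]
  rw [hsplit, ← mul_assoc, ← mul_assoc, hcz, mul_assoc _ (GP hD φ h3 u), hge, ← mul_assoc,
    mul_assoc _ (GP hD φ h3 u), hgz, ← mul_assoc]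
  rw [show AA hD φ h3 (c.1, -trF φ h3 (u * c.1), cz c.1) * EE hD φ h3 c.2.1 * ZZ hD φ h3 c.2.2 =
    AA hD φ h3 (c.1, c.2.1 - trF φ h3 (u * c.1), c.2.2 + cz c.1) by
      simp only [AA, EE, ZZ, NN_mul, add_zero, zero_add, sub_zero, map_zero, zero_mul, mul_zero,
        neg_add_eq_sub, add_comm (cz c.1)]]

theorem shift_AA (b : FX φ) (w : K) (c : AD φ) :
    NN hD φ h3 b (φ (φ w)) 0 0 0 * AA hD φ h3 c =
      AA hD φ h3 (c.1, c.2.1, c.2.2 + b * c.2.1 + trF φ h3 (w * c.1)) * NN hD φ h3 b (φ (φ w)) 0 0 0 := by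
  have := conj_A hD φ h3 (b : K) (φ (φ w)) c.1 (c.2.1 : K) (c.2.2 : K)
  rw [h3] at this
  exact Subtype.ext this

set_option maxHeartbeats 1000000 in
theorem exists_conj_ZZ_BB : ∃ (g : ↥(ctxD4 hD φ).G0) (w : FX φ), w ≠ 0 ∧
    g * ZZ hD φ h3 1 * g⁻¹ = BB hD φ h3 w := by
  let n1 : ↥(ctxD4 hD φ).G0 := ⟨(ctxD4 hD φ).ns (1 : Fin 2) 1, (ctxD4 hD φ).ns_mem_G0 _ ((ctxD4 hD φ).Pm_one _)⟩
  let n0 : ↥(ctxD4 hD φ).G0 := ⟨(ctxD4 hD φ).ns (0 : Fin 2) 1, (ctxD4 hD φ).ns_mem_G0 _ ((ctxD4 hD φ).Pm_one _)⟩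
  obtain ⟨v, hv, ev⟩ := exists_ns_conj23 hD φ h3 (map_one φ)
  obtain ⟨w, hw, ew⟩ := exists_ns_conj22 hD φ h3 hv
  have e : n0 * n1 * ZZ hD φ h3 1 * (n0 * n1)⁻¹ = BB hD φ h3 ⟨w, hw⟩ := Subtype.ext (by
    show (ctxD4 hD φ).ns (0 : Fin 2) 1 * (ctxD4 hD φ).ns (1 : Fin 2) 1 * eN hD φ 0 0 0 0 1 *
      ((ctxD4 hD φ).ns (0 : Fin 2) 1 * (ctxD4 hD φ).ns (1 : Fin 2) 1)⁻¹ = eN hD φ w 0 0 0 0
    rw [eN_z, eN_b, ← ew, ← ev]
    generalize (ctxD4 hD φ).ns (0 : Fin 2) 1 = a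
    generalize (ctxD4 hD φ).ns (1 : Fin 2) 1 = a'
    generalize gx hD K 23 (1 : K) = a''
    group)
  refine ⟨n0 * n1, ⟨w, hw⟩, fun h => ?_, e⟩
  rw [h, BB_zero] at e
  refine ZZ_ne_one hD φ h3 one_ne_zero ?_
  generalize ZZ hD φ h3 1 = a at e ⊢
  generalize n0 * n1 = g at e
  rw [mul_inv_eq_one] at e
  exact mul_eq_left.1 e

end Cfsg.Agent.TwistE6D4.D4Heis
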