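import Cfsg.Agent.Lib.TwistE6D4.Facts
import Cfsg.Agent.Lib.Chev.DataD4
import Cfsg.Agent.EqLemmas

/-!
# The unipotent radical of the maximal parabolic subgroup of ³D₄ of Heisenberg type

* `nf`, `nf_mul`      : the nine roots with positive pairing with the highest root, in coordinates.
* `eN`, `eN_mul`      : the fixed elements, coordinates b, t, d, e, z.
* `conj_om_E`, `conj_op_D`, `conj_op_E`, `theta_conj_eN` : the action of the Levi subgroup.
-/

set_option autoImplicit false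
set_option maxRecDepth 100000
set_option linter.unusedSectionVars false
set_option linter.unusedVariables false
set_option linter.unusedSimpArgs false

namespace Cfsg.Agent.TwistE6D4.D4Heis

open Cfsg.Lie Cfsg.Lie.ChevalleyDatum Cfsg.Agent.Chev

variable {K : Type*} [Field K] (hD : Good chevD4)

/-- Nine coordinates. -/
@[ext] structure C9 (K : Type*) where
  b : K
  c₁ : K
  c₂ : K
  c₃ : K
  d₁ : K
  d₂ : K
  d₃ : K
  e : K
  z : K

/-- The element with the given coordinates. -/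
def nf (v : C9 K) : GL chevD4.Idx K :=
  gx hD K 14 v.b * gx hD K 15 v.c₁ * gx hD K 19 v.c₂ * gx hD K 16 v.c₃ * gx hD K 17 v.d₁ * gx hD K 20 v.d₂ *
    gx hD K 21 v.d₃ * gx hD K 22 v.e * gx hD K 23 v.z

/-- Chevalley's commutator formula. -/
theorem swap {r s : ℕ} (hr : r < 24) (hs : s < 24) (h₁ : s ≠ r) (h₂ : s ≠ chevD4.neg r) (t u : K) :
    gx hD K s u * gx hD K r t = gx hD K r t * gx hD K s u *
      ((chevD4.commTerms r s).map fun c => gx hD K c.1 ((c.2.1 : K) * (-t) ^ c.2.2.1 * u ^ c.2.2.2)).prod := by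
  apply Units.ext
  rw [Units.val_mul, Units.val_mul, Units.val_mul, coe_gx, coe_gx, hD.commutator hr hs h₁ h₂,
    ← Units.coeHom_apply (List.prod _), map_list_prod, List.map_map]
  congr 1
  simp only [ChevalleyDatum.wordMat, ChevalleyDatum.commWord, List.map_map]
  rfl

theorem free {r s : ℕ} (hr : r < 24) (hs : s < 24) (h₂ : s ≠ chevD4.neg r) (hc : chevD4.commTerms r s = [])
    (t u : K) : Commute (gx hD K r t) (gx hD K s u) :=
  commute_gx hD hr hs h₂ hc t u

/-- Commuting root elements, with decidable side conditions. -/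
def Free (r s : ℕ) : Prop := r < 24 ∧ s < 24 ∧ s ≠ chevD4.neg r ∧ chevD4.commTerms r s = []

instance (r s : ℕ) : Decidable (Free r s) := inferInstanceAs (Decidable (_ ∧ _))

theorem Free.commute {r s : ℕ} (h : Free r s) (t u : K) : Commute (gx hD K r t) (gx hD K s u) :=
  free hD h.1 h.2.1 h.2.2.1 h.2.2.2 t u

/-- A single commutator term. -/
theorem conj_one {r s k : ℕ} {c : ℤ} (hr : r < 24) (hs : s < 24) (h₁ : r ≠ s) (h₂ : r ≠ chevD4.neg s)
    (hc : chevD4.commTerms s r = [(k, c, 1, 1)]) (hk : Free r k) (t u : K) :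
    gx hD K r t * gx hD K s u * (gx hD K r t)⁻¹ = gx hD K s u * gx hD K k (-((c : K) * (u * t))) := by
  rw [mul_inv_eq_iff_eq_mul, swap hD hs hr h₁ h₂, hc]
  simp only [List.map_cons, List.map_nil, List.prod_cons, List.prod_nil, mul_one, pow_one]
  rw [mul_assoc (gx hD K s u), (hk.commute hD t _).eq, ← mul_assoc,
    show (c : K) * -u * t = -((c : K) * (u * t)) by ring]

theorem conj_free {r s : ℕ} (h : Free r s) (t u : K) :
    gx hD K r t * gx hD K s u * (gx hD K r t)⁻¹ = gx hD K s u :=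
  mul_inv_eq_iff_eq_mul.2 (h.commute hD t u).eq

theorem gx_zero (r : ℕ) : gx hD K r (0 : K) = 1 := by
  have h := gx_add hD r (0 : K) 0
  rwa [add_zero, left_eq_mul] at h

/-- The part d, e, z. -/
def top5 (d₁ d₂ d₃ e z : K) : GL chevD4.Idx K :=
  gx hD K 17 d₁ * gx hD K 20 d₂ * gx hD K 21 d₃ * gx hD K 22 e * gx hD K 23 z

/-- The part b, c. -/
def bot4 (b c₁ c₂ c₃ : K) : GL chevD4.Idx K :=
  gx hD K 14 b * gx hD K 15 c₁ * gx hD K 19 c₂ * gx hD K 16 c₃

theorem nf_eq (v : C9 K) :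
    nf hD v = bot4 hD v.b v.c₁ v.c₂ v.c₃ * top5 hD v.d₁ v.d₂ v.d₃ v.e v.z := by
  simp only [nf, bot4, top5, mul_assoc]

theorem free_table : ∀ r ∈ [14, 15, 19, 16], ∀ s ∈ [14, 15, 19, 16], r ≠ s → Free r s := by decide +kernel

theorem free_table' : ∀ r ∈ [17, 20, 21, 22, 23], ∀ s ∈ [17, 20, 21, 22, 23], r ≠ s → Free r s := by
  decide +kernel

theorem bot4_mul (b c₁ c₂ c₃ b' c₁' c₂' c₃' : K) :
    bot4 hD b c₁ c₂ c₃ * bot4 hD b' c₁' c₂' c₃' = bot4 hD (b + b') (c₁ + c₁') (c₂ + c₂') (c₃ + c₃') := by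
  have f : ∀ r ∈ [14, 15, 19, 16], ∀ s ∈ [14, 15, 19, 16], r ≠ s → ∀ t u : K,
      Commute (gx hD K r t) (gx hD K s u) := fun r hr s hs h t u => (free_table r hr s hs h).commute hD t u
  have e3 := ((f 15 (by simp) 14 (by simp) (by omega) c₁ b').mul_left (f 19 (by simp) 14 (by simp) (by omega) c₂ b')).mul_left
    (f 16 (by simp) 14 (by simp) (by omega) c₃ b')
  have e2 := (f 19 (by simp) 15 (by simp) (by omega) c₂ c₁').mul_left (f 16 (by simp) 15 (by simp) (by omega) c₃ c₁')
  have e1 := f 16 (by simp) 19 (by simp) (by omega) c₃ c₂'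
  simp only [bot4, gx_add]
  calc gx hD K 14 b * gx hD K 15 c₁ * gx hD K 19 c₂ * gx hD K 16 c₃ *
        (gx hD K 14 b' * gx hD K 15 c₁' * gx hD K 19 c₂' * gx hD K 16 c₃')
      = gx hD K 14 b * ((gx hD K 15 c₁ * gx hD K 19 c₂ * gx hD K 16 c₃) * gx hD K 14 b') *
          (gx hD K 15 c₁' * gx hD K 19 c₂' * gx hD K 16 c₃') := by simp only [mul_assoc]
    _ = gx hD K 14 b * gx hD K 14 b' * (gx hD K 15 c₁ * ((gx hD K 19 c₂ * gx hD K 16 c₃) * gx hD K 15 c₁') *
          (gx hD K 19 c₂' * gx hD K 16 c₃')) := by rw [e3.eq]; simp only [mul_assoc]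
    _ = gx hD K 14 b * gx hD K 14 b' * (gx hD K 15 c₁ * gx hD K 15 c₁' *
          (gx hD K 19 c₂ * (gx hD K 16 c₃ * gx hD K 19 c₂') * gx hD K 16 c₃')) := by
        rw [e2.eq]; simp only [mul_assoc]
    _ = _ := by rw [e1.eq]; simp only [mul_assoc]

theorem top5_mul (d₁ d₂ d₃ e z d₁' d₂' d₃' e' z' : K) :
    top5 hD d₁ d₂ d₃ e z * top5 hD d₁' d₂' d₃' e' z' =
      top5 hD (d₁ + d₁') (d₂ + d₂') (d₃ + d₃') (e + e') (z + z') := by
  have f : ∀ r ∈ [17, 20, 21, 22, 23], ∀ s ∈ [17, 20, 21, 22, 23], r ≠ s → ∀ t u : K,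
      Commute (gx hD K r t) (gx hD K s u) := fun r hr s hs h t u => (free_table' r hr s hs h).commute hD t u
  have e4 := (((f 20 (by simp) 17 (by simp) (by omega) d₂ d₁').mul_left (f 21 (by simp) 17 (by simp) (by omega) d₃ d₁')).mul_left
    (f 22 (by simp) 17 (by simp) (by omega) e d₁')).mul_left (f 23 (by simp) 17 (by simp) (by omega) z d₁')
  have e3 := ((f 21 (by simp) 20 (by simp) (by omega) d₃ d₂').mul_left (f 22 (by simp) 20 (by simp) (by omega) e d₂')).mul_left
    (f 23 (by simp) 20 (by simp) (by omega) z d₂')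
  have e2 := (f 22 (by simp) 21 (by simp) (by omega) e d₃').mul_left (f 23 (by simp) 21 (by simp) (by omega) z d₃')
  have e1 := f 23 (by simp) 22 (by simp) (by omega) z e'
  simp only [top5, gx_add]
  calc gx hD K 17 d₁ * gx hD K 20 d₂ * gx hD K 21 d₃ * gx hD K 22 e * gx hD K 23 z *
        (gx hD K 17 d₁' * gx hD K 20 d₂' * gx hD K 21 d₃' * gx hD K 22 e' * gx hD K 23 z')
      = gx hD K 17 d₁ * ((gx hD K 20 d₂ * gx hD K 21 d₃ * gx hD K 22 e * gx hD K 23 z) * gx hD K 17 d₁') *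
          (gx hD K 20 d₂' * gx hD K 21 d₃' * gx hD K 22 e' * gx hD K 23 z') := by simp only [mul_assoc]
    _ = gx hD K 17 d₁ * gx hD K 17 d₁' * (gx hD K 20 d₂ * ((gx hD K 21 d₃ * gx hD K 22 e * gx hD K 23 z) *
          gx hD K 20 d₂') * (gx hD K 21 d₃' * gx hD K 22 e' * gx hD K 23 z')) := by
        rw [e4.eq]; simp only [mul_assoc]
    _ = gx hD K 17 d₁ * gx hD K 17 d₁' * (gx hD K 20 d₂ * gx hD K 20 d₂' * (gx hD K 21 d₃ *
          ((gx hD K 22 e * gx hD K 23 z) * gx hD K 21 d₃') * (gx hD K 22 e' * gx hD K 23 z'))) := by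
        rw [e3.eq]; simp only [mul_assoc]
    _ = gx hD K 17 d₁ * gx hD K 17 d₁' * (gx hD K 20 d₂ * gx hD K 20 d₂' * (gx hD K 21 d₃ * gx hD K 21 d₃' *
          (gx hD K 22 e * (gx hD K 23 z * gx hD K 22 e') * gx hD K 23 z'))) := by
        rw [e2.eq]; simp only [mul_assoc]
    _ = _ := by rw [e1.eq]; simp only [mul_assoc]

/-- Moving an element of the lower part to the left through the upper part. -/
theorem top5_mul_bot {s r : ℕ} {c : ℤ} (hr : r < 24) (hs : s < 24) (h₁ : s ≠ r) (h₂ : s ≠ chevD4.neg r)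
    (hc : chevD4.commTerms r s = [(23, c, 1, 1)]) (hf : Free s 23) (t u z : K) :
    gx hD K s u * gx hD K 23 z * gx hD K r t =
      gx hD K s u * gx hD K r t * gx hD K 23 z →
    gx hD K s u * gx hD K 23 z * gx hD K r t =
      gx hD K r t * (gx hD K s u * gx hD K 23 (z - (c : K) * t * u)) := by
  intro e
  rw [e, swap hD hr hs h₁ h₂, hc]
  simp only [List.map_cons, List.map_nil, List.prod_cons, List.prod_nil, mul_one, pow_one]
  rw [mul_assoc, mul_assoc, ← gx_add]
  congr 3
  ring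

theorem top5_mul14 (d₁ d₂ d₃ e z t : K) :
    top5 hD d₁ d₂ d₃ e z * gx hD K 14 t = gx hD K 14 t * top5 hD d₁ d₂ d₃ e (z - t * e) := by
  have c1 : Commute (gx hD K 17 d₁ * gx hD K 20 d₂ * gx hD K 21 d₃) (gx hD K 14 t) :=
    (((by decide +kernel : Free 17 14).commute hD _ _).mul_left ((by decide +kernel : Free 20 14).commute hD _ _)).mul_left
      ((by decide +kernel : Free 21 14).commute hD _ _)
  have h := top5_mul_bot hD (r := 14) (s := 22) (c := 1) (by norm_num) (by norm_num) (by norm_num) (by decide +kernel)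
    (by decide +kernel) (by decide +kernel) t e z
    (by rw [mul_assoc, ((by decide +kernel : Free 23 14).commute hD z t).eq, mul_assoc])
  simp only [Int.cast_one, one_mul] at h
  simp only [top5, mul_assoc] at h c1 ⊢
  rw [h, ← mul_assoc, ← mul_assoc, show gx hD K 17 d₁ * gx hD K 20 d₂ * gx hD K 21 d₃ = gx hD K 17 d₁ * (gx hD K 20 d₂ * gx hD K 21 d₃) from mul_assoc _ _ _]
  rw [← mul_assoc (gx hD K 17 d₁ * _), c1.eq]
  simp only [mul_assoc]

theorem top5_mul15 (d₁ d₂ d₃ e z t : K) :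
    top5 hD d₁ d₂ d₃ e z * gx hD K 15 t = gx hD K 15 t * top5 hD d₁ d₂ d₃ e (z + t * d₃) := by
  have c0 : Commute (gx hD K 17 d₁ * gx hD K 20 d₂) (gx hD K 15 t) :=
    ((by decide +kernel : Free 17 15).commute hD _ _).mul_left ((by decide +kernel : Free 20 15).commute hD _ _)
  have h := top5_mul_bot hD (r := 15) (s := 21) (c := -1) (by norm_num) (by norm_num) (by norm_num) (by decide +kernel)
    (by decide +kernel) (by decide +kernel) t d₃ z
    (by rw [mul_assoc, ((by decide +kernel : Free 23 15).commute hD z t).eq, mul_assoc])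
  simp only [Int.cast_neg, Int.cast_one, neg_mul, one_mul, sub_neg_eq_add] at h
  have s22 : gx hD K 22 e * gx hD K 23 z * gx hD K 15 t = gx hD K 23 z * gx hD K 15 t * gx hD K 22 e :=
    (by rw [mul_assoc, (((by decide +kernel : Free 22 23).commute hD e z).mul_right
      ((by decide +kernel : Free 22 15).commute hD e t)).eq])
  have s22' : ∀ w : K, gx hD K 23 w * gx hD K 22 e = gx hD K 22 e * gx hD K 23 w := fun w =>
    ((by decide +kernel : Free 23 22).commute hD w e).eq
  calc top5 hD d₁ d₂ d₃ e z * gx hD K 15 t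
      = gx hD K 17 d₁ * gx hD K 20 d₂ * (gx hD K 21 d₃ * (gx hD K 22 e * gx hD K 23 z * gx hD K 15 t)) := by
        simp only [top5, mul_assoc]
    _ = gx hD K 17 d₁ * gx hD K 20 d₂ * (gx hD K 21 d₃ * gx hD K 23 z * gx hD K 15 t) * gx hD K 22 e := by
        rw [s22]; simp only [mul_assoc]
    _ = (gx hD K 17 d₁ * gx hD K 20 d₂ * gx hD K 15 t) * gx hD K 21 d₃ *
          (gx hD K 23 (z + t * d₃) * gx hD K 22 e) := by rw [h]; simp only [mul_assoc]
    _ = _ := by rw [c0.eq, s22']; simp only [top5, mul_assoc]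

theorem top5_mul19 (d₁ d₂ d₃ e z t : K) :
    top5 hD d₁ d₂ d₃ e z * gx hD K 19 t = gx hD K 19 t * top5 hD d₁ d₂ d₃ e (z + t * d₁) := by
  have h := top5_mul_bot hD (r := 19) (s := 17) (c := -1) (by norm_num) (by norm_num) (by norm_num) (by decide +kernel)
    (by decide +kernel) (by decide +kernel) t d₁ z
    (by rw [mul_assoc, ((by decide +kernel : Free 23 19).commute hD z t).eq, mul_assoc])
  simp only [Int.cast_neg, Int.cast_one, neg_mul, one_mul, sub_neg_eq_add] at h
  have cY : ∀ u : K, Commute (gx hD K 20 d₂ * gx hD K 21 d₃ * gx hD K 22 e) (gx hD K 23 u) := fun u =>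
    (((by decide +kernel : Free 20 23).commute hD _ _).mul_left ((by decide +kernel : Free 21 23).commute hD _ _)).mul_left
      ((by decide +kernel : Free 22 23).commute hD _ _)
  have cT : Commute (gx hD K 20 d₂ * gx hD K 21 d₃ * gx hD K 22 e) (gx hD K 19 t) :=
    (((by decide +kernel : Free 20 19).commute hD _ _).mul_left ((by decide +kernel : Free 21 19).commute hD _ _)).mul_left
      ((by decide +kernel : Free 22 19).commute hD _ _)
  calc top5 hD d₁ d₂ d₃ e z * gx hD K 19 t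
      = gx hD K 17 d₁ * ((gx hD K 20 d₂ * gx hD K 21 d₃ * gx hD K 22 e) * (gx hD K 23 z * gx hD K 19 t)) := by
        simp only [top5, mul_assoc]
    _ = gx hD K 17 d₁ * gx hD K 23 z * gx hD K 19 t * (gx hD K 20 d₂ * gx hD K 21 d₃ * gx hD K 22 e) := by
        rw [((cY z).mul_right cT).eq]; simp only [mul_assoc]
    _ = gx hD K 19 t * gx hD K 17 d₁ * (gx hD K 23 (z + t * d₁) * (gx hD K 20 d₂ * gx hD K 21 d₃ * gx hD K 22 e)) := by
        rw [h]; simp only [mul_assoc]
    _ = _ := by rw [← (cY _).eq]; simp only [top5, mul_assoc]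

theorem top5_mul16 (d₁ d₂ d₃ e z t : K) :
    top5 hD d₁ d₂ d₃ e z * gx hD K 16 t = gx hD K 16 t * top5 hD d₁ d₂ d₃ e (z + t * d₂) := by
  have h := top5_mul_bot hD (r := 16) (s := 20) (c := -1) (by norm_num) (by norm_num) (by norm_num) (by decide +kernel)
    (by decide +kernel) (by decide +kernel) t d₂ z
    (by rw [mul_assoc, ((by decide +kernel : Free 23 16).commute hD z t).eq, mul_assoc])
  simp only [Int.cast_neg, Int.cast_one, neg_mul, one_mul, sub_neg_eq_add] at h
  have cY : ∀ u : K, Commute (gx hD K 21 d₃ * gx hD K 22 e) (gx hD K 23 u) := fun u =>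
    ((by decide +kernel : Free 21 23).commute hD _ _).mul_left ((by decide +kernel : Free 22 23).commute hD _ _)
  have cT : Commute (gx hD K 21 d₃ * gx hD K 22 e) (gx hD K 16 t) :=
    ((by decide +kernel : Free 21 16).commute hD _ _).mul_left ((by decide +kernel : Free 22 16).commute hD _ _)
  have c17 : Commute (gx hD K 17 d₁) (gx hD K 16 t) := (by decide +kernel : Free 17 16).commute hD _ _
  calc top5 hD d₁ d₂ d₃ e z * gx hD K 16 t
      = gx hD K 17 d₁ * (gx hD K 20 d₂ * ((gx hD K 21 d₃ * gx hD K 22 e) * (gx hD K 23 z * gx hD K 16 t))) := by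
        simp only [top5, mul_assoc]
    _ = gx hD K 17 d₁ * (gx hD K 20 d₂ * gx hD K 23 z * gx hD K 16 t) * (gx hD K 21 d₃ * gx hD K 22 e) := by
        rw [((cY z).mul_right cT).eq]; simp only [mul_assoc]
    _ = (gx hD K 17 d₁ * gx hD K 16 t) * gx hD K 20 d₂ *
          (gx hD K 23 (z + t * d₂) * (gx hD K 21 d₃ * gx hD K 22 e)) := by rw [h]; simp only [mul_assoc]
    _ = _ := by rw [← (cY _).eq, c17.eq]; simp only [top5, mul_assoc]

theorem top5_mul_bot4 (d₁ d₂ d₃ e z b c₁ c₂ c₃ : K) :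
    top5 hD d₁ d₂ d₃ e z * bot4 hD b c₁ c₂ c₃ =
      bot4 hD b c₁ c₂ c₃ * top5 hD d₁ d₂ d₃ e (z - b * e + c₁ * d₃ + c₂ * d₁ + c₃ * d₂) := by
  simp only [bot4, ← mul_assoc]
  rw [top5_mul14, mul_assoc (gx hD K 14 b), top5_mul15, ← mul_assoc (gx hD K 14 b), mul_assoc (gx hD K 14 b * _),
    top5_mul19, ← mul_assoc, mul_assoc (gx hD K 14 b * _ * _), top5_mul16, ← mul_assoc]

theorem nf_mul (v w : C9 K) :
    nf hD v * nf hD w = nf hD ⟨v.b + w.b, v.c₁ + w.c₁, v.c₂ + w.c₂, v.c₃ + w.c₃, v.d₁ + w.d₁, v.d₂ + w.d₂,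
      v.d₃ + w.d₃, v.e + w.e, v.z + w.z - w.b * v.e + w.c₁ * v.d₃ + w.c₂ * v.d₁ + w.c₃ * v.d₂⟩ := by
  simp only [nf_eq]
  rw [mul_assoc, ← mul_assoc (top5 hD v.d₁ v.d₂ v.d₃ v.e v.z), top5_mul_bot4, mul_assoc, top5_mul, ← mul_assoc,
    bot4_mul]
  congr 2
  ring

/-! ### Fixed elements -/

variable (φ : K →+* K)

/-- The fixed element with parameters b, t, d, e, z. -/
def eN (b t d e z : K) : GL chevD4.Idx K :=
  nf hD ⟨b, t, -(φ t), φ (φ t), d, -(φ d), -(φ (φ d)), e, z⟩

/-- The trace form. -/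
def tr (x : K) : K := x + φ x + φ (φ x)

theorem tr_add (x y : K) : tr φ (x + y) = tr φ x + tr φ y := by simp only [tr, map_add]; ring

theorem tr_zero : tr φ 0 = 0 := by simp [tr]

theorem tr_neg (x : K) : tr φ (-x) = -tr φ x := by simp only [tr, map_neg]; ring

theorem tr_mul_fix {s : K} (hs : φ s = s) (x : K) : tr φ (s * x) = s * tr φ x := by
  simp only [tr, map_mul, hs]; ring

variable (h3 : ∀ t, φ (φ (φ t)) = t)
include h3

theorem tr_phi (x : K) : φ (tr φ x) = tr φ x := by simp only [tr, map_add, h3]; ring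

theorem eN_mul (b t d e z b' t' d' e' z' : K) :
    eN hD φ b t d e z * eN hD φ b' t' d' e' z' =
      eN hD φ (b + b') (t + t') (d + d') (e + e') (z + z' - b' * e - tr φ (φ t' * d)) := by
  simp only [eN, nf_mul, map_add, tr, map_mul, h3]
  congr 1
  ext <;> simp only <;> ring

theorem eN_zero : eN hD φ (0 : K) 0 0 0 0 = 1 := by simp [eN, nf, gx_zero]

theorem eN_split (b t d e z : K) : eN hD φ b t d e z = eN hD φ b t d e 0 * eN hD φ 0 0 0 0 z := by
  rw [eN_mul hD φ h3]
  simp [tr_zero]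

omit h3 in
theorem eN_z (z : K) : eN hD φ (0 : K) 0 0 0 z = gx hD K 23 z := by simp [eN, nf, gx_zero]

omit h3 in
theorem eN_e (e : K) : eN hD φ (0 : K) 0 0 e 0 = gx hD K 22 e := by simp [eN, nf, gx_zero]

omit h3 in
theorem eN_b (b : K) : eN hD φ b (0 : K) 0 0 0 = gx hD K 14 b := by simp [eN, nf, gx_zero]

/-! ### The action of the Levi subgroup -/

omit h3 in
theorem op_zero_eq (u : K) : (ctxD4 hD φ).op (0 : Fin 2) u =
    gx hD K 18 u * gx hD K 13 (φ u) * gx hD K 12 (φ (φ u)) := by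
  have hL : (ctxD4 hD φ).L (0 : Fin 2) = 3 := rfl
  simp only [Ctx.op, Ctx.oprod, hL, List.range_succ, List.range_zero, List.nil_append, List.map_append,
    List.map_cons, List.map_nil, List.prod_append, List.prod_cons, List.prod_nil, mul_one, one_mul]
  rfl

omit h3 in
theorem om_zero_eq (u : K) : (ctxD4 hD φ).om (0 : Fin 2) u =
    gx hD K 5 u * gx hD K 10 (φ u) * gx hD K 11 (φ (φ u)) := by
  have hL : (ctxD4 hD φ).L (0 : Fin 2) = 3 := rfl
  simp only [Ctx.om, Ctx.oprod, hL, List.range_succ, List.range_zero, List.nil_append, List.map_append,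
    List.map_cons, List.map_nil, List.prod_append, List.prod_cons, List.prod_nil, mul_one, one_mul]
  rfl

omit h3 in
theorem nf_single17 (u : K) : nf hD ⟨0, 0, 0, 0, u, 0, 0, 0, 0⟩ = gx hD K 17 u := by simp [nf, gx_zero]

omit h3 in
theorem nf_single20 (u : K) : nf hD ⟨0, 0, 0, 0, 0, u, 0, 0, 0⟩ = gx hD K 20 u := by simp [nf, gx_zero]

omit h3 in
theorem nf_single21 (u : K) : nf hD ⟨0, 0, 0, 0, 0, 0, u, 0, 0⟩ = gx hD K 21 u := by simp [nf, gx_zero]

omit h3 in
theorem nf_single22 (u : K) : nf hD ⟨0, 0, 0, 0, 0, 0, 0, u, 0⟩ = gx hD K 22 u := by simp [nf, gx_zero]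

omit h3 in
theorem nf_single14 (u : K) : nf hD ⟨u, 0, 0, 0, 0, 0, 0, 0, 0⟩ = gx hD K 14 u := by simp [nf, gx_zero]

omit h3 in
theorem nf_single15 (u : K) : nf hD ⟨0, u, 0, 0, 0, 0, 0, 0, 0⟩ = gx hD K 15 u := by simp [nf, gx_zero]

omit h3 in
theorem nf_single19 (u : K) : nf hD ⟨0, 0, u, 0, 0, 0, 0, 0, 0⟩ = gx hD K 19 u := by simp [nf, gx_zero]

omit h3 in
theorem nf_single16 (u : K) : nf hD ⟨0, 0, 0, u, 0, 0, 0, 0, 0⟩ = gx hD K 16 u := by simp [nf, gx_zero]

/-- The lowering element on the highest line. -/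
theorem conj_om_E (u s : K) (hs : φ s = s) :
    ∃ z, (ctxD4 hD φ).om (0 : Fin 2) u * eN hD φ 0 0 0 s 0 * ((ctxD4 hD φ).om (0 : Fin 2) u)⁻¹ =
      eN hD φ (-(u * φ u * φ (φ u) * s)) (-(u * φ u * s)) (-(u * s)) s z := by
  set x₁ := gx hD K 5 u with hx₁
  set x₂ := gx hD K 10 (φ u) with hx₂
  set x₃ := gx hD K 11 (φ (φ u)) with hx₃
  have e3 : MulAut.conj x₃ (gx hD K 22 s) = gx hD K 22 s * gx hD K 21 (φ (φ u) * s) := by
    rw [hx₃, MulAut.conj_apply, conj_one hD (k := 21) (c := -1) (by norm_num) (by norm_num) (by norm_num)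
      (by decide +kernel) (by decide +kernel) (by decide +kernel)]
    congr 2; push_cast; ring
  have e2a : ∀ v : K, MulAut.conj x₂ (gx hD K 22 v) = gx hD K 22 v * gx hD K 20 (φ u * v) := fun v => by
    rw [hx₂, MulAut.conj_apply, conj_one hD (k := 20) (c := -1) (by norm_num) (by norm_num) (by norm_num)
      (by decide +kernel) (by decide +kernel) (by decide +kernel)]
    congr 2; push_cast; ring
  have e2b : ∀ v : K, MulAut.conj x₂ (gx hD K 21 v) = gx hD K 21 v * gx hD K 19 (φ u * v) := fun v => by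
    rw [hx₂, MulAut.conj_apply, conj_one hD (k := 19) (c := -1) (by norm_num) (by norm_num) (by norm_num)
      (by decide +kernel) (by decide +kernel) (by decide +kernel)]
    congr 2; push_cast; ring
  have e1a : ∀ v : K, MulAut.conj x₁ (gx hD K 22 v) = gx hD K 22 v * gx hD K 17 (-(u * v)) := fun v => by
    rw [hx₁, MulAut.conj_apply, conj_one hD (k := 17) (c := 1) (by norm_num) (by norm_num) (by norm_num)
      (by decide +kernel) (by decide +kernel) (by decide +kernel)]
    congr 2; push_cast; ring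
  have e1b : ∀ v : K, MulAut.conj x₁ (gx hD K 20 v) = gx hD K 20 v * gx hD K 15 (-(u * v)) := fun v => by
    rw [hx₁, MulAut.conj_apply, conj_one hD (k := 15) (c := 1) (by norm_num) (by norm_num) (by norm_num)
      (by decide +kernel) (by decide +kernel) (by decide +kernel)]
    congr 2; push_cast; ring
  have e1c : ∀ v : K, MulAut.conj x₁ (gx hD K 21 v) = gx hD K 21 v * gx hD K 16 (-(u * v)) := fun v => by
    rw [hx₁, MulAut.conj_apply, conj_one hD (k := 16) (c := 1) (by norm_num) (by norm_num) (by norm_num)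
      (by decide +kernel) (by decide +kernel) (by decide +kernel)]
    congr 2; push_cast; ring
  have e1d : ∀ v : K, MulAut.conj x₁ (gx hD K 19 v) = gx hD K 19 v * gx hD K 14 (-(u * v)) := fun v => by
    rw [hx₁, MulAut.conj_apply, conj_one hD (k := 14) (c := 1) (by norm_num) (by norm_num) (by norm_num)
      (by decide +kernel) (by decide +kernel) (by decide +kernel)]
    congr 2; push_cast; ring
  rw [← MulAut.conj_apply, om_zero_eq, eN_e, ← hx₁, ← hx₂, ← hx₃, map_mul, map_mul, MulAut.mul_apply,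
    MulAut.mul_apply, e3, map_mul, e2a, e2b, map_mul, map_mul, map_mul, e1a, e1b, e1c, e1d]
  simp only [← nf_single14, ← nf_single15, ← nf_single16, ← nf_single17, ← nf_single19, ← nf_single20,
    ← nf_single21, ← nf_single22, nf_mul, eN, map_neg, map_mul, hs, h3]
  refine ⟨?_, congrArg (nf hD) ?_⟩
  rotate_left
  ext <;> simp only
  all_goals first | rfl | ring

/-- The raising element on the short orbit of level one. -/
theorem conj_op_D (u d : K) :
    ∃ z, (ctxD4 hD φ).op (0 : Fin 2) u * eN hD φ 0 0 d 0 0 * ((ctxD4 hD φ).op (0 : Fin 2) u)⁻¹ =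
      eN hD φ 0 0 d (-tr φ (u * d)) z := by
  set x₁ := gx hD K 18 u with hx₁
  set x₂ := gx hD K 13 (φ u) with hx₂
  set x₃ := gx hD K 12 (φ (φ u)) with hx₃
  have e3 : ∀ v : K, MulAut.conj x₃ (gx hD K 21 v) = gx hD K 21 v * gx hD K 22 (φ (φ u) * v) := fun v => by
    rw [hx₃, MulAut.conj_apply, conj_one hD (k := 22) (c := -1) (by norm_num) (by norm_num) (by norm_num)
      (by decide +kernel) (by decide +kernel) (by decide +kernel)]
    congr 2; push_cast; ring
  have e2 : ∀ v : K, MulAut.conj x₂ (gx hD K 20 v) = gx hD K 20 v * gx hD K 22 (φ u * v) := fun v => by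
    rw [hx₂, MulAut.conj_apply, conj_one hD (k := 22) (c := -1) (by norm_num) (by norm_num) (by norm_num)
      (by decide +kernel) (by decide +kernel) (by decide +kernel)]
    congr 2; push_cast; ring
  have e1 : ∀ v : K, MulAut.conj x₁ (gx hD K 17 v) = gx hD K 17 v * gx hD K 22 (-(u * v)) := fun v => by
    rw [hx₁, MulAut.conj_apply, conj_one hD (k := 22) (c := 1) (by norm_num) (by norm_num) (by norm_num)
      (by decide +kernel) (by decide +kernel) (by decide +kernel)]
    congr 2; push_cast; ring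
  have f3 : ∀ s, (s = 17 ∨ s = 20 ∨ s = 22) → ∀ v : K, MulAut.conj x₃ (gx hD K s v) = gx hD K s v := by
    rintro s (rfl | rfl | rfl) v <;> (rw [hx₃, MulAut.conj_apply]; exact conj_free hD (by decide +kernel) _ _)
  have f2 : ∀ s, (s = 17 ∨ s = 21 ∨ s = 22) → ∀ v : K, MulAut.conj x₂ (gx hD K s v) = gx hD K s v := by
    rintro s (rfl | rfl | rfl) v <;> (rw [hx₂, MulAut.conj_apply]; exact conj_free hD (by decide +kernel) _ _)
  have f1 : ∀ s, (s = 20 ∨ s = 21 ∨ s = 22) → ∀ v : K, MulAut.conj x₁ (gx hD K s v) = gx hD K s v := by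
    rintro s (rfl | rfl | rfl) v <;> (rw [hx₁, MulAut.conj_apply]; exact conj_free hD (by decide +kernel) _ _)
  have hd : eN hD φ 0 0 d 0 0 = gx hD K 17 d * gx hD K 20 (-φ d) * gx hD K 21 (-φ (φ d)) := by
    simp [eN, nf, gx_zero]
  rw [← MulAut.conj_apply, op_zero_eq, hd, ← hx₁, ← hx₂, ← hx₃]
  simp only [map_mul, MulAut.mul_apply, e3, e2, e1, f3, f2, f1, true_or, or_true]
  simp only [← nf_single17, ← nf_single20, ← nf_single21, ← nf_single22, nf_mul, eN, map_zero, neg_zero]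
  refine ⟨?_, congrArg (nf hD) ?_⟩
  rotate_left
  ext <;> simp only [tr, map_mul]
  all_goals first | rfl | ring

/-- The raising element fixes the highest line. -/
theorem conj_op_E (u s : K) :
    (ctxD4 hD φ).op (0 : Fin 2) u * eN hD φ 0 0 0 s 0 * ((ctxD4 hD φ).op (0 : Fin 2) u)⁻¹ =
      eN hD φ 0 0 0 s 0 := by
  rw [eN_e, op_zero_eq, mul_inv_eq_iff_eq_mul]
  exact ((((by decide +kernel : Free 18 22).commute hD u s).mul_left
    ((by decide +kernel : Free 13 22).commute hD _ s)).mul_left ((by decide +kernel : Free 12 22).commute hD _ s)).eq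

omit h3 in
theorem theta_conj_eN (x : Fin chevD4.rank → Kˣ) (s : Kˣ)
    (h : ∀ r ∈ [14, 15, 19, 16, 17, 20, 21, 22], chiX x r = s) (hs : φ (s : K) = s) (b t d e z : K) :
    theta chevD4 K x * eN hD φ b t d e z * (theta chevD4 K x)⁻¹ =
      eN hD φ (s * b) (s * t) (s * d) (s * e) ((chiX x 23 : K) * z) := by
  simp only [List.forall_mem_cons] at h
  obtain ⟨h14, h15, h19, h16, h17, h20, h21, h22, -⟩ := h
  simp only [eN, nf, ← MulAut.conj_apply, map_mul]
  simp only [MulAut.conj_apply, theta_conj_gx hD x (show 14 < chevD4.nroots by decide),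
    theta_conj_gx hD x (show 15 < chevD4.nroots by decide), theta_conj_gx hD x (show 16 < chevD4.nroots by decide),
    theta_conj_gx hD x (show 17 < chevD4.nroots by decide), theta_conj_gx hD x (show 19 < chevD4.nroots by decide),
    theta_conj_gx hD x (show 20 < chevD4.nroots by decide), theta_conj_gx hD x (show 21 < chevD4.nroots by decide),
    theta_conj_gx hD x (show 22 < chevD4.nroots by decide), theta_conj_gx hD x (show 23 < chevD4.nroots by decide),
    h14, h15, h16, h17, h19, h20, h21, h22, map_mul, hs, mul_neg]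

end Cfsg.Agent.TwistE6D4.D4Heis
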