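import Cfsg.Agent.Lib.TwistE6D4.D4Words
import Cfsg.Agent.Lib.TwistE6D4.Facts
import Cfsg.Agent.Lib.TwistE6D4.Orders
import Cfsg.Agent.Lib.ChevCentralizer.Statement
import Cfsg.Agent.EqLemmas

/-!
# Involutions of ³D₄(q), q even

* `split_list`: the normal form of fixed elements of a level;
* `exists_rep`: every involution is conjugate to a long or a short orbit root element;
* `classes_ncard_twistedD4`: there are exactly two classes.
-/

set_option autoImplicit false
set_option maxRecDepth 100000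
set_option synthInstance.maxSize 4000

namespace Cfsg.Agent.TwistE6D4

open Cfsg.Lie Cfsg.Lie.ChevalleyDatum Cfsg.Agent.Chev

namespace Stable

variable {D : ChevalleyDatum} {T : Twist D} {K : Type*} [Field K] {f : ℕ → ℤ} {S : Set ℕ} (hS : Stable T f S)
  (hT : TwistOK T) (hD : Good D) (φ : K →+* K)
include hS hT

/-- A fixed element of a level is a product of the orbit elements of that level and a higher element. -/
theorem split_list {h : ℕ} (hh : 1 ≤ h) {L : List ℕ} (hL : ∀ r ∈ L, r ∈ T.reps ∧ r ∈ S ∧ f r = h)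
    (hnd : L.Nodup) (hcov : ∀ r ∈ T.reps, r ∈ S → f r = h → r ∈ L) {g : GL D.Idx K}
    (hg : g ∈ lev hD K f S h) (hfix : g ∈ Fix hT φ) :
    ∃ g' ∈ lev hD K f S (h + 1) ⊓ Fix hT φ, ∃ c : ℕ → K, (∀ r ∈ L, (⇑φ)^[T.len r] (c r) = c r) ∧
      g = (L.map fun r => orb hD T φ r (c r)).prod * g' := by
  set p := (L.map fun r => orb hD T φ r (coef D r g)).prod with hp
  have hpar : ∀ r ∈ L, (⇑φ)^[T.len r] (coef D r g) = coef D r g := fun r hr =>
    hS.coef_mem_par hT hD φ hh (hL r hr).1 (hL r hr).2.1 (hL r hr).2.2 hg hfix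
  have hmem : p ∈ lev hD K f S h ⊓ Fix hT φ := by
    refine Subgroup.list_prod_mem _ fun x hx => ?_
    obtain ⟨r, hr, rfl⟩ := List.mem_map.1 hx
    exact ⟨hS.orb_mem_lev hT hD φ (hL r hr).2.1 (hL r hr).2.2.ge _, orb_mem_Fix hT hD (hL r hr).1 (hpar r hr)⟩
  refine ⟨p⁻¹ * g, Subgroup.mem_inf.2 ⟨mem_lev_succ hD hS.lin hS.closed hh
    ((lev hD K f S h).mul_mem ((lev hD K f S h).inv_mem hmem.1) hg) fun q hq hfq => ?_,
    (Fix hT φ).mul_mem ((Fix hT φ).inv_mem hmem.2) hfix⟩, fun r => coef D r g, hpar,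
    (mul_inv_cancel_left _ _).symm⟩
  obtain ⟨r, hr, hrS, i, hi, rfl⟩ := hS.rep_mem hT hq
  have hfr : f r = h := by rw [← hfq, hS.inv_iter hT (hS.closed.lt r hrS)]
  have hrL := hcov r hr hrS hfr
  have hT' := lev_le_Tri (K := K) hD hS.lin hS.closed hh
  have hql := hS.closed.lt _ hq
  have h1 := coef_mul hD hS.lin hql hh hfq (hT' hmem.1) (hT' (mul_mem (inv_mem hmem.1) hg))
  have h2 : coef D (T.rho^[i] r) p = cf T φ r (coef D r g) i := by
    rw [hp, hS.coef_list_prod hD hh hq hfq _ _ fun s hs =>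
      hS.orb_mem_lev hT hD φ (hL s hs).2.1 (hL s hs).2.2.ge _, ← List.sum_toFinset _ hnd,
      Finset.sum_eq_single r]
    · rw [hS.coef_orb hT hD φ hh hr hr hrS hrS hfr hfr _ hi, if_pos rfl]
    · intro s hs hsr
      rw [List.mem_toFinset] at hs
      rw [hS.coef_orb hT hD φ hh hr (hL s hs).1 (hL s hs).2.1 hrS hfr (hL s hs).2.2 _ hi, if_neg hsr]
    · intro h'; exact absurd (List.mem_toFinset.2 hrL) h'
  rw [mul_inv_cancel_left, h2, hS.coef_iter hT hD φ hh hrS hfr hg hfix] at h1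
  exact left_eq_add.1 h1

end Stable

namespace D4

variable {K : Type*} [Field K] (hD : Good chevD4) (φ : K →+* K)

local notation "C" => ctxD4 hD φ
local notation "o" => orb hD d4Twist φ

/-- Conjugacy under the twisted group. -/
def Cj (g g' : GL chevD4.Idx K) : Prop := ∃ c ∈ (ctxD4 hD φ).G0, c * g * c⁻¹ = g'

variable {hD φ}

theorem Cj.trans {g g' g'' : GL chevD4.Idx K} (h : Cj hD φ g g') (h' : Cj hD φ g' g'') : Cj hD φ g g'' := by
  obtain ⟨a, ha, rfl⟩ := h
  obtain ⟨b, hb, rfl⟩ := h'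
  exact ⟨b * a, mul_mem hb ha, by group⟩

theorem Cj.symm {g g' : GL chevD4.Idx K} (h : Cj hD φ g g') : Cj hD φ g' g := by
  obtain ⟨a, ha, rfl⟩ := h
  exact ⟨a⁻¹, inv_mem ha, by group⟩

theorem Cj.invol {g g' : GL chevD4.Idx K} (h : Cj hD φ g g') (h1 : g ≠ 1) (h2 : g * g = 1) :
    g' ≠ 1 ∧ g' * g' = 1 := by
  obtain ⟨a, -, rfl⟩ := h
  refine ⟨fun e => h1 ?_, by rw [show a * g * a⁻¹ * (a * g * a⁻¹) = a * (g * g) * a⁻¹ by group, h2, mul_one, mul_inv_cancel]⟩
  simpa using e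

theorem levels : (∀ r ∈ d4Twist.reps, d4Twist.ht r = 1 → r ∈ [18, 14]) ∧
    (∀ r ∈ d4Twist.reps, d4Twist.ht r = 2 → r ∈ [15]) ∧ (∀ r ∈ d4Twist.reps, d4Twist.ht r = 3 → r ∈ [17]) ∧
    (∀ r ∈ d4Twist.reps, d4Twist.ht r = 4 → r ∈ [22]) ∧ (∀ r ∈ d4Twist.reps, d4Twist.ht r = 5 → r ∈ [23]) ∧
    (∀ r < chevD4.nroots, d4Twist.ht r < 6) ∧
    ([18, 14, 15, 17, 22, 23].map d4Twist.ht = [1, 1, 2, 3, 4, 5]) ∧
    (∀ r ∈ [18, 14, 15, 17, 22, 23], r ∈ d4Twist.reps ∧ r < chevD4.nroots) ∧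
    ([18, 14, 15, 17, 22, 23].map d4Twist.len = [3, 1, 3, 3, 1, 1]) := by decide +kernel

theorem images : (∀ e ∈ ([(14, 22), (15, 17), (17, 15), (23, 23)] : List (ℕ × ℕ)), e.2 ∈ d4Twist.reps ∧
      ∃ i < d4Twist.len e.2, d4Twist.rho^[i] e.2 = wF d4Twist (d4Node 0) e.1) ∧
    ∀ e ∈ ([(18, 15), (15, 18), (17, 17), (22, 23), (23, 22)] : List (ℕ × ℕ)), e.2 ∈ d4Twist.reps ∧
      ∃ i < d4Twist.len e.2, d4Twist.rho^[i] e.2 = wF d4Twist (d4Node 1) e.1 := by decide +kernel

variable (hD φ)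

theorem st : Stable d4Twist d4Twist.ht (C).posSet := (C).posSet_ok

theorem orb_mem_G0 {r : ℕ} (hr : r ∈ d4Twist.reps) {t : K} (ht : (⇑φ)^[d4Twist.len r] t = t) :
    o r t ∈ (C).G0 :=
  (C).Uo_le_G0 d4_long ⟨r, hr⟩ ((C).orb_mem_Uo hr ht)

/-- The normal form below a given level. -/
theorem normal_two {g : GL chevD4.Idx K} (hg : g ∈ lev hD K d4Twist.ht (C).posSet 2)
    (hfix : g ∈ Fix d4Twist_ok φ) :
    ∃ z w v e, (⇑φ)^[3] z = z ∧ (⇑φ)^[3] w = w ∧ φ v = v ∧ φ e = e ∧ g = o 15 z * o 17 w * o 22 v * o 23 e := by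
  obtain ⟨-, c2, c3, c4, c5, c6, hht, hrep, hlen⟩ := levels
  simp only [List.map_cons, List.map_nil, List.cons.injEq, and_true] at hht hlen
  obtain ⟨-, -, e2, e3, e4, e5⟩ := hht
  obtain ⟨-, -, l2, l3, l4, l5⟩ := hlen
  have mem : ∀ r ∈ [18, 14, 15, 17, 22, 23], 0 < d4Twist.ht r → r ∈ (C).posSet := fun r hr h => ⟨(hrep r hr).2, h⟩
  have S := st hD φ
  obtain ⟨g3, hg3, c₂, p2, rfl⟩ := S.split_list d4Twist_ok hD φ (h := 2) (L := [15]) (by norm_num)
    (fun r hr => by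
      obtain rfl := List.mem_singleton.1 hr
      exact ⟨(hrep _ (by simp)).1, mem _ (by simp) (by omega), by omega⟩)
    (by simp) (fun r hr _ h => c2 r hr h) hg hfix
  obtain ⟨g4, hg4, c₃, p3, rfl⟩ := S.split_list d4Twist_ok hD φ (h := 3) (L := [17]) (by norm_num)
    (fun r hr => by
      obtain rfl := List.mem_singleton.1 hr
      exact ⟨(hrep _ (by simp)).1, mem _ (by simp) (by omega), by omega⟩)
    (by simp) (fun r hr _ h => c3 r hr h) hg3.1 hg3.2
  obtain ⟨g5, hg5, c₄, p4, rfl⟩ := S.split_list d4Twist_ok hD φ (h := 4) (L := [22]) (by norm_num)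
    (fun r hr => by
      obtain rfl := List.mem_singleton.1 hr
      exact ⟨(hrep _ (by simp)).1, mem _ (by simp) (by omega), by omega⟩)
    (by simp) (fun r hr _ h => c4 r hr h) hg4.1 hg4.2
  obtain ⟨g6, hg6, c₅, p5, rfl⟩ := S.split_list d4Twist_ok hD φ (h := 5) (L := [23]) (by norm_num)
    (fun r hr => by
      obtain rfl := List.mem_singleton.1 hr
      exact ⟨(hrep _ (by simp)).1, mem _ (by simp) (by omega), by omega⟩)
    (by simp) (fun r hr _ h => c5 r hr h) hg5.1 hg5.2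
  rw [lev_succ_eq_bot hD fun q hq => c6 q hq.1] at hg6
  obtain rfl : g6 = 1 := Subgroup.mem_bot.1 hg6.1
  have a2 := p2 15 (by simp)
  have a3 := p3 17 (by simp)
  have a4 := p4 22 (by simp)
  have a5 := p5 23 (by simp)
  rw [l2] at a2
  rw [l3] at a3
  rw [l4] at a4
  rw [l5] at a5
  exact ⟨_, _, _, _, a2, a3, by simpa using a4, by simpa using a5, by simp [mul_assoc]⟩

/-- The normal form of a positive unipotent element. -/
theorem normal {g : GL chevD4.Idx K} (hg : g ∈ (C).rgd.Upos) :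
    ∃ x y z w v e, (⇑φ)^[3] x = x ∧ φ y = y ∧ (⇑φ)^[3] z = z ∧ (⇑φ)^[3] w = w ∧ φ v = v ∧ φ e = e ∧
      g = o 18 x * o 14 y * o 15 z * o 17 w * o 22 v * o 23 e := by
  rw [(C).Upos_eq, ← lev_one hD (st hD φ).closed] at hg
  obtain ⟨c1, -, -, -, -, -, hht, hrep, hlen⟩ := levels
  simp only [List.map_cons, List.map_nil, List.cons.injEq, and_true] at hht hlen
  obtain ⟨g2, hg2, c, p, rfl⟩ := (st hD φ).split_list d4Twist_ok hD φ (h := 1) (L := [18, 14]) le_rfl
    (fun r hr => by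
      simp only [List.mem_cons, List.not_mem_nil, or_false] at hr
      rcases hr with rfl | rfl
      · exact ⟨(hrep _ (by simp)).1, ⟨(hrep _ (by simp)).2, by show 0 < d4Twist.ht 18; omega⟩, by omega⟩
      · exact ⟨(hrep _ (by simp)).1, ⟨(hrep _ (by simp)).2, by show 0 < d4Twist.ht 14; omega⟩, by omega⟩)
    (by simp) (fun r hr _ h => c1 r hr h) hg.1 hg.2
  obtain ⟨z, w, v, e, hz, hw, hv, he, rfl⟩ := normal_two hD φ hg2.1 hg2.2
  have hx := p 18 (by simp)
  have hy := p 14 (by simp)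
  rw [hlen.1] at hx
  rw [hlen.2.1] at hy
  exact ⟨_, _, z, w, v, e, hx, by simpa using hy, hz, hw, hv, he, by simp [mul_assoc]⟩

/-- A leading parameter of a trivial product vanishes. -/
theorem lead_zero {r h : ℕ} (hr : r ∈ d4Twist.reps) (hh : 1 ≤ h) (hfr : d4Twist.ht r = h) {t : K}
    {g : GL chevD4.Idx K} (hg : g ∈ lev hD K d4Twist.ht (C).posSet (h + 1)) (e : o r t * g = 1) : t = 0 := by
  have hrl := (d4Twist_ok.rep_lt r hr).1
  have hrS : r ∈ (C).posSet := ⟨hrl, by show 0 < d4Twist.ht r; omega⟩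
  have S := st hD φ
  have hT' := lev_le_Tri (K := K) hD S.lin S.closed hh
  have h1 := coef_mul hD S.lin hrl hh hfr
    (hT' (S.orb_mem_lev d4Twist_ok hD φ hrS hfr.ge t)) (hT' (lev_anti hD _ _ (Nat.le_succ h) hg))
  rw [e, coef_one, S.coef_lev_succ hD hrS hfr hh hg, add_zero] at h1
  have h2 := S.coef_orb d4Twist_ok hD φ hh hr hr hrS hrS hfr hfr t (i := 0) (d4Twist_ok.rep_lt r hr).2.1
  rw [Function.iterate_zero_apply, if_pos rfl, cf_zero] at h2
  rw [← h2, h1]

theorem orb_mem_lev' {r h : ℕ} (hr : r ∈ [18, 14, 15, 17, 22, 23]) (hh : (h : ℤ) ≤ d4Twist.ht r) (t : K) :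
    o r t ∈ lev hD K d4Twist.ht (C).posSet h := by
  obtain ⟨-, -, -, -, -, -, hht, hrep, -⟩ := levels
  simp only [List.map_cons, List.map_nil, List.cons.injEq, and_true] at hht
  refine (st hD φ).orb_mem_lev d4Twist_ok hD φ ⟨(hrep r hr).2, ?_⟩ hh t
  simp only [List.mem_cons, List.not_mem_nil, or_false] at hr
  show 0 < d4Twist.ht r
  rcases hr with rfl | rfl | rfl | rfl | rfl | rfl <;> omega

/-- Conjugation by a representative of a fundamental reflection. -/
theorem ns_orb (a : Fin 2) {r r' : ℕ} (hr : r ∈ d4Twist.reps) (hr' : r' ∈ d4Twist.reps ∧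
    ∃ i < d4Twist.len r', d4Twist.rho^[i] r' = wF d4Twist (d4Node a) r) {t : K}
    (ht : (⇑φ)^[d4Twist.len r] t = t) :
    ∃ t', (⇑φ)^[d4Twist.len r'] t' = t' ∧ (C).rgd.n a * o r t * ((C).rgd.n a)⁻¹ = o r' t' := by
  have h1 : (C).rgd.n a * o r t * ((C).rgd.n a)⁻¹ ∈ (C).rgd.U ((C).rgd.w a ⟨r, hr⟩) := by
    rw [← (C).rgd.map_conj_n]
    exact ⟨_, (C).orb_mem_Uo hr ht, rfl⟩
  have e : ((C).rgd.w a ⟨r, hr⟩).1 = r' := (C).repOf_eq hr'.1 hr'.2
  change _ ∈ (C).Uo ((C).rgd.w a ⟨r, hr⟩).1 at h1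
  rw [e] at h1
  exact (C).mem_Uo hr'.1 h1

theorem n_mem (a : Fin 2) : (C).rgd.n a ∈ (C).G0 := (C).ns_mem_G0 a ((C).Pm_one a)

variable [Fintype K] [CharP K 2] {q : ℕ}

omit [CharP K 2] in
theorem phi3 (h : Hyp (C) q 3) (t : K) : φ (φ (φ t)) = t := by
  have : (⇑φ)^[3] t = t := by rw [Ctx.iter_pow h, ← h.card, FiniteField.pow_card]
  simpa using this

theorem cj_orb {r : ℕ} (hr : r ∈ d4Twist.reps) {t : K} (ht : (⇑φ)^[d4Twist.len r] t = t) (g : GL chevD4.Idx K) :
    Cj hD φ g (o r t * g * o r t) := by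
  refine ⟨o r t, orb_mem_G0 hD φ hr ht, ?_⟩
  congr 1
  refine inv_eq_of_mul_eq_one_right ?_
  rw [← (C).orb_add hr, CharTwo.add_self_eq_zero, (C).orb_zero]

theorem exists_sqrt (a : K) : ∃ b, b * b = a := by
  have hinj : Function.Injective fun x : K => x * x := by
    intro x y e
    rcases mul_self_eq_mul_self_iff.1 e with h | h
    · exact h
    · rw [h, CharTwo.neg_eq]
  exact (Finite.injective_iff_surjective.1 hinj) a

omit [Fintype K] in
theorem sqrt_fixed {b : K} (h : φ (b * b) = b * b) : φ b = b := by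
  rw [map_mul] at h
  rcases mul_self_eq_mul_self_iff.1 h with h' | h'
  · exact h'
  · rw [h', CharTwo.neg_eq]

/-- Torus: normalising the long orbit element. -/
theorem cj_long {e : K} (he : φ e = e) (h0 : e ≠ 0) : Cj hD φ (o 23 e) (o 23 1) := by
  let u : Kˣ := (Units.mk0 e h0)⁻¹
  have hu : (C).Pm (1 : Fin 2) (u : K) := by
    show (⇑φ)^[d4Twist.len (chevD4.simple (d4Node 1).val)] (u : K) = u
    rw [d4_len]
    simp [u, he]
  refine ⟨theta chevD4 K ((C).torVec (1 : Fin 2) u), (C).theta_mem_G0 ((C).torVec_mem _ hu), ?_⟩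
  have hx := (C).torVec_mem (1 : Fin 2) hu
  have hchi : chiX ((C).torVec (1 : Fin 2) u) 23 = u := by
    have h1 : (C).torVec (1 : Fin 2) u = Pi.mulSingle (d4Node 1) u := by
      show ((List.range (d4Twist.len (chevD4.simple (d4Node 1).val))).map fun k =>
        (Pi.mulSingle ((C).nd (1 : Fin 2) k) ((C).itU k u) : Fin chevD4.rank → Kˣ)).prod = _
      rw [d4_len]
      simp [List.range_succ, Ctx.nd, (C).itU_zero]
    rw [h1, chiX_single, show chevD4.cartan (d4Node 1).val 23 = 1 by decide +kernel, zpow_one]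
  simp only [orb, show d4Twist.len 23 = 1 by decide, List.range_one, List.map_cons, List.map_nil, List.prod_cons,
    List.prod_nil, mul_one, cf_zero, Function.iterate_zero_apply]
  rw [theta_conj_gx hD _ (by decide +kernel), hchi]
  simp [u, h0]

/-- Torus: normalising the short orbit element. -/
theorem cj_short (h : Hyp (C) q 3) {w : K} (h0 : w ≠ 0) : Cj hD φ (o 17 w) (o 17 1) := by
  have h3 := phi3 hD φ h
  obtain ⟨b, hb⟩ := exists_sqrt (φ w⁻¹ * φ (φ w⁻¹))
  have hb0 : b ≠ 0 := by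
    intro e
    rw [e, mul_zero] at hb
    simp [h0] at hb
  let u : Kˣ := Units.mk0 b hb0
  have hu : (C).Pm (0 : Fin 2) (u : K) := hyp_Pm h (a := (0 : Fin 2)) (d4_len 0) _
  refine ⟨theta chevD4 K ((C).torVec (0 : Fin 2) u), (C).theta_mem_G0 ((C).torVec_mem _ hu), ?_⟩
  have hx := (C).torVec_mem (0 : Fin 2) hu
  set x := (C).torVec (0 : Fin 2) u
  have v0 : ∀ a k, k < (C).L a → x ((C).nd a k) = if (0 : Fin 2) = a then (C).itU k u else 1 :=
    fun a k hk => (C).torVec_apply 0 a u hk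
  have nds : ((C).nd 0 0).val = 0 ∧ ((C).nd 0 1).val = 2 ∧ ((C).nd 0 2).val = 3 ∧
      ((C).nd 1 0).val = 1 ∧ (C).L 0 = 3 ∧ (C).L 1 = 1 ∧ chevD4.cartan 0 17 = -1 ∧
      chevD4.cartan 1 17 = 0 ∧ chevD4.cartan 2 17 = 1 ∧ chevD4.cartan 3 17 = 1 := by
    show (((d4Twist.pi)^[0] (d4Node 0)).val = _) ∧ (((d4Twist.pi)^[1] (d4Node 0)).val = _) ∧
      (((d4Twist.pi)^[2] (d4Node 0)).val = _) ∧ (((d4Twist.pi)^[0] (d4Node 1)).val = _) ∧
      (d4Twist.len (chevD4.simple (d4Node 0).val) = _) ∧ (d4Twist.len (chevD4.simple (d4Node 1).val) = _) ∧ _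
    decide +kernel
  obtain ⟨n0, n2, n3, n1, L0, L1, c0, c1, c2, c3⟩ := nds
  have x0 := v0 0 0 (by omega)
  have x2 := v0 0 1 (by omega)
  have x3 := v0 0 2 (by omega)
  rw [if_pos rfl, show (C).nd 0 0 = (0 : Fin 4) from Fin.ext n0] at x0
  rw [if_pos rfl, show (C).nd 0 1 = (2 : Fin 4) from Fin.ext n2] at x2
  rw [if_pos rfl, show (C).nd 0 2 = (3 : Fin 4) from Fin.ext n3] at x3
  have hprod : chiX x 17 = ∏ i : Fin 4, x i ^ chevD4.cartan i.val 17 := rfl
  have hchi : (chiX x 17 : K) = w⁻¹ := by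
    have h1 : (chiX x 17 : K) * b = φ b * φ (φ b) := by
      rw [hprod, Fin.prod_univ_four]
      simp only [show ((0 : Fin 4) : ℕ) = 0 from rfl, show ((1 : Fin 4) : ℕ) = 1 from rfl,
        show ((2 : Fin 4) : ℕ) = 2 from rfl, show ((3 : Fin 4) : ℕ) = 3 from rfl, c0, c1, c2, c3, x0, x2, x3]
      simp [u, Ctx.itU, hb0]
      field_simp
    have h2 : ((chiX x 17 : K) * b) * ((chiX x 17 : K) * b) = w⁻¹ * w⁻¹ * (b * b) := by
      rw [h1, show φ b * φ (φ b) * (φ b * φ (φ b)) = φ (b * b) * φ (φ (b * b)) by simp only [map_mul]; ring, hb]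
      simp only [map_mul, h3]
      ring
    rcases mul_self_eq_mul_self_iff.1 (h2.trans (show _ = (w⁻¹ * b) * (w⁻¹ * b) by ring)) with e | e
    · exact mul_right_cancel₀ hb0 e
    · rw [CharTwo.neg_eq] at e; exact mul_right_cancel₀ hb0 e
  simp only [orb]
  rw [← MulAut.conj_apply, map_list_prod, List.map_map]
  refine congrArg List.prod (List.map_congr_left fun i _ => ?_)
  simp only [Function.comp_apply, MulAut.conj_apply]
  rw [theta_conj_gx hD _ (d4Twist_ok.iter_lt (by decide +kernel) i),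
    cf, cf, esgn_cast d4Twist_ok (by decide +kernel), one_mul, one_mul]
  congr 1
  have hit : ∀ i, (chiX x (d4Twist.rho^[i] 17) : K) = (⇑φ)^[i] (chiX x 17 : K) := fun i => by
    induction i with
    | zero => rfl
    | succ i ih =>
      rw [Function.iterate_succ_apply', Function.iterate_succ_apply', ← ih,
        chiX_rho d4Twist_ok hx (d4Twist_ok.iter_lt (by decide +kernel) i)]
      rfl
  rw [hit, hchi, ← RingHom.coe_pow, ← map_mul, inv_mul_cancel₀ h0]

omit [Fintype K] in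
theorem four {a b c d : K} (ha : a = d) (hb : b = d) (hc : c = d) : a + b + c + d = 0 := by
  rw [ha, hb, hc, add_assoc (d + d), CharTwo.add_self_eq_zero]

omit [Fintype K] [CharP K 2] in
theorem lead15 {B Cc E t : K} (e : o 15 t * (o 17 B * o 22 Cc * o 23 E) = 1) : t = 0 :=
  lead_zero hD φ (h := 2) (by decide) (by norm_num) (by decide)
    (mul_mem (mul_mem (orb_mem_lev' hD φ (by simp) (by decide) _) (orb_mem_lev' hD φ (by simp) (by decide) _))
      (orb_mem_lev' hD φ (by simp) (by decide) _)) e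

omit [Fintype K] [CharP K 2] in
theorem lead17 {Cc E t : K} (e : o 17 t * (o 22 Cc * o 23 E) = 1) : t = 0 :=
  lead_zero hD φ (h := 3) (by decide) (by norm_num) (by decide)
    (mul_mem (orb_mem_lev' hD φ (by simp) (by decide) _) (orb_mem_lev' hD φ (by simp) (by decide) _)) e

omit [Fintype K] [CharP K 2] in
theorem orb23_eq_one {t : K} (e : o 23 t = 1) : t = 0 := (C).orb_eq_one_iff (show 23 ∈ d4Twist.reps by decide) e

theorem len3 : d4Twist.len 18 = 3 ∧ d4Twist.len 15 = 3 ∧ d4Twist.len 17 = 3 ∧ d4Twist.len 14 = 1 ∧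
    d4Twist.len 22 = 1 ∧ d4Twist.len 23 = 1 := by decide

/-- A short element is conjugate to the standard one. -/
theorem cj_18 (h : Hyp (C) q 3) {z : K} (hz : z ≠ 0) : Cj hD φ (o 18 z) (o 17 1) := by
  have h3 := phi3 hD φ h
  obtain ⟨l18, l15, l17, -⟩ := len3
  have hit : ∀ t : K, (⇑φ)^[3] t = t := fun t => by simpa using h3 t
  obtain ⟨z', -, e⟩ := ns_orb hD φ 1 (by decide) (images.2 (18, 15) (by simp)) (t := z) (by rw [l18]; exact hit z)
  obtain ⟨c, -, e'⟩ := ns_orb hD φ 0 (by decide) (images.1 (15, 17) (by simp)) (t := z') (by rw [l15]; exact hit z')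
  have h1 : Cj hD φ (o 18 z) (o 17 c) :=
    Cj.trans ⟨_, n_mem hD φ 1, e⟩ ⟨_, n_mem hD φ 0, e'⟩
  refine h1.trans (cj_short hD φ h fun hc => ?_)
  obtain ⟨a, -, ea⟩ := h1
  rw [hc, (C).orb_zero] at ea
  exact hz ((C).orb_eq_one_iff (show 18 ∈ d4Twist.reps by decide) (by simpa using ea))

/-- An involution of level two is conjugate to one of the two representatives. -/
theorem cj_two (h : Hyp (C) q 3) {g : GL chevD4.Idx K} (hg : g ∈ lev hD K d4Twist.ht (C).posSet 2)
    (hfix : g ∈ Fix d4Twist_ok φ) (h1 : g ≠ 1) (h2 : g * g = 1) :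
    Cj hD φ g (o 23 1) ∨ Cj hD φ g (o 17 1) := by
  have h3 := phi3 hD φ h
  have hit : ∀ t : K, (⇑φ)^[3] t = t := fun t => by simpa using h3 t
  obtain ⟨l18, l15, l17, l14, l22, l23⟩ := len3
  have fix1 : ∀ {t : K}, φ t = t → (⇑φ)^[1] t = t := fun h => by simpa using h
  obtain ⟨z, w, v, e, -, -, hv, he, rfl⟩ := normal_two hD φ hg hfix
  rw [sq_four hD h3 z w hv he] at h2
  have hT0 := orb23_eq_one hD φ h2
  by_cases hz : z = 0
  · subst hz
    simp only [(C).orb_zero, one_mul] at h1 ⊢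
    by_cases hw : w = 0
    · subst hw
      simp only [(C).orb_zero, one_mul] at h1 ⊢
      left
      by_cases hv0 : v = 0
      · subst hv0
        simp only [(C).orb_zero, one_mul] at h1 ⊢
        exact cj_long hD φ he fun e0 => h1 (by rw [e0, (C).orb_zero])
      · have hr : φ (e / v) = e / v := by rw [map_div₀, he, hv]
        have s1 := cj_orb hD φ (r := 14) (by decide) (t := e / v) (by rw [l14]; exact fix1 hr) (o 22 v * o 23 e)
        rw [conj_14_22 hD h3 hr hv he, div_mul_cancel₀ e hv0, CharTwo.add_self_eq_zero, (C).orb_zero, mul_one] at s1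
        obtain ⟨c, hc, ec⟩ := ns_orb hD φ 1 (by decide) (images.2 (22, 23) (by simp)) (t := v)
          (by rw [l22]; exact fix1 hv)
        rw [l23] at hc
        refine s1.trans (Cj.trans ⟨_, n_mem hD φ 1, ec⟩ (cj_long hD φ (by simpa using hc) fun e0 => hv0 ?_))
        rw [e0, (C).orb_zero] at ec
        exact (C).orb_eq_one_iff (show 22 ∈ d4Twist.reps by decide) (by simpa using ec)
    · right
      -- remove the e-coordinate, then the v-coordinate
      set s := e / φ (φ w) with hs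
      have hw2 : φ (φ w) ≠ 0 := by simp [hw]
      have s1 := cj_orb hD φ (r := 15) (by decide) (t := s) (by rw [l15]; exact hit s) (o 17 w * o 22 v * o 23 e)
      have k1 : w * φ s + φ w * φ (φ s) + φ (φ w) * s + e = 0 := by
        simp only [hs, map_div₀, he, h3]
        exact four (mul_div_cancel₀ e hw) (mul_div_cancel₀ e (by simp [hw])) (mul_div_cancel₀ e hw2)
      rw [conj_15_17 hD h3 w s hv he, k1, (C).orb_zero, mul_one] at s1
      set s' := v / w with hs'
      have s2 := cj_orb hD φ (r := 18) (by decide) (t := s') (by rw [l18]; exact hit s') (o 17 w * o 22 v)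
      have k2 : w * s' + φ w * φ s' + φ (φ w) * φ (φ s') + v = 0 := by
        simp only [hs', map_div₀, hv]
        exact four (mul_div_cancel₀ v hw) (mul_div_cancel₀ v (by simp [hw])) (mul_div_cancel₀ v hw2)
      rw [conj_18_17 hD h3 w s' hv, k2, (C).orb_zero, mul_one] at s2
      exact s1.trans (s2.trans (cj_short hD φ h hw))
  · right
    have hz1 : φ z ≠ 0 := by simp [hz]
    have hz2 : φ (φ z) ≠ 0 := by simp [hz]
    -- remove the w-coordinate
    set t := φ z * w / (z * φ (φ z)) with ht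
    have hL : z * φ t + φ (φ z) * φ (φ t) + w = 0 := by
      have e1 : z * φ t = φ (φ z * w) / φ z := by
        simp only [ht, map_div₀, map_mul, h3]
        field_simp
      have e2 : φ (φ z) * φ (φ t) = φ (φ (φ z * w)) / φ z := by
        simp only [ht, map_div₀, map_mul, h3]
        field_simp
      rw [e1, e2]
      field_simp
      simp only [map_mul, h3]
      linear_combination hT0
    obtain ⟨V, E, hV, hE, e1⟩ := conj_a' hD h3 z w t hv he
    have s1 := cj_orb hD φ (r := 18) (by decide) (t := t) (by rw [l18]; exact hit t)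
      (o 15 z * o 17 w * o 22 v * o 23 e)
    rw [e1, hL, (C).orb_zero, mul_one] at s1
    -- remove the e-coordinate
    set s := E / φ z with hs
    have k2 : z * φ (φ s) + φ z * s + φ (φ z) * φ s + E = 0 := by
      simp only [hs, map_div₀, hE, h3]
      exact four (mul_div_cancel₀ E hz) (mul_div_cancel₀ E hz1) (mul_div_cancel₀ E hz2)
    have s2 := cj_orb hD φ (r := 17) (by decide) (t := s) (by rw [l17]; exact hit s) (o 15 z * o 22 V * o 23 E)
    rw [conj_17_15 hD h3 z s hV hE, k2, (C).orb_zero, mul_one] at s2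
    -- reflect
    obtain ⟨z', -, ez⟩ := ns_orb hD φ 1 (by decide) (images.2 (15, 18) (by simp)) (t := z) (by rw [l15]; exact hit z)
    obtain ⟨v', hv', ev'⟩ := ns_orb hD φ 1 (by decide) (images.2 (22, 23) (by simp)) (t := V)
      (by rw [l22]; exact fix1 hV)
    rw [l23] at hv'
    have hv'' : φ v' = v' := by simpa using hv'
    have s3 : Cj hD φ (o 15 z * o 22 V) (o 18 z' * o 23 v') :=
      ⟨_, n_mem hD φ 1, by rw [← ez, ← ev']; group⟩
    have hz' : z' ≠ 0 := by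
      intro e0
      rw [e0, (C).orb_zero] at ez
      exact hz ((C).orb_eq_one_iff (show 15 ∈ d4Twist.reps by decide) (by simpa using ez))
    have hN0 : z' * φ z' * φ (φ z') ≠ 0 := by simp [hz']
    obtain ⟨k, hk⟩ := exists_sqrt (v' / (z' * φ z' * φ (φ z')))
    have hkf : φ k = k := sqrt_fixed φ (by rw [hk, map_div₀, hv'', fix_norm h3])
    set m := z' * φ z' * φ (φ z') * k with hm
    have hmf : φ m = m := by rw [hm, map_mul, fix_norm h3, hkf]
    have s4 := cj_orb hD φ (r := 15) (by decide) (t := φ (φ z') * k) (by rw [l15]; exact hit _) (o 18 z')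
    rw [conj_15_18 hD h3 z' hkf, show z' * φ z' * φ (φ z') * k * k = v' by
      rw [mul_assoc _ k, hk, mul_div_cancel₀ _ hN0]] at s4
    set s' := m / z' with hs'
    have s5 := cj_orb hD φ (r := 17) (by decide) (t := s') (by rw [l17]; exact hit s') (o 18 z' * o 22 m * o 23 v')
    have k5 : z' * s' + φ z' * φ s' + φ (φ z') * φ (φ s') + m = 0 := by
      simp only [hs', map_div₀, hmf]
      exact four (mul_div_cancel₀ m hz') (mul_div_cancel₀ m (by simp [hz'])) (mul_div_cancel₀ m (by simp [hz']))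
    rw [conj_17_18 hD h3 z' s' hmf hv'', k5, (C).orb_zero, mul_one] at s5
    exact ((s1.trans s2).trans s3).trans ((s4.trans s5).symm.trans (cj_18 hD φ h hz'))

/-- A positive involution is conjugate to one of the two representatives. -/
theorem cj_pos (h : Hyp (C) q 3) {g : GL chevD4.Idx K} (hg : g ∈ (C).rgd.Upos) (h1 : g ≠ 1) (h2 : g * g = 1) :
    Cj hD φ g (o 23 1) ∨ Cj hD φ g (o 17 1) := by
  have h3 := phi3 hD φ h
  have hit : ∀ t : K, (⇑φ)^[3] t = t := fun t => by simpa using h3 t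
  obtain ⟨l18, l15, l17, l14, l22, l23⟩ := len3
  have fix1 : ∀ {t : K}, φ t = t → (⇑φ)^[1] t = t := fun h => by simpa using h
  have hG : (C).G0 ≤ Fix d4Twist_ok φ := (C).G0_le_Fix
  have two : ∀ g', Cj hD φ g g' → g' ∈ lev hD K d4Twist.ht (C).posSet 2 ⊓ Fix d4Twist_ok φ →
      Cj hD φ g (o 23 1) ∨ Cj hD φ g (o 17 1) := fun g' hc hm =>
    (cj_two hD φ h hm.1 hm.2 (hc.invol h1 h2).1 (hc.invol h1 h2).2).imp hc.trans hc.trans
  have mk : ∀ {r : ℕ}, r ∈ [15, 17, 22, 23] → ∀ {t : K}, (⇑φ)^[d4Twist.len r] t = t →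
      o r t ∈ lev hD K d4Twist.ht (C).posSet 2 ⊓ Fix d4Twist_ok φ := by
    have tab : ∀ r ∈ [15, 17, 22, 23],
        r ∈ d4Twist.reps ∧ r ∈ [18, 14, 15, 17, 22, 23] ∧ ((2 : ℕ) : ℤ) ≤ d4Twist.ht r := by decide +kernel
    intro r hr t ht
    have hr' := tab r hr
    exact ⟨orb_mem_lev' hD φ hr'.2.1 hr'.2.2 t, orb_mem_Fix d4Twist_ok hD hr'.1 ht⟩
  obtain ⟨x, y, z, w, v, e, -, hy, -, -, hv, he, hgeq⟩ := normal hD φ hg
  obtain ⟨B, Cc, E, hsq⟩ := sq_six hD h3 x z w hy hv he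
  have hxy : φ (φ x) * y = 0 := lead15 hD φ (by rw [← hsq, ← hgeq, h2])
  by_cases hy0 : y = 0
  · subst hy0
    rw [(C).orb_zero, mul_one] at hgeq
    by_cases hx0 : x = 0
    · subst hx0
      rw [(C).orb_zero, one_mul] at hgeq
      refine two g ⟨1, one_mem _, by simp⟩ (hgeq ▸ mul_mem (mul_mem (mul_mem (mk (by simp) ?_) (mk (by simp) ?_))
        (mk (by simp) ?_)) (mk (by simp) ?_))
      · rw [l15]; exact hit z
      · rw [l17]; exact hit w
      · rw [l22]; exact fix1 hv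
      · rw [l23]; exact fix1 he
    · obtain ⟨Cc, E, hsq⟩ := sq_five hD h3 x z w hv he
      have hB : φ x * z + φ (φ x) * φ (φ z) = 0 := lead17 hD φ (by rw [← hsq, ← hgeq, h2])
      have hx2 : φ (φ x) ≠ 0 := by simp [hx0]
      have hr : φ (z / φ (φ x)) = z / φ (φ x) := by
        have h' := congrArg φ hB
        simp only [map_add, map_mul, map_zero, h3] at h'
        rw [map_div₀, h3, div_eq_div_iff hx0 hx2]
        exact CharTwo.add_eq_zero.1 (by linear_combination h')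
      obtain ⟨B', C', E', hC', hE', e1⟩ := conj_b hD h3 x z w hr hv he
      have s1 := cj_orb hD φ (r := 14) (by decide) (t := z / φ (φ x)) (by rw [l14]; exact fix1 hr)
        (o 18 x * o 15 z * o 17 w * o 22 v * o 23 e)
      rw [e1, mul_div_cancel₀ _ hx2, CharTwo.add_self_eq_zero, (C).orb_zero, mul_one, ← hgeq] at s1
      obtain ⟨a1, ha1, e18⟩ := ns_orb hD φ 1 (by decide) (images.2 (18, 15) (by simp)) (t := x) (by rw [l18]; exact hit x)
      obtain ⟨a2, ha2, e17⟩ := ns_orb hD φ 1 (by decide) (images.2 (17, 17) (by simp)) (t := B') (by rw [l17]; exact hit B')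
      obtain ⟨a3, ha3, e22⟩ := ns_orb hD φ 1 (by decide) (images.2 (22, 23) (by simp)) (t := C')
        (by rw [l22]; exact fix1 hC')
      obtain ⟨a4, ha4, e23⟩ := ns_orb hD φ 1 (by decide) (images.2 (23, 22) (by simp)) (t := E')
        (by rw [l23]; exact fix1 hE')
      refine two (o 15 a1 * o 17 a2 * o 23 a3 * o 22 a4)
        (s1.trans ⟨_, n_mem hD φ 1, by rw [← e18, ← e17, ← e22, ← e23]; group⟩)
        (mul_mem (mul_mem (mul_mem (mk (by simp) ha1) (mk (by simp) ha2)) (mk (by simp) ha3)) (mk (by simp) ha4))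
  · have hx0 : x = 0 := by simpa [hy0] using hxy
    subst hx0
    rw [(C).orb_zero, one_mul] at hgeq
    set s := φ z / y with hs
    obtain ⟨B', C', E', hC', hE', e1⟩ := conj_a hD h3 z w s hy hv he
    have s1 := cj_orb hD φ (r := 18) (by decide) (t := s) (by rw [l18]; exact hit s)
      (o 14 y * o 15 z * o 17 w * o 22 v * o 23 e)
    rw [e1, show z + φ (φ s) * y = 0 by
      simp only [hs, map_div₀, hy, h3]
      rw [div_mul_cancel₀ _ hy0, CharTwo.add_self_eq_zero], (C).orb_zero, mul_one, ← hgeq] at s1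
    have hsq' := (s1.invol h1 h2).2
    rw [sq_b hD h3 B' hy hC' hE'] at hsq'
    obtain rfl : C' = 0 := by simpa [hy0] using orb23_eq_one hD φ hsq'
    rw [(C).orb_zero, mul_one] at s1
    obtain ⟨a1, ha1, e14⟩ := ns_orb hD φ 0 (by decide) (images.1 (14, 22) (by simp)) (t := y) (by rw [l14]; exact fix1 hy)
    obtain ⟨a2, ha2, e17⟩ := ns_orb hD φ 0 (by decide) (images.1 (17, 15) (by simp)) (t := B') (by rw [l17]; exact hit B')
    obtain ⟨a4, ha4, e23⟩ := ns_orb hD φ 0 (by decide) (images.1 (23, 23) (by simp)) (t := E')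
      (by rw [l23]; exact fix1 hE')
    refine two (o 22 a1 * o 15 a2 * o 23 a4)
      (s1.trans ⟨_, n_mem hD φ 0, by rw [← e14, ← e17, ← e23]; group⟩)
      (mul_mem (mul_mem (mk (by simp) ha1) (mk (by simp) ha2)) (mk (by simp) ha4))

/-- Every involution of the group is conjugate into the positive unipotent subgroup. -/
theorem cj_Upos (h : Hyp (C) q 3) {G : Subgroup (GL chevD4.Idx K)} (e : G = (C).G0)
    (hcard : ∃ m, Odd m ∧ Nat.card G = q ^ 12 * m) {n : ℕ} (hq : q = 2 ^ n) {g : GL chevD4.Idx K}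
    (hg : g ∈ G) (h2 : g * g = 1) : ∃ u ∈ (C).rgd.Upos, Cj hD φ g u := by
  haveI : Fact (Nat.Prime 2) := ⟨Nat.prime_two⟩
  subst e
  obtain ⟨m, hm, hc⟩ := hcard
  have hU : (C).rgd.Upos ≤ (C).G0 := by
    rw [← (C).rgd_G]; exact (C).rgd.Upos_le_B.trans (C).rgd.B_le_G
  have hcU : Nat.card ↥((C).rgd.Upos.subgroupOf (C).G0) = 2 ^ (12 * n) := by
    rw [Nat.card_congr (Subgroup.subgroupOfEquivOfLe hU).toEquiv, Ctx.card_Upos h,
      show (((C).T.reps.filter fun r => decide (0 < (C).T.ht r)).map (C).T.len).sum = 12 from d4_U_exp, hq,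
      ← pow_mul, mul_comm n]
  obtain ⟨S, hS⟩ := (IsPGroup.of_card hcU).exists_le_sylow
  have hSU : (S : Subgroup (C).G0) = (C).rgd.Upos.subgroupOf (C).G0 := by
    refine (Subgroup.eq_of_le_of_card_ge hS (le_of_eq ?_)).symm
    have hfact : (q ^ 12 * m).factorization 2 = 12 * n := by
      rw [hq, ← pow_mul, Nat.factorization_mul (by positivity) hm.pos.ne', Finsupp.add_apply,
        Nat.Prime.factorization_pow Nat.prime_two, Finsupp.single_eq_same,
        Nat.factorization_eq_zero_of_not_dvd (fun hd => Nat.not_even_iff_odd.2 hm (even_iff_two_dvd.2 hd)),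
        add_zero, mul_comm]
    rw [hcU, S.card_eq_multiplicity, hc, hfact]
  have hz : IsPGroup 2 ↥(Subgroup.zpowers (⟨g, hg⟩ : ↥(C).G0)) := by
    have hd : orderOf (⟨g, hg⟩ : ↥(C).G0) ∣ 2 ^ 1 := by
      rw [pow_one]
      exact orderOf_dvd_of_pow_eq_one (Subtype.ext (by rw [pow_two]; exact h2))
    obtain ⟨k, -, hk⟩ := (Nat.dvd_prime_pow Nat.prime_two).1 hd
    exact IsPGroup.of_card (n := k) (by rw [Nat.card_zpowers, hk])
  obtain ⟨Q, hQ⟩ := hz.exists_le_sylow
  obtain ⟨c, hcQ⟩ := MulAction.exists_smul_eq (↥(C).G0) Q S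
  have hmem : c * ⟨g, hg⟩ * c⁻¹ ∈ (S : Subgroup (C).G0) := by
    rw [← hcQ, Sylow.coe_subgroup_smul]
    exact ⟨_, hQ (Subgroup.mem_zpowers _), rfl⟩
  rw [hSU] at hmem
  exact ⟨_, hmem, c, c.2, rfl⟩

theorem supports : ChevInvolution.Supp chevD4 [23] [23] ∧
    ChevInvolution.Supp chevD4 [17, 20, 21] [17, 20, 21, 22, 23] :=
  ⟨by constructor <;> decide +kernel, by constructor <;> decide +kernel⟩

omit [Fintype K] in
/-- The two representatives are not conjugate. -/
theorem not_cj : ¬ Cj hD φ (o 17 1) (o 23 1) := by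
  rintro ⟨c, hc, e⟩
  have hf : ∀ i, (⇑φ)^[i] (1 : K) = 1 := fun i => Function.iterate_fixed (map_one φ) i
  have e17 : o 17 (1 : K) = ChevInvolution.prodL hD K [17, 20, 21] := by
    rw [orb, show d4Twist.len 17 = 3 by decide]
    simp only [cf, esgn_cast d4Twist_ok (show 17 < chevD4.nroots by decide +kernel), hf, one_mul]
    rfl
  have e23 : o 23 (1 : K) = ChevInvolution.prodL hD K [23] := by
    rw [orb, show d4Twist.len 23 = 1 by decide]
    simp only [cf, esgn_cast d4Twist_ok (show 23 < chevD4.nroots by decide +kernel), hf, one_mul]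
    rfl
  rw [e17, e23] at e
  obtain ⟨l, hl⟩ := ChevInvolution.exists_map hD ChevBN.rootsD4 supports.2 supports.1 ((C).G0_le_group hc) e
  have h1 := List.mem_singleton.1 (hl 17 (by simp))
  have h2 := List.mem_singleton.1 (hl 20 (by simp))
  have h3 := congrArg ((ChevBN.chevRGD hD ChevBN.rootsD4 K).ww l.reverse) (Fin.ext (h1.trans h2.symm))
  rw [(ChevInvolution.ww_reverse hD ChevBN.rootsD4 l _).1, (ChevInvolution.ww_reverse hD ChevBN.rootsD4 l _).1] at h3
  simp at h3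

end D4

open D4 in
/-- ³D₄(q), q even, has exactly two classes of involutions. -/
theorem classes_ncard_twistedD4 {K : Type*} [Field K] [Fintype K] [CharP K 2] (hD : Good chevD4) (q : ℕ)
    (hK : Fintype.card K = q ^ 3) :
    (ConjClasses.mk '' {g : ↥(twistedD4 K q) | orderOf g = 2}).ncard = 2 := by
  classical
  haveI : Fact (Nat.Prime 2) := ⟨Nat.prime_two⟩
  obtain ⟨⟨N, hN0⟩, -, hN⟩ := FiniteField.card K 2
  obtain ⟨n, -, hn⟩ := (Nat.dvd_prime_pow Nat.prime_two).1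
    (show q ∣ 2 ^ N from hN ▸ hK ▸ dvd_pow_self q three_ne_zero)
  have hn0 : n ≠ 0 := by
    rintro rfl
    have := Fintype.one_lt_card (α := K)
    rw [hK, hn] at this
    simp at this
  have hq : IsPrimePow q := ⟨2, n, Nat.prime_two.prime, Nat.pos_of_ne_zero hn0, hn.symm⟩
  have hcard := card_twistedD4 hD hq hK
  obtain ⟨φ, e, h⟩ := exists_ctxD4 hD hq hK
  have hodd : ∃ m, Odd m ∧ Nat.card ↥(twistedD4 K q) = q ^ 12 * m := by
    refine ⟨(q ^ 2 - 1) * (q ^ 6 - 1) * (q ^ 8 + q ^ 4 + 1), ?_, by rw [hcard]; ring⟩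
    have he : Even q := hn ▸ (Nat.even_pow.2 ⟨even_two, hn0⟩)
    have hp : ∀ k, k ≠ 0 → Even (q ^ k) := fun k hk => Nat.even_pow.2 ⟨he, hk⟩
    have hs : ∀ k, k ≠ 0 → Odd (q ^ k - 1) := fun k hk =>
      Nat.Even.sub_odd (Nat.one_le_pow _ _ (by have := hq.two_le; omega)) (hp k hk) odd_one
    exact ((hs 2 two_ne_zero).mul (hs 6 (by norm_num))).mul (((hp 8 (by norm_num)).add (hp 4 (by norm_num))).add_one)
  set G := twistedD4 K q
  have h17 : orb hD d4Twist φ 17 (1 : K) ∈ G :=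
    e ▸ orb_mem_G0 hD φ (by decide) (Function.iterate_fixed (map_one φ) _)
  have h23 : orb hD d4Twist φ 23 (1 : K) ∈ G :=
    e ▸ orb_mem_G0 hD φ (by decide) (Function.iterate_fixed (map_one φ) _)
  have ho : ∀ r ∈ [17, 23], ∀ hr : orb hD d4Twist φ r (1 : K) ∈ G, orderOf (⟨_, hr⟩ : ↥G) = 2 := by
    intro r hr hmem
    have hrep : r ∈ d4Twist.reps :=
      (show ∀ r ∈ [17, 23], r ∈ d4Twist.reps by decide) r hr
    rw [Subgroup.orderOf_mk]
    refine orderOf_eq_prime ?_ fun e1 => one_ne_zero ((ctxD4 hD φ).orb_eq_one_iff hrep e1)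
    rw [pow_two]
    exact ((ctxD4 hD φ).orb_add hrep 1 1).symm.trans (by rw [CharTwo.add_self_eq_zero, Ctx.orb_zero])
  have himg : ConjClasses.mk '' {g : ↥G | orderOf g = 2} =
      {ConjClasses.mk ⟨_, h17⟩, ConjClasses.mk ⟨_, h23⟩} := by
    refine Set.Subset.antisymm ?_ ?_
    · rintro _ ⟨⟨g, hg⟩, hgo, rfl⟩
      change orderOf (⟨g, hg⟩ : ↥G) = 2 at hgo
      rw [Subgroup.orderOf_mk] at hgo
      have g1 : g ≠ 1 := fun e1 => by rw [e1, orderOf_one] at hgo; omega
      have g2 : g * g = 1 := by rw [← pow_two, ← hgo]; exact pow_orderOf_eq_one g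
      obtain ⟨u, hu, hcu⟩ := cj_Upos hD φ h e hodd hn hg g2
      rcases cj_pos hD φ h hu (hcu.invol g1 g2).1 (hcu.invol g1 g2).2 with h' | h'
      · obtain ⟨c, hc, ec⟩ := hcu.trans h'
        exact Or.inr (ConjClasses.mk_eq_mk_iff_isConj.2 (isConj_iff.2 ⟨⟨c, e ▸ hc⟩, Subtype.ext ec⟩))
      · obtain ⟨c, hc, ec⟩ := hcu.trans h'
        exact Or.inl (ConjClasses.mk_eq_mk_iff_isConj.2 (isConj_iff.2 ⟨⟨c, e ▸ hc⟩, Subtype.ext ec⟩))
    · rintro _ (rfl | rfl)
      · exact ⟨_, ho 17 (by simp) h17, rfl⟩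
      · exact ⟨_, ho 23 (by simp) h23, rfl⟩
  rw [himg, Set.ncard_pair]
  intro e1
  obtain ⟨⟨c, hc⟩, ec⟩ := isConj_iff.1 (ConjClasses.mk_eq_mk_iff_isConj.1 e1)
  exact not_cj hD φ ⟨c, e ▸ hc, congrArg Subtype.val ec⟩

end Cfsg.Agent.TwistE6D4
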