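import Cfsg.Agent.Lib.TwistE6D4.D4Elements
import Cfsg.Agent.Lib.SUMinDegree.Eigen
import Cfsg.Agent.Lib.Char.Integral
import Cfsg.Agent.EqLemmas

/-!
# The smallest degree of a non-trivial irreducible complex representation of ³D₄(q)

* `char_count`   : (q - 1)(q⁴ + q³ + 1) ≤ dim V, from the characters of the abelian part d, e, z.
* `degree_bound` : q(q⁴ - q² + 1) ≤ dim V.
-/

set_option autoImplicit false
set_option linter.unusedSectionVars false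
set_option linter.unusedSimpArgs false

namespace Cfsg.Agent.TwistE6D4.D4Heis

open Module Cfsg.Lie Cfsg.Lie.ChevalleyDatum Cfsg.Agent.Chev Cfsg.Agent.SUMinDegree

section Eigen

variable {G : Type*} [Group G] {V : Type*} [AddCommGroup V] [Module ℂ V] (ρ : Representation ℂ G V)
  {S : Type*} [AddCommGroup S] [Fintype S] (t : S → G) (ht : ∀ a b, t (a + b) = t a * t b)
include ht

theorem proj_comm (ψ : AddChar S ℂ) (d : S) (v : V) :
    ρ (t d) (proj ρ t ψ v) = proj ρ t ψ (ρ (t d) v) := by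
  simp only [proj, LinearMap.smul_apply, LinearMap.sum_apply, map_smul, map_sum]
  congr 1
  refine Finset.sum_congr rfl fun c _ => ?_
  rw [← Module.End.mul_apply, ← map_mul, ← ht, add_comm, ht, map_mul, Module.End.mul_apply]

/-- A non-zero component sees the same eigenvalue. -/
theorem eq_of_proj_ne {ψ : AddChar S ℂ} {d : S} {a : ℂ} {v : V} (h : ρ (t d) v = a • v)
    (hne : proj ρ t ψ v ≠ 0) : ψ d = a := by
  have h1 := (mem_eig ρ t).1 ((isProj_proj ρ t ht ψ).map_mem v) d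
  rw [proj_comm ρ t ht, h, map_smul] at h1
  exact (smul_left_injective ℂ hne h1).symm

theorem exists_proj_ne {v : V} (hv : v ≠ 0) : ∃ ψ : AddChar S ℂ, proj ρ t ψ v ≠ 0 := by
  by_contra hc
  push Not at hc
  exact hv (by rw [← sum_proj ρ t ht v]; exact Finset.sum_eq_zero fun ψ _ => hc ψ)

theorem finrank_le_sum [FiniteDimensional ℂ V] (W : Submodule ℂ V) (s : Finset (AddChar S ℂ))
    (h : ∀ v ∈ W, ∀ ψ, proj ρ t ψ v ≠ 0 → ψ ∈ s) :
    finrank ℂ W ≤ ∑ ψ ∈ s, finrank ℂ (eig ρ t ψ) := by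
  classical
  let f : W →ₗ[ℂ] ((ψ : ↥s) → ↥(eig ρ t ψ.1)) := LinearMap.pi fun ψ =>
    ((proj ρ t ψ.1).comp W.subtype).codRestrict _ fun v => (isProj_proj ρ t ht ψ.1).map_mem _
  have hf : Function.Injective f := by
    refine (injective_iff_map_eq_zero f).2 fun v hv => Subtype.ext ?_
    rw [← sum_proj ρ t ht (v : V)]
    refine Finset.sum_eq_zero fun ψ _ => ?_
    by_contra hne
    exact hne (congrArg Subtype.val (congrFun hv ⟨ψ, h v v.2 ψ hne⟩))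
  refine (LinearMap.finrank_le_finrank_of_injective hf).trans ?_
  rw [Module.finrank_pi_fintype, Finset.sum_coe_sort s fun ψ => finrank ℂ ↥(eig ρ t ψ)]

end Eigen

theorem not_dvd_order {q : ℕ} (hq : 1 < q) :
    ¬ (q - 1) * (q ^ 4 + q ^ 3 + 1) ∣ q ^ 12 * (q ^ 2 - 1) * (q ^ 6 - 1) * (q ^ 8 + q ^ 4 + 1) := by
  intro h
  have h1 : (((q - 1) * (q ^ 4 + q ^ 3 + 1) : ℕ) : ℤ) ∣
      ((q ^ 12 * (q ^ 2 - 1) * (q ^ 6 - 1) * (q ^ 8 + q ^ 4 + 1) : ℕ) : ℤ) := Int.natCast_dvd_natCast.2 h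
  rw [Nat.cast_mul, Nat.cast_mul, Nat.cast_mul, Nat.cast_mul, Nat.cast_sub (by omega),
    Nat.cast_sub (Nat.one_le_pow _ _ (by omega)), Nat.cast_sub (Nat.one_le_pow _ _ (by omega))] at h1
  push_cast at h1
  set x : ℤ := (q : ℤ) with hx
  have hx2 : (2 : ℤ) ≤ x := by omega
  have h2 : x ^ 4 + x ^ 3 + 1 ∣ x ^ 12 * ((x + 1) * (x ^ 6 - 1) * (x ^ 8 + x ^ 4 + 1)) := by
    refine (mul_dvd_mul_iff_left (show x - 1 ≠ 0 by omega)).1 (h1.trans (dvd_of_eq ?_))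
    ring
  have hcop : IsCoprime (x ^ 4 + x ^ 3 + 1) (x ^ 12) :=
    IsCoprime.pow_right ⟨1, -(x ^ 3 + x ^ 2), by ring⟩
  have h3 := (hcop.dvd_of_dvd_mul_left h2).mul_right (x - 1)
  have h4 : x ^ 4 + x ^ 3 + 1 ∣ 6 * x ^ 3 + 2 * x ^ 2 - 4 * x + 5 := by
    have e : 6 * x ^ 3 + 2 * x ^ 2 - 4 * x + 5 =
        (x ^ 4 + x ^ 3 + 1) * (x ^ 12 - x ^ 11 + x ^ 7 - 3 * x ^ 6 + 3 * x ^ 5 - x ^ 4 + x ^ 2 - 4 * x + 6) +
          -((x + 1) * (x ^ 6 - 1) * (x ^ 8 + x ^ 4 + 1) * (x - 1)) := by ring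
    rw [e]
    exact dvd_add (dvd_mul_right _ _) (dvd_neg.2 h3)
  have hpos : 0 < 6 * x ^ 3 + 2 * x ^ 2 - 4 * x + 5 := by
    nlinarith [pow_pos (show (0 : ℤ) < x by omega) 3, sq_nonneg (x - 1)]
  have hle := Int.le_of_dvd hpos h4
  rcases le_or_gt 6 q with h6 | h6
  · have h6' : (6 : ℤ) ≤ x := by omega
    nlinarith [mul_le_mul_of_nonneg_right h6' (pow_nonneg (show (0 : ℤ) ≤ x by omega) 3),
      mul_le_mul_of_nonneg_right h6' (pow_nonneg (show (0 : ℤ) ≤ x by omega) 2)]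
  · rw [hx] at h4
    interval_cases q <;> norm_num at h4

variable {K : Type*} [Field K] (hD : Good chevD4) {φ : K →+* K} (h3 : ∀ t, φ (φ (φ t)) = t)
  {V : Type*} [AddCommGroup V] [Module ℂ V] (ρ : Representation ℂ ↥(ctxD4 hD φ).G0 V)

/-- The fixed points of the centre. -/
noncomputable def RR : Submodule ℂ V := eig ρ (ZZ hD φ h3) 1

/-- The fixed points of the centre and of the line e. -/
noncomputable def RE : Submodule ℂ V := RR hD h3 ρ ⊓ eig ρ (EE hD φ h3) 1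

theorem mem_RR {v : V} : v ∈ RR hD h3 ρ ↔ ∀ z, ρ (ZZ hD φ h3 z) v = v := by simp [RR, mem_eig]

theorem mem_RE {v : V} : v ∈ RE hD h3 ρ ↔ v ∈ RR hD h3 ρ ∧ ∀ e, ρ (EE hD φ h3 e) v = v := by
  simp [RE, mem_eig]

theorem WW_RR (w : SW φ) {v : V} (hv : v ∈ RR hD h3 ρ) : ρ (WW hD φ h3 w) v ∈ RR hD h3 ρ :=
  (mem_RR hD h3 ρ).2 fun z => by
    rw [← Module.End.mul_apply, ← map_mul, ← WW_ZZ, map_mul, Module.End.mul_apply, (mem_RR hD h3 ρ).1 hv]

theorem WW_RE (w : SW φ) {v : V} (hv : v ∈ RE hD h3 ρ) : ρ (WW hD φ h3 w) v ∈ RE hD h3 ρ := by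
  obtain ⟨hvR, hvE⟩ := (mem_RE hD h3 ρ).1 hv
  refine (mem_RE hD h3 ρ).2 ⟨WW_RR hD h3 ρ w hvR, fun e => ?_⟩
  rw [← Module.End.mul_apply, ← map_mul, EE_WW, map_mul, map_mul, Module.End.mul_apply, Module.End.mul_apply,
    (mem_RR hD h3 ρ).1 hvR, hvE]

theorem GM_RR (u : K) {v : V} (hv : v ∈ RR hD h3 ρ) : ρ (GM hD φ h3 u)⁻¹ v ∈ RR hD h3 ρ :=
  (mem_RR hD h3 ρ).2 fun z => by
    rw [← Module.End.mul_apply, ← map_mul, ← GM_inv_ZZ, map_mul, Module.End.mul_apply, (mem_RR hD h3 ρ).1 hv]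

theorem TS_RE (s : FX φ) (hs : s ≠ 0) {v : V} (hv : v ∈ RE hD h3 ρ) : ρ (TS hD φ s hs) v ∈ RE hD h3 ρ := by
  obtain ⟨hvR, hvE⟩ := (mem_RE hD h3 ρ).1 hv
  refine (mem_RE hD h3 ρ).2 ⟨(mem_RR hD h3 ρ).2 fun z => ?_, fun e => ?_⟩
  · rw [← Module.End.mul_apply, ← map_mul,
      show ZZ hD φ h3 z * TS hD φ s hs = TS hD φ s hs * ZZ hD φ h3 (z / s ^ 2) by
        simp [ZZ, TS_mul, mul_div_cancel₀ _ (pow_ne_zero 2 hs)],
      map_mul, Module.End.mul_apply, (mem_RR hD h3 ρ).1 hvR]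
  · rw [← Module.End.mul_apply, ← map_mul,
      show EE hD φ h3 e * TS hD φ s hs = TS hD φ s hs * EE hD φ h3 (e / s) by
        simp [EE, TS_mul, mul_div_cancel₀ _ hs],
      map_mul, Module.End.mul_apply, hvE]

/-- The quotient of the radical by the centre, on a part of the fixed points of the centre. -/
noncomputable def repW (W : Submodule ℂ V) (hW : W ≤ RR hD h3 ρ) (hi : ∀ w, ∀ v ∈ W, ρ (WW hD φ h3 w) v ∈ W) :
    Representation ℂ (Multiplicative (SW φ)) W where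
  toFun w := (ρ (WW hD φ h3 w.toAdd)).restrict (hi w.toAdd)
  map_one' := by
    refine LinearMap.ext fun v => Subtype.ext ?_
    show ρ (WW hD φ h3 0) (v : V) = v
    rw [WW_zero, map_one]; rfl
  map_mul' a b := by
    refine LinearMap.ext fun v => Subtype.ext ?_
    show ρ (WW hD φ h3 (a.toAdd + b.toAdd)) (v : V) = ρ (WW hD φ h3 a.toAdd) (ρ (WW hD φ h3 b.toAdd) v)
    obtain ⟨z, hz⟩ := WW_mul hD φ h3 a.toAdd b.toAdd
    rw [← Module.End.mul_apply (ρ (WW hD φ h3 a.toAdd)), ← map_mul, hz, map_mul, Module.End.mul_apply,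
      (mem_RR hD h3 ρ).1 (hW v.2)]

theorem coe_repW (W : Submodule ℂ V) (hW : W ≤ RR hD h3 ρ) (hi : ∀ w, ∀ v ∈ W, ρ (WW hD φ h3 w) v ∈ W)
    (w : SW φ) (v : W) :
    ((repW hD h3 ρ W hW hi (Multiplicative.ofAdd w) v : W) : V) = ρ (WW hD φ h3 w) (v : V) := rfl

theorem ofAdd_hom (a b : SW φ) :
    Multiplicative.ofAdd (a + b) = Multiplicative.ofAdd a * Multiplicative.ofAdd b := rfl

/-- The cubic with values in the fixed field. -/
def fF (γ δ : K) (ε : FX φ) (u : K) : FX φ :=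
  ε - trF φ h3 (δ * u) - trF φ h3 (γ * (u * φ u)) - nrF φ h3 u

theorem coe_fF (γ δ : K) (ε : FX φ) (u : K) : (fF h3 γ δ ε u : K) = fval φ 1 γ δ ε u := by
  show ((ε : K) - tr φ _ - tr φ _ - _) = _
  rw [fval, one_mul]
  rfl

/-- An eigenvector with parameters 1, γ, δ, ε. -/
def IsEV (ψ : AddChar (FX φ) ℂ) (γ δ : K) (ε : FX φ) (v : V) : Prop :=
  ∀ b t d e z, ρ (NN hD φ h3 b t d e z) v = ψ (b + trF φ h3 (γ * t) + trF φ h3 (δ * d) + ε * e) • v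

theorem IsEV.mem_RR' {ψ : AddChar (FX φ) ℂ} {γ δ : K} {ε : FX φ} {v : V} (hv : IsEV hD h3 ρ ψ γ δ ε v) :
    v ∈ RR hD h3 ρ :=
  (mem_RR hD h3 ρ).2 fun z => by
    rw [ZZ, hv]; simp

theorem IsEV.shift {ψ : AddChar (FX φ) ℂ} {γ δ : K} {ε : FX φ} {v : V} (hv : IsEV hD h3 ρ ψ γ δ ε v)
    (u : K) (e : FX φ) :
    ρ (EE hD φ h3 e) (ρ (GM hD φ h3 u)⁻¹ v) = ψ (fF h3 γ δ ε u * e) • ρ (GM hD φ h3 u)⁻¹ v := by
  obtain ⟨z, hz⟩ := EE_GM hD φ h3 u e
  rw [← Module.End.mul_apply, ← map_mul, hz, map_mul, Module.End.mul_apply, hv, map_smul]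
  congr 2
  rw [fF, show γ * -(u * φ u * (e : K)) = (e : K) * -(γ * (u * φ u)) by ring,
    show δ * -(u * (e : K)) = (e : K) * -(δ * u) by ring, trF_smul, trF_smul, map_neg, map_neg]
  ring

variable [Fintype K] {q : ℕ} (hφ : ∀ t, φ t = t ^ q) (hK : Fintype.card K = q ^ 3) (hq : 1 < q)
  [FiniteDimensional ℂ V] (hfree : ∀ g, g ≠ 1 → ρ g ≠ 1)
include hφ hK hq

set_option maxHeartbeats 400000 in
include hfree in
/-- The line b moves some vector fixed by the centre. -/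
theorem exists_moving : ∃ b, ∃ v ∈ RR hD h3 ρ, ρ (BB hD φ h3 b) v ≠ v := by
  classical
  let : Fintype (FX φ) := Fintype.ofFinite _
  have htr : ∀ g x : ↥(ctxD4 hD φ).G0,
      LinearMap.trace ℂ V (ρ (g * x * g⁻¹)) = LinearMap.trace ℂ V (ρ x) := fun g x => by
    rw [map_mul, LinearMap.trace_mul_comm, ← map_mul, inv_mul_cancel_left]
  by_contra hc
  push Not at hc
  set D := finrank ℂ (RR hD h3 ρ)
  have hZ := ZZ_add hD φ h3
  have hP : LinearMap.trace ℂ V (proj ρ (ZZ hD φ h3) 1) = (D : ℂ) := (isProj_proj ρ _ hZ 1).trace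
  have hPexp : proj ρ (ZZ hD φ h3) 1 = (Fintype.card (FX φ) : ℂ)⁻¹ • ∑ z, ρ (ZZ hD φ h3 z) := by simp [proj]
  have hBD : ∀ b, b ≠ 0 → LinearMap.trace ℂ V (ρ (BB hD φ h3 b)) = (D : ℂ) := by
    intro b hb
    have hfix : ρ (BB hD φ h3 b) * proj ρ (ZZ hD φ h3) 1 = proj ρ (ZZ hD φ h3) 1 :=
      LinearMap.ext fun v => hc b _ ((isProj_proj ρ _ hZ 1).map_mem v)
    have hz : ∀ z, LinearMap.trace ℂ V (ρ (BB hD φ h3 b) * ρ (ZZ hD φ h3 z)) =
        LinearMap.trace ℂ V (ρ (BB hD φ h3 b)) := fun z => by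
      rw [← map_mul, ← EE_conj_BB hD φ h3 b z hb, htr]
    rw [← hP, ← hfix, hPexp, mul_smul_comm, Finset.mul_sum, map_smul, map_sum,
      Finset.sum_congr rfl fun z _ => hz z, Finset.sum_const, Finset.card_univ, nsmul_eq_mul, smul_eq_mul,
      inv_mul_cancel_left₀ (Nat.cast_ne_zero.2 Fintype.card_ne_zero)]
  have hZ1 : LinearMap.trace ℂ V (ρ (ZZ hD φ h3 1)) = (D : ℂ) := by
    obtain ⟨g, w, hw, e⟩ := exists_conj_ZZ_BB hD φ h3
    rw [← hBD _ hw, ← e, htr]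
  have hZD : ∀ z, z ≠ 0 → LinearMap.trace ℂ V (ρ (ZZ hD φ h3 z)) = (D : ℂ) := fun z hz => by
    have : TH hD φ z hz * ZZ hD φ h3 1 * (TH hD φ z hz)⁻¹ = ZZ hD φ h3 z := by
      rw [mul_inv_eq_iff_eq_mul]; simp only [ZZ]; rw [TH_mul]; simp
    rw [← this, htr, hZ1]
  have hk : (D : ℂ) = (finrank ℂ V : ℂ) := by
    rw [hPexp, map_smul, map_sum, ← Finset.add_sum_erase _ _ (Finset.mem_univ (0 : FX φ)),
      Finset.sum_congr rfl fun z hz => hZD z (Finset.ne_of_mem_erase hz), ZZ_zero, map_one,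
      LinearMap.trace_one, Finset.sum_const, Finset.card_erase_of_mem (Finset.mem_univ _), Finset.card_univ,
      nsmul_eq_mul, smul_eq_mul, inv_mul_eq_iff_eq_mul₀ (Nat.cast_ne_zero.2 Fintype.card_ne_zero),
      Nat.cast_sub (Fintype.card_pos), Nat.cast_one] at hP
    linear_combination -hP
  have htop : RR hD h3 ρ = ⊤ := Submodule.eq_top_of_finrank_eq (Nat.cast_injective hk)
  exact hfree _ (ZZ_ne_one hD φ h3 one_ne_zero)
    (LinearMap.ext fun v => (mem_RR hD h3 ρ).1 (htop ▸ Submodule.mem_top) 1)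

include hfree in
theorem exists_isEV :
    ∃ (ψ : AddChar (FX φ) ℂ) (γ δ : K) (ε : FX φ) (v : V), ψ ≠ 1 ∧ v ≠ 0 ∧ IsEV hD h3 ρ ψ γ δ ε v := by
  classical
  let : Fintype (FX φ) := Fintype.ofFinite _
  obtain ⟨b₀, v₀, hv₀, hb₀⟩ := exists_moving hD h3 ρ hφ hK hq hfree
  obtain ⟨χ, hχb, hχne⟩ := exists_char_of_moves (repW hD h3 ρ _ le_rfl fun w _ hv => WW_RR hD h3 ρ w hv)
    Multiplicative.ofAdd ofAdd_hom (c := ((b₀, 0, 0, 0) : SW φ)) (v := ⟨v₀, hv₀⟩)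
    fun h => hb₀ (congrArg Subtype.val h)
  obtain ⟨vx, hvx, hvx0⟩ := (Submodule.ne_bot_iff _).1 hχne
  let ψ : AddChar (FX φ) ℂ := χ.compAddMonoidHom (AddMonoidHom.inl (FX φ) (K × K × FX φ))
  have hψ : ψ ≠ 1 := fun h => hχb (DFunLike.congr_fun h b₀)
  obtain ⟨γ, hγ⟩ := (chiK_bijective φ hφ hK hq hψ).2
    (χ.compAddMonoidHom ((AddMonoidHom.inr (FX φ) (K × K × FX φ)).comp (AddMonoidHom.inl K (K × FX φ))))
  obtain ⟨δ, hδ⟩ := (chiK_bijective φ hφ hK hq hψ).2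
    (χ.compAddMonoidHom ((AddMonoidHom.inr (FX φ) (K × K × FX φ)).comp ((AddMonoidHom.inr K (K × FX φ)).comp
      (AddMonoidHom.inl K (FX φ)))))
  obtain ⟨ε, hε⟩ := (chiF_bijective φ hφ hK hq hψ).2
    (χ.compAddMonoidHom ((AddMonoidHom.inr (FX φ) (K × K × FX φ)).comp ((AddMonoidHom.inr K (K × FX φ)).comp
      (AddMonoidHom.inr K (FX φ)))))
  refine ⟨ψ, γ, δ, ε, vx, hψ, fun h => hvx0 (Subtype.ext h), fun b t d e z => ?_⟩
  have h1 : ψ (trF φ h3 (γ * t)) = χ (0, t, 0, 0) := DFunLike.congr_fun hγ t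
  have h2 : ψ (trF φ h3 (δ * d)) = χ (0, 0, d, 0) := DFunLike.congr_fun hδ d
  have h4 : ψ (ε * e) = χ (0, 0, 0, e) := DFunLike.congr_fun hε e
  rw [NN_eq_WW_mul, map_mul, Module.End.mul_apply, (mem_RR hD h3 ρ).1 vx.2,
    ← coe_repW hD h3 ρ _ le_rfl (fun w _ hv => WW_RR hD h3 ρ w hv), (mem_eig _ _).1 hvx,
    AddChar.map_add_eq_mul ψ, AddChar.map_add_eq_mul ψ, AddChar.map_add_eq_mul ψ, h1, h2, h4,
    show ψ b = χ (b, 0, 0, 0) from rfl, ← AddChar.map_add_eq_mul, ← AddChar.map_add_eq_mul,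
    ← AddChar.map_add_eq_mul]
  simp

variable {ψ : AddChar (FX φ) ℂ} (hψ : ψ ≠ 1) {γ δ : K} {ε : FX φ} {v : V} (hv0 : v ≠ 0)
  (hv : IsEV hD h3 ρ ψ γ δ ε v)
include hψ hv0 hv

/-- The common fixed points of the centre and of the line e. -/
theorem le_finrank_RE : q - 1 ≤ finrank ℂ (RE hD h3 ρ) := by
  classical
  let : Fintype (FX φ) := Fintype.ofFinite _
  have hFq : Fintype.card (FX φ) = q := by rw [Fintype.card_eq_nat_card, natCard_FX φ hφ hK hq]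
  have hfixf : ∀ u, φ (fval φ 1 γ δ ε u) = fval φ 1 γ δ ε u := fun u => by
    rw [← coe_fF h3]; exact FX.fix φ _
  obtain ⟨u, hu⟩ := exists_fval_zero φ hφ hK hq one_ne_zero hfixf
  have hu' : fF h3 γ δ ε u = 0 := Subtype.ext (by rw [coe_fF, hu]; rfl)
  have hxRE : ρ (GM hD φ h3 u)⁻¹ v ∈ RE hD h3 ρ :=
    (mem_RE hD h3 ρ).2 ⟨GM_RR hD h3 ρ u (hv.mem_RR' hD h3 ρ), fun e => by
      rw [hv.shift, hu', zero_mul, AddChar.map_zero_eq_one, one_smul]⟩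
  obtain ⟨b₁, hb₁⟩ := AddChar.ne_one_iff.1 hψ
  let ρE := repW hD h3 ρ (RE hD h3 ρ) inf_le_left fun w _ hx => WW_RE hD h3 ρ w hx
  have hmoves : ρE (Multiplicative.ofAdd ((b₁, 0, 0, 0) : SW φ)) ⟨_, hxRE⟩ ≠ ⟨_, hxRE⟩ := by
    intro h
    have h' : ρ (BB hD φ h3 b₁) (ρ (GM hD φ h3 u)⁻¹ v) = ρ (GM hD φ h3 u)⁻¹ v := congrArg Subtype.val h
    rw [← Module.End.mul_apply, ← map_mul, ← GM_inv_BB, map_mul, Module.End.mul_apply, BB, hv, map_smul] at h'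
    simp only [mul_zero, map_zero, add_zero] at h'
    exact hb₁ (smul_left_injective ℂ (fun h0 => hv0 (rep_injective ρ _ (h0.trans (map_zero _).symm)))
      (h'.trans (one_smul ℂ _).symm))
  obtain ⟨χ', hχ'c, hχ'ne⟩ := exists_char_of_moves ρE Multiplicative.ofAdd ofAdd_hom hmoves
  let sc : FX φ → SW φ →+ SW φ := fun s => AddMonoidHom.mk'
    (fun w => (s * w.1, (s : K) * w.2.1, (s : K) * w.2.2.1, s * w.2.2.2)) fun a b => by simp [mul_add]
  have hocc : ∀ s : FX φ, s ≠ 0 → eig ρE Multiplicative.ofAdd (χ'.compAddMonoidHom (sc s)) ≠ ⊥ := by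
    intro s hs
    obtain ⟨x, hx, hx0⟩ := (Submodule.ne_bot_iff _).1 hχ'ne
    set g := TS hD φ s⁻¹ (inv_ne_zero hs) with hg
    refine (Submodule.ne_bot_iff _).2 ⟨⟨ρ g (x : V), TS_RE hD h3 ρ _ _ x.2⟩,
      (mem_eig _ _).2 fun w => Subtype.ext ?_, fun h => ?_⟩
    · show ρ (WW hD φ h3 w) (ρ g (x : V)) = χ' (sc s w) • ρ g (x : V)
      have e : g * WW hD φ h3 (sc s w) = WW hD φ h3 w * g := by
        simp [hg, WW, sc, TS_mul, inv_mul_cancel_left₀ hs, inv_mul_cancel_left₀ (unit_ne φ hs)]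
      rw [← Module.End.mul_apply, ← map_mul, ← e, map_mul, Module.End.mul_apply,
        show ρ (WW hD φ h3 (sc s w)) (x : V) = χ' (sc s w) • (x : V) from
          congrArg Subtype.val ((mem_eig _ _).1 hx _), map_smul]
    · exact hx0 (Subtype.ext (rep_injective ρ _ ((congrArg Subtype.val h).trans (map_zero _).symm)))
  have hinj : Set.InjOn (fun s => χ'.compAddMonoidHom (sc s)) (Finset.univ.erase (0 : FX φ) : Finset (FX φ)) := by
    intro s _ s' _ h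
    by_contra hne'
    have hss : s - s' ≠ 0 := sub_ne_zero.2 hne'
    apply hχ'c
    set c : SW φ := ((b₁, 0, 0, 0) : SW φ) with hc
    have h1 := DFunLike.congr_fun h (sc (s - s')⁻¹ c)
    simp only [AddChar.compAddMonoidHom_apply] at h1
    have e : sc s (sc (s - s')⁻¹ c) = sc s' (sc (s - s')⁻¹ c) + c := by
      simp only [sc, hc, AddMonoidHom.mk'_apply, mul_zero, Prod.mk_add_mk, add_zero, Prod.mk.injEq, and_true]
      field_simp
      ring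
    rw [e, AddChar.map_add_eq_mul] at h1
    exact mul_left_cancel₀ (AddChar.val_isUnit χ' _).ne_zero (h1.trans (mul_one _).symm)
  calc q - 1 = (Finset.univ.erase (0 : FX φ)).card := by
        rw [Finset.card_erase_of_mem (Finset.mem_univ _), Finset.card_univ, hFq]
    _ = ((Finset.univ.erase (0 : FX φ)).image fun s => χ'.compAddMonoidHom (sc s)).card :=
        (Finset.card_image_of_injOn hinj).symm
    _ ≤ ∑ χ'' ∈ (Finset.univ.erase (0 : FX φ)).image fun s => χ'.compAddMonoidHom (sc s),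
          finrank ℂ (eig ρE Multiplicative.ofAdd χ'') := by
        rw [Finset.card_eq_sum_ones]
        refine Finset.sum_le_sum fun χ'' h => ?_
        obtain ⟨s, hs, rfl⟩ := Finset.mem_image.1 h
        exact Submodule.one_le_finrank_iff.2 (hocc s (Finset.ne_of_mem_erase hs))
    _ ≤ _ := by
        refine (Finset.sum_le_univ_sum_of_nonneg fun _ => Nat.zero_le _).trans (le_of_eq ?_)
        exact sum_finrank_eig ρE Multiplicative.ofAdd ofAdd_hom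

/-- The characters of the abelian part occurring in ρ. -/
def Occ (ψ : AddChar (FX φ) ℂ) (p : AD φ) : Prop := eig ρ (AA hD φ h3) (chiA φ h3 ψ p) ≠ ⊥

omit hφ hK hq hψ hv0 hv in
theorem Occ.move (g : ↥(ctxD4 hD φ).G0) (σ : AD φ → AD φ) (hσ : Function.Surjective σ)
    (hg : ∀ c, g * AA hD φ h3 c = AA hD φ h3 (σ c) * g) {p p' : AD φ}
    (hpp : ∀ c, chiA φ h3 ψ p' (σ c) = chiA φ h3 ψ p c) (hp : Occ hD h3 ρ ψ p) : Occ hD h3 ρ ψ p' := by
  intro h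
  obtain ⟨x, hx, hx0⟩ := (Submodule.ne_bot_iff _).1 hp
  have := mapsTo_eig ρ _ hσ hg hpp hx
  rw [h, Submodule.mem_bot] at this
  exact hx0 (rep_injective ρ g (this.trans (map_zero _).symm))

theorem occ_low {p : AD φ} (hpz : p.2.2 = 0) (hpe : p.2.1 ≠ 0) : Occ hD h3 ρ ψ p := by
  classical
  let : Fintype (FX φ) := Fintype.ofFinite _
  have hA := AA_add hD φ h3
  obtain ⟨p₁, hp₁z, hp₁e, hp₁⟩ : ∃ p₁ : AD φ, p₁.2.2 = 0 ∧ p₁.2.1 ≠ 0 ∧ Occ hD h3 ρ ψ p₁ := by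
    obtain ⟨u, hu⟩ := exists_fval_ne φ hφ hK hq (β := 1) (γ := γ) (δ := δ) (ε := (ε : K)) (Or.inl one_ne_zero)
    have hu' : fF h3 γ δ ε u ≠ 0 := fun h => hu (by rw [← coe_fF h3, h]; rfl)
    have hx0 : ρ (GM hD φ h3 u)⁻¹ v ≠ 0 := fun h => hv0 (rep_injective ρ _ (h.trans (map_zero _).symm))
    obtain ⟨χA, hχA⟩ := exists_proj_ne ρ _ hA hx0
    obtain ⟨p₁, rfl⟩ := (chiA_bijective φ hφ hK hq hψ).2 χA
    have he : ∀ e, chiA φ h3 ψ p₁ (0, e, 0) = ψ (fF h3 γ δ ε u * e) := fun e =>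
      eq_of_proj_ne ρ _ hA (hv.shift hD h3 ρ u e) hχA
    have hz : ∀ z, chiA φ h3 ψ p₁ (0, 0, z) = 1 := fun z => eq_of_proj_ne ρ _ hA
      (by rw [one_smul]; exact (mem_RR hD h3 ρ).1 (GM_RR hD h3 ρ u (hv.mem_RR' hD h3 ρ)) z) hχA
    have h1 : p₁.2.1 = fF h3 γ δ ε u := chiF_injective φ hφ hK hq hψ (DFunLike.ext _ _ fun e => by
      simpa [chiA_apply, chiF_apply] using he e)
    have h2 : p₁.2.2 = 0 := chiF_injective φ hφ hK hq hψ (DFunLike.ext _ _ fun z => by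
      simpa [chiA_apply, chiF_apply] using hz z)
    refine ⟨p₁, h2, h1 ▸ hu', fun h => hχA ?_⟩
    have := (isProj_proj ρ _ hA (chiA φ h3 ψ p₁)).map_mem (ρ (GM hD φ h3 u)⁻¹ v)
    rw [h, Submodule.mem_bot] at this
    exact this
  set s := p.2.1 / p₁.2.1 with hs
  have hs0 : s ≠ 0 := div_ne_zero hpe hp₁e
  have h1 : Occ hD h3 ρ ψ ((s : K) * p₁.1, p.2.1, 0) := by
    refine Occ.move hD h3 ρ (TS hD φ s⁻¹ (inv_ne_zero hs0))
      (fun c => (((s⁻¹ : FX φ) : K) * c.1, s⁻¹ * c.2.1, (s⁻¹) ^ 2 * c.2.2))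
      (fun c => ⟨((s : K) * c.1, s * c.2.1, s ^ 2 * c.2.2), ?_⟩) (fun c => ?_) (fun c => ?_) hp₁
    · refine Prod.ext ?_ (Prod.ext ?_ ?_)
      · show ((s⁻¹ : FX φ) : K) * ((s : K) * c.1) = c.1
        rw [← mul_assoc, ← Subfield.coe_mul, inv_mul_cancel₀ hs0, Subfield.coe_one, one_mul]
      · simp [hs0]
      · simp [hs0]
    · simp [AA, TS_mul]
    · simp only [chiA_apply, hp₁z, zero_mul, add_zero]
      congr 1
      rw [show (s : K) * p₁.1 * (((s⁻¹ : FX φ) : K) * c.1) = ((s * s⁻¹ : FX φ) : K) * (p₁.1 * c.1) by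
        rw [Subfield.coe_mul]; ring, mul_inv_cancel₀ hs0, Subfield.coe_one, one_mul, hs]
      field_simp
  set u : K := (p.1 - (s : K) * p₁.1) / (p.2.1 : K) with hu
  obtain ⟨cz, hcz⟩ := GP_AA hD φ h3 u
  refine Occ.move hD h3 ρ (GP hD φ h3 u) (fun c => (c.1, c.2.1 - trF φ h3 (u * c.1), c.2.2 + cz c.1))
    (fun c => ⟨(c.1, c.2.1 + trF φ h3 (u * c.1), c.2.2 - cz c.1), by simp⟩) hcz (fun c => ?_) h1
  simp only [chiA_apply, hpz, zero_mul, add_zero]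
  congr 1
  have hpe' := unit_ne φ hpe
  rw [show p.1 * c.1 = (s : K) * p₁.1 * c.1 + (p.2.1 : K) * (u * c.1) by rw [hu]; field_simp; ring,
    map_add, trF_smul φ h3, mul_sub]
  abel

include hfree in
omit hv0 hv in
theorem occ_high {p : AD φ} (hp : p.2.2 ≠ 0) : Occ hD h3 ρ ψ p := by
  classical
  let : Fintype (FX φ) := Fintype.ofFinite _
  obtain ⟨p₂, hp₂z, hp₂⟩ : ∃ p₂ : AD φ, p₂.2.2 ≠ 0 ∧ Occ hD h3 ρ ψ p₂ := by
    obtain ⟨x, hx⟩ : ∃ x, ρ (AA hD φ h3 (0, 0, 1)) x ≠ x := by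
      by_contra hc
      push Not at hc
      exact hfree _ (ZZ_ne_one hD φ h3 one_ne_zero) (LinearMap.ext hc)
    obtain ⟨χA, hχA, hne'⟩ := exists_char_of_moves ρ _ (AA_add hD φ h3) hx
    obtain ⟨p₂, rfl⟩ := (chiA_bijective φ hφ hK hq hψ).2 χA
    exact ⟨p₂, fun h => hχA (by simp [chiA_apply, h]), hne'⟩
  set s := p₂.2.2 / p.2.2 with hs
  have hs0 : s ≠ 0 := div_ne_zero hp₂z hp
  have h1 : Occ hD h3 ρ ψ (p₂.1, s * p₂.2.1, p.2.2) := by
    refine Occ.move hD h3 ρ (TH hD φ s hs0) (fun c => (c.1, s⁻¹ * c.2.1, s * c.2.2))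
      (fun c => ⟨(c.1, s * c.2.1, s⁻¹ * c.2.2), by simp [hs0]⟩) (fun c => ?_) (fun c => ?_) hp₂
    · simp [AA, TH_mul]
    · simp only [chiA_apply]
      congr 1
      rw [hs]
      field_simp
  set b : FX φ := (s * p₂.2.1 - p.2.1) / p.2.2 with hb
  set w : K := (p₂.1 - p.1) / (p.2.2 : K) with hw
  refine Occ.move hD h3 ρ (NN hD φ h3 b (φ (φ w)) 0 0 0)
    (fun c => (c.1, c.2.1, c.2.2 + b * c.2.1 + trF φ h3 (w * c.1)))
    (fun c => ⟨(c.1, c.2.1, c.2.2 - b * c.2.1 - trF φ h3 (w * c.1)),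
      Prod.ext rfl (Prod.ext rfl (by simp only; ring))⟩)
    (shift_AA hD φ h3 b w) (fun c => ?_) h1
  simp only [chiA_apply]
  congr 1
  have hp' := unit_ne φ hp
  rw [show p₂.1 * c.1 = p.1 * c.1 + (p.2.2 : K) * (w * c.1) by rw [hw]; field_simp; ring,
    map_add, trF_smul φ h3, hb]
  field_simp
  ring

include hfree in
/-- Counting the characters of the abelian part. -/
theorem count_aux : (q - 1) * (q ^ 4 + q ^ 3 + 1) ≤ finrank ℂ V := by
  classical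
  let : Fintype (FX φ) := Fintype.ofFinite _
  have hFq : Fintype.card (FX φ) = q := by rw [Fintype.card_eq_nat_card, natCard_FX φ hφ hK hq]
  have hA := AA_add hD φ h3
  let d : AD φ → ℕ := fun p => finrank ℂ (eig ρ (AA hD φ h3) (chiA φ h3 ψ p))
  have hsum : ∑ p, d p = finrank ℂ V := by
    rw [← sum_finrank_eig ρ _ hA]
    exact Fintype.sum_equiv (Equiv.ofBijective _ (chiA_bijective φ hφ hK hq hψ)) _ _ fun p => rfl
  let S₃ : Finset (AD φ) := Finset.univ.filter fun p => p.2.2 = 0 ∧ p.2.1 = 0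
  have h₃ : q - 1 ≤ ∑ p ∈ S₃, d p := by
    refine (le_finrank_RE hD h3 ρ hφ hK hq hψ hv0 hv).trans
      ((finrank_le_sum ρ _ hA (RE hD h3 ρ) (S₃.image (chiA φ h3 ψ)) ?_).trans (le_of_eq ?_))
    · intro x hx χA hne'
      obtain ⟨p, rfl⟩ := (chiA_bijective φ hφ hK hq hψ).2 χA
      obtain ⟨hxR, hxE⟩ := (mem_RE hD h3 ρ).1 hx
      refine Finset.mem_image_of_mem _ (Finset.mem_filter.2 ⟨Finset.mem_univ _, ?_, ?_⟩)
      · refine chiF_injective φ hφ hK hq hψ (DFunLike.ext _ _ fun z => ?_)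
        have := eq_of_proj_ne ρ _ hA (d := ((0, 0, z) : AD φ)) (a := 1)
          (by rw [one_smul]; exact (mem_RR hD h3 ρ).1 hxR z) hne'
        simpa [chiA_apply, chiF_apply] using this
      · refine chiF_injective φ hφ hK hq hψ (DFunLike.ext _ _ fun z => ?_)
        have := eq_of_proj_ne ρ _ hA (d := ((0, z, 0) : AD φ)) (a := 1) (by rw [one_smul]; exact hxE z) hne'
        simpa [chiA_apply, chiF_apply] using this
    · exact Finset.sum_image fun a _ b _ h => (chiA_bijective φ hφ hK hq hψ).1 h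
  let S₂ : Finset (AD φ) := Finset.univ.filter fun p => ¬ (p.2.2 = 0 ∧ p.2.1 = 0)
  have h₂ : q ^ 3 * (q * q - 1) ≤ ∑ p ∈ S₂, d p := by
    have hcard : S₂.card = q ^ 3 * (q * q - 1) := by
      rw [show S₂ = Finset.univ ×ˢ (Finset.univ.erase ((0, 0) : FX φ × FX φ)) by
        ext ⟨a, b, c⟩; simp [S₂]; tauto,
        Finset.card_product, Finset.card_erase_of_mem (Finset.mem_univ _), Finset.card_univ, Finset.card_univ,
        Fintype.card_prod, hFq, hK]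
    rw [← hcard, Finset.card_eq_sum_ones]
    refine Finset.sum_le_sum fun p hp => Submodule.one_le_finrank_iff.2 ?_
    by_cases hz : p.2.2 = 0
    · exact occ_low hD h3 ρ hφ hK hq hψ hv0 hv hz fun he => (Finset.mem_filter.1 hp).2 ⟨hz, he⟩
    · exact occ_high hD h3 ρ hφ hK hq hfree hψ hz
  have hsplit := Finset.sum_filter_add_sum_filter_not Finset.univ (fun p : AD φ => p.2.2 = 0 ∧ p.2.1 = 0) d
  have e : (q - 1) * (q ^ 4 + q ^ 3 + 1) = (q - 1) + q ^ 3 * (q * q - 1) := by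
    obtain ⟨r, rfl⟩ : ∃ r, q = r + 1 := ⟨q - 1, by omega⟩
    rw [show (r + 1) * (r + 1) - 1 = r * r + 2 * r by
        rw [show (r + 1) * (r + 1) = r * r + 2 * r + 1 by ring]; omega,
      Nat.add_sub_cancel]
    ring
  rw [e, ← hsum, ← hsplit]
  exact Nat.add_le_add h₃ h₂

omit hψ hv0 hv in
/-- **Counting characters.** -/
theorem char_count (hsimp : IsSimpleGroup ↥(ctxD4 hD φ).G0) (hne : ∃ g, ρ g ≠ 1) :
    (q - 1) * (q ^ 4 + q ^ 3 + 1) ≤ finrank ℂ V := by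
  have hfree : ∀ g, g ≠ 1 → ρ g ≠ 1 := by
    intro g hg h
    obtain ⟨x, hx⟩ := hne
    rcases IsSimpleGroup.eq_bot_or_eq_top_of_normal ρ.ker inferInstance with hk | hk
    · exact hg (Subgroup.mem_bot.1 (hk ▸ show g ∈ ρ.ker from h))
    · exact hx (show x ∈ ρ.ker from hk ▸ Subgroup.mem_top x)
  obtain ⟨ψ, γ, δ, ε, v, hψ, hv0, hv⟩ := exists_isEV hD (phi3 φ hφ hK) ρ hφ hK hq hfree
  exact count_aux hD _ ρ hφ hK hq hfree hψ hv0 hv

omit hψ hv0 hv in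
/-- **Lower bound for the degree of an irreducible representation.** -/
theorem degree_bound (hsimp : IsSimpleGroup ↥(ctxD4 hD φ).G0)
    (hcard : Nat.card ↥(ctxD4 hD φ).G0 = q ^ 12 * (q ^ 2 - 1) * (q ^ 6 - 1) * (q ^ 8 + q ^ 4 + 1))
    [ρ.IsIrreducible] (hne : ∃ g, ρ g ≠ 1) :
    q * (q ^ 4 - q ^ 2 + 1) ≤ finrank ℂ V := by
  have h := char_count hD ρ hφ hK hq hsimp hne
  have hdvd := Char.degree_dvd_card ρ
  rw [hcard] at hdvd
  have hne' : finrank ℂ V ≠ (q - 1) * (q ^ 4 + q ^ 3 + 1) := fun h' => not_dvd_order hq (h' ▸ hdvd)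
  have e : q * (q ^ 4 - q ^ 2 + 1) = (q - 1) * (q ^ 4 + q ^ 3 + 1) + 1 := by
    obtain ⟨r, rfl⟩ : ∃ r, q = r + 1 := ⟨q - 1, by omega⟩
    rw [show (r + 1) ^ 4 - (r + 1) ^ 2 = (r + 1) ^ 2 * (r * r + 2 * r) by
      rw [Nat.sub_eq_iff_eq_add (Nat.pow_le_pow_right (by omega) (by norm_num))]; ring,
      Nat.add_sub_cancel]
    ring
  omega

end Cfsg.Agent.TwistE6D4.D4Heis
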