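import Cfsg.Agent.Lib.TwistE6D4.D4Levi
import Mathlib.Analysis.Fourier.FiniteAbelian.PontryaginDuality
import Mathlib.Algebra.Polynomial.Roots
import Cfsg.Agent.EqLemmas

/-!
# The fixed field, its characters, and the cubic of the Levi orbit

* `FX`, `trF`          : the fixed field and the trace to it.
* `chiA`, `chiK`, `chiF` : the characters.
* `exists_fval_ne`, `exists_fval_zero` : values of the cubic.
-/

set_option autoImplicit false
set_option linter.unusedSectionVars false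
set_option linter.unusedSimpArgs false

namespace Cfsg.Agent.TwistE6D4.D4Heis

open Polynomial

variable {K : Type*} [Field K] (φ : K →+* K)

/-- The fixed field. -/
abbrev FX : Type _ := ↥(RingHom.eqLocusField φ (RingHom.id K))

theorem FX.fix (x : FX φ) : φ (x : K) = x := x.2

/-- The cubic. -/
def fval (β γ δ ε u : K) : K := ε - tr φ (δ * u) - tr φ (γ * (u * φ u)) - β * (u * φ u * φ (φ u))

/-- The trace to the fixed field. -/
def trF (h3 : ∀ t, φ (φ (φ t)) = t) : K →+ FX φ :=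
  AddMonoidHom.mk' (fun x => ⟨tr φ x, tr_phi φ h3 x⟩) fun x y => Subtype.ext (tr_add φ x y)

theorem coe_trF (h3 : ∀ t, φ (φ (φ t)) = t) (x : K) : ((trF φ h3 x : FX φ) : K) = tr φ x := rfl

theorem trF_smul (h3 : ∀ t, φ (φ (φ t)) = t) (s : FX φ) (x : K) : trF φ h3 ((s : K) * x) = s * trF φ h3 x :=
  Subtype.ext (tr_mul_fix φ (FX.fix φ s) x)

/-- The cubic as a polynomial. -/
noncomputable def fpoly (q : ℕ) (β γ δ ε : K) : K[X] :=
  C ε - (C δ * X + C (φ δ) * X ^ q + C (φ (φ δ)) * X ^ (q ^ 2)) -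
    (C γ * X ^ (q + 1) + C (φ γ) * X ^ (q ^ 2 + q) + C (φ (φ γ)) * X ^ (q ^ 2 + 1)) -
    C β * X ^ (q ^ 2 + q + 1)

/-- The characters of the fixed field. -/
noncomputable def chiF (ψ : AddChar (FX φ) ℂ) (β : FX φ) : AddChar (FX φ) ℂ := ψ.mulShift β

theorem chiF_apply (ψ : AddChar (FX φ) ℂ) (β t : FX φ) : chiF φ ψ β t = ψ (β * t) := rfl

/-- The characters of the big field. -/
noncomputable def chiK (h3 : ∀ t, φ (φ (φ t)) = t) (ψ : AddChar (FX φ) ℂ) (δ : K) : AddChar K ℂ :=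
  ψ.compAddMonoidHom ((trF φ h3).comp (AddMonoidHom.mulLeft δ))

theorem chiK_apply (h3 : ∀ t, φ (φ (φ t)) = t) (ψ : AddChar (FX φ) ℂ) (δ t : K) :
    chiK φ h3 ψ δ t = ψ (trF φ h3 (δ * t)) := rfl

/-- The characters of the abelian part d, e, z. -/
noncomputable def chiA (h3 : ∀ t, φ (φ (φ t)) = t) (ψ : AddChar (FX φ) ℂ) (p : K × FX φ × FX φ) :
    AddChar (K × FX φ × FX φ) ℂ :=
  ψ.compAddMonoidHom (AddMonoidHom.mk'
    (fun w : K × FX φ × FX φ => trF φ h3 (p.1 * w.1) + p.2.1 * w.2.1 + p.2.2 * w.2.2) fun a b => by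
      simp only [Prod.fst_add, Prod.snd_add, mul_add, map_add]; abel)

theorem chiA_apply (h3 : ∀ t, φ (φ (φ t)) = t) (ψ : AddChar (FX φ) ℂ) (p w : K × FX φ × FX φ) :
    chiA φ h3 ψ p w = ψ (trF φ h3 (p.1 * w.1) + p.2.1 * w.2.1 + p.2.2 * w.2.2) := rfl

variable [Fintype K] {q : ℕ} (hφ : ∀ t, φ t = t ^ q) (hK : Fintype.card K = q ^ 3) (hq : 1 < q)
include hφ hK

theorem phi3 (t : K) : φ (φ (φ t)) = t := by
  simp only [hφ, ← pow_mul]
  rw [show q * q * q = q ^ 3 by ring, ← hK, FiniteField.pow_card]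

include hq

theorem natCard_FX : Nat.card (FX φ) = q := by
  refine Eq.trans ?_ (card_powFixed K (Q := q) (m := 3) hK)
  exact Nat.card_congr (Equiv.subtypeEquivRight fun t => by
    show φ t = t ↔ t ^ q = t
    rw [hφ])

theorem eval_fpoly (β γ δ ε u : K) : (fpoly φ q β γ δ ε).eval u = fval φ β γ δ ε u := by
  have h1 : u ^ q = φ u := (hφ u).symm
  have h2 : u ^ (q ^ 2) = φ (φ u) := by rw [pow_two, pow_mul, h1, hφ (φ u)]
  simp only [fpoly, eval_sub, eval_add, eval_mul, eval_C, eval_X, eval_pow, fval, tr, map_mul, pow_add, pow_one,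
    h1, h2, phi3 φ hφ hK]
  ring

theorem natDegree_fpoly_le (β γ δ ε : K) : (fpoly φ q β γ δ ε).natDegree ≤ q ^ 2 + q + 1 := by
  have h2 : q ≤ q ^ 2 := Nat.le_self_pow two_ne_zero q
  have t : ∀ (a : K) (i : ℕ), i ≤ q ^ 2 + q + 1 → (C a * X ^ i).natDegree ≤ q ^ 2 + q + 1 := fun a i h =>
    (natDegree_C_mul_X_pow_le a i).trans h
  refine (natDegree_sub_le _ _).trans (max_le ((natDegree_sub_le _ _).trans (max_le
    ((natDegree_sub_le _ _).trans (max_le ((natDegree_C ε).trans_le (Nat.zero_le _)) ?_)) ?_)) (t β _ le_rfl))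
  · refine (natDegree_add_le _ _).trans (max_le ((natDegree_add_le _ _).trans (max_le ?_ (t _ _ (by omega))))
      (t _ _ (by omega)))
    simpa using t δ 1 (by omega)
  · exact (natDegree_add_le _ _).trans (max_le ((natDegree_add_le _ _).trans
      (max_le (t _ _ (by omega)) (t _ _ (by omega)))) (t _ _ (by omega)))

theorem exists_fval_ne {β γ δ ε : K} (h : β ≠ 0 ∨ γ ≠ 0 ∨ δ ≠ 0 ∨ ε ≠ 0) :
    ∃ u, fval φ β γ δ ε u ≠ 0 := by
  by_contra hc
  push Not at hc
  have hqq : 2 * q ≤ q ^ 2 := by rw [pow_two]; exact Nat.mul_le_mul_right q hq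
  have hlt : q ^ 2 + q + 1 < q ^ 3 := by
    have : 2 * q ^ 2 ≤ q ^ 3 := by rw [pow_succ' q 2]; exact Nat.mul_le_mul_right _ hq
    omega
  have h0 : fpoly φ q β γ δ ε = 0 :=
    eq_zero_of_natDegree_lt_card_of_eval_eq_zero' _ Finset.univ
      (fun u _ => by rw [eval_fpoly φ hφ hK hq]; exact hc u)
      (lt_of_le_of_lt (natDegree_fpoly_le φ hφ hK hq β γ δ ε) (by rwa [Finset.card_univ, hK]))
  have hco : ∀ i, (fpoly φ q β γ δ ε).coeff i = 0 := fun i => by rw [h0, coeff_zero]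
  simp only [fpoly, coeff_sub, coeff_add, coeff_C_mul, coeff_X, coeff_X_pow, coeff_C, mul_ite, mul_one,
    mul_zero] at hco
  have hb := hco (q ^ 2 + q + 1)
  have hg := hco (q + 1)
  have hd := hco 1
  have he := hco 0
  simp (discharger := omega) only [if_pos, if_neg, add_zero, zero_add, sub_zero, zero_sub, neg_eq_zero] at hb hg hd he
  tauto

theorem exists_fval_zero {β γ δ ε : K} (hβ : β ≠ 0) (hfix : ∀ u, φ (fval φ β γ δ ε u) = fval φ β γ δ ε u) :
    ∃ u, fval φ β γ δ ε u = 0 := by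
  by_contra hc
  push Not at hc
  set P := fpoly φ q β γ δ ε with hP
  have hdeg : P.natDegree = q ^ 2 + q + 1 := by
    refine le_antisymm (natDegree_fpoly_le φ hφ hK hq β γ δ ε) (le_natDegree_of_ne_zero ?_)
    have h2 : q ≤ q ^ 2 := Nat.le_self_pow two_ne_zero q
    simp only [hP, fpoly, coeff_sub, coeff_add, coeff_C_mul, coeff_X, coeff_X_pow, coeff_C, mul_ite, mul_one,
      mul_zero]
    simp (discharger := omega) only [if_pos, if_neg, add_zero, zero_add, sub_zero, zero_sub, neg_eq_zero, ne_eq]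
    exact hβ
  obtain ⟨r, rfl⟩ : ∃ r, q = r + 1 := ⟨q - 1, by omega⟩
  have hone : ∀ u, (P ^ r - 1).eval u = 0 := fun u => by
    have h := hfix u
    rw [hφ, pow_succ, mul_eq_right₀ (hc u)] at h
    rw [eval_sub, eval_pow, eval_one, hP, eval_fpoly φ hφ hK hq, h, sub_self]
  have hd2 : (P ^ r - 1).natDegree = r * ((r + 1) ^ 2 + (r + 1) + 1) := by
    rw [← C_1, natDegree_sub_C, natDegree_pow, hdeg]
  have hlt : r * ((r + 1) ^ 2 + (r + 1) + 1) + 1 = (r + 1) ^ 3 := by ring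
  have h0 := eq_zero_of_natDegree_lt_card_of_eval_eq_zero' _ Finset.univ (fun u _ => hone u)
    (by rw [hd2, Finset.card_univ, hK]; omega)
  rw [h0, natDegree_zero] at hd2
  rcases Nat.mul_eq_zero.1 hd2.symm with h | h
  · omega
  · simp at h

theorem exists_trF_ne : ∃ x, trF φ (phi3 φ hφ hK) x ≠ 0 := by
  obtain ⟨u, hu⟩ := exists_fval_ne φ hφ hK hq (β := 0) (γ := 0) (δ := 1) (ε := 0)
    (Or.inr (Or.inr (Or.inl one_ne_zero)))
  refine ⟨u, fun h => hu ?_⟩
  simp only [fval, one_mul, zero_mul, zero_sub, sub_zero, tr_zero]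
  rw [← coe_trF φ (phi3 φ hφ hK), h, ZeroMemClass.coe_zero, neg_zero]

/-! ### Characters -/

theorem chiF_injective {ψ : AddChar (FX φ) ℂ} (hψ : ψ ≠ 1) : Function.Injective (chiF φ ψ) :=
  AddChar.to_mulShift_inj_of_isPrimitive (AddChar.IsPrimitive.of_ne_one hψ)

theorem chiF_bijective {ψ : AddChar (FX φ) ℂ} (hψ : ψ ≠ 1) : Function.Bijective (chiF φ ψ) := by
  classical
  letI : Fintype (FX φ) := Fintype.ofFinite _
  exact (Fintype.bijective_iff_injective_and_card _).2 ⟨chiF_injective φ hφ hK hq hψ, AddChar.card_eq.symm⟩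

theorem chiK_bijective {ψ : AddChar (FX φ) ℂ} (hψ : ψ ≠ 1) : Function.Bijective (chiK φ (phi3 φ hφ hK) ψ) := by
  classical
  refine (Fintype.bijective_iff_injective_and_card _).2 ⟨fun a b h => ?_, AddChar.card_eq.symm⟩
  by_contra hne
  obtain ⟨x, hx⟩ := exists_trF_ne φ hφ hK hq
  have key : chiF φ ψ (trF φ (phi3 φ hφ hK) x) = chiF φ ψ 0 := by
    refine DFunLike.ext _ _ fun s => ?_
    have e : a - b ≠ 0 := sub_ne_zero.2 hne
    have h1 := DFunLike.congr_fun h ((s : K) * x / (a - b))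
    rw [chiK_apply, chiK_apply] at h1
    rw [chiF_apply, chiF_apply, zero_mul, mul_comm, ← trF_smul φ (phi3 φ hφ hK),
      show ((s : K) * x) = a * ((s : K) * x / (a - b)) - b * ((s : K) * x / (a - b)) by field_simp,
      map_sub, sub_eq_add_neg, AddChar.map_add_eq_mul, h1, ← AddChar.map_add_eq_mul, add_neg_cancel]
  exact hx (chiF_injective φ hφ hK hq hψ key)

theorem chiA_bijective {ψ : AddChar (FX φ) ℂ} (hψ : ψ ≠ 1) : Function.Bijective (chiA φ (phi3 φ hφ hK) ψ) := by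
  classical
  letI : Fintype (FX φ) := Fintype.ofFinite _
  refine (Fintype.bijective_iff_injective_and_card _).2 ⟨fun p p' h => ?_, AddChar.card_eq.symm⟩
  refine Prod.ext ((chiK_bijective φ hφ hK hq hψ).1 (DFunLike.ext _ _ fun u => ?_))
    (Prod.ext (chiF_injective φ hφ hK hq hψ (DFunLike.ext _ _ fun u => ?_))
      (chiF_injective φ hφ hK hq hψ (DFunLike.ext _ _ fun u => ?_)))
  · have := DFunLike.congr_fun h (u, 0, 0); simpa [chiA_apply, chiK_apply] using this
  · have := DFunLike.congr_fun h (0, u, 0); simpa [chiA_apply, chiF_apply] using this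
  · have := DFunLike.congr_fun h (0, 0, u); simpa [chiA_apply, chiF_apply] using this

end Cfsg.Agent.TwistE6D4.D4Heis
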