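import Cfsg.Agent.Lib.TwistE6D4.D4Involutions
import Cfsg.Agent.Lib.TwistE6D4.Weyl
import Cfsg.Agent.Lib.RGD.NormalForm
import Cfsg.Agent.EqLemmas

/-!
# The torus of ³D₄ and centralisers of its elements

* `tor u c`: the symmetric parameters; `tor_mem`, `tor_surj`, `chi_tor`, `chi_values`, `tor_inj`;
* `monomial_mulVec`: representatives of Weyl group elements permute the root vectors up to sign;
* `centralizer_decomp`: the Bruhat factors of an element commuting with a torus element;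
* `exists_word`: twelve words represent the Weyl group.
-/

set_option autoImplicit false
set_option maxRecDepth 100000

namespace Cfsg.Agent.TwistE6D4

open Cfsg.Lie Cfsg.Lie.ChevalleyDatum Cfsg.Agent.Chev Matrix

/-- Conjugation of an orbit element by a torus element. -/
theorem theta_conj_orb {D : ChevalleyDatum} {T : Twist D} (hT : TwistOK T) (hD : Good D) {K : Type*} [Field K]
    (φ : K →+* K) {x : Fin D.rank → Kˣ} (hx : x ∈ TorSym T φ) {r : ℕ} (hr : r ∈ T.reps) (t : K) :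
    theta D K x * orb hD T φ r t * (theta D K x)⁻¹ = orb hD T φ r ((chiX x r : K) * t) := by
  have hrl := (hT.rep_lt r hr).1
  have hit : ∀ i, (chiX x (T.rho^[i] r) : K) = (⇑φ)^[i] (chiX x r : K) := fun i => by
    induction i with
    | zero => rfl
    | succ i ih =>
      rw [Function.iterate_succ_apply', Function.iterate_succ_apply', ← ih, chiX_rho hT hx (hT.iter_lt hrl i)]
      rfl
  simp only [orb]
  rw [← MulAut.conj_apply, map_list_prod, List.map_map]
  refine congrArg List.prod (List.map_congr_left fun i _ => ?_)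
  rw [Function.comp_apply, MulAut.conj_apply, theta_conj_gx hD x (hT.iter_lt hrl i), cf, cf, hit]
  simp only [← RingHom.coe_pow, map_mul]
  congr 1
  ring

namespace Ctx

variable {D : ChevalleyDatum} {K : Type*} [Field K] (C : Ctx D K)

theorem ng_list_mulVec {ι : Type*} (e : ι → ℕ) (he : ∀ k, e k < D.nroots) :
    ∀ (L : List ι) {s : ℕ}, s < D.nroots → wL D (L.map e) s < D.nroots ∧ ∃ z : ℤ, (z = 1 ∨ z = -1) ∧
      ((L.map fun k => ChevBN.ng C.hD K (e k) 1).prod : GL D.Idx K).1 *ᵥ ev D K s =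
        (z : K) • ev D K (wL D (L.map e) s)
  | [], s, hs => ⟨hs, 1, Or.inl rfl, by simp [wL]⟩
  | k :: L, s, hs => by
    obtain ⟨h1, z, hz, e1⟩ := ng_list_mulVec e he L hs
    refine ⟨ChevSt.refl_lt C.hD (he k) h1, nSign D (e k) (wL D (L.map e) s) * z, ?_, ?_⟩
    · rcases (ChevBN.nSign_cases C.hD (he k) h1).1 with h | h <;> rcases hz with rfl | rfl <;> simp [h]
    · rw [List.map_cons, List.prod_cons, Units.val_mul, ← Matrix.mulVec_mulVec, e1, Matrix.mulVec_smul,
        ChevBN.coe_ng, C.hD.n_root (he k) h1 one_ne_zero, smul_smul, _root_.one_zpow, mul_one]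
      simp [wL, mul_comm]

theorem monomial_mulVec : ∀ (l : List (Fin C.m)) {s : ℕ}, s < D.nroots → wW C.T C.node l s < D.nroots ∧
    ∃ z : ℤ, (z = 1 ∨ z = -1) ∧
      (C.rgd.nw l : Matrix D.Idx D.Idx K) *ᵥ ev D K s = (z : K) • ev D K (wW C.T C.node l s)
  | [], s, hs => ⟨hs, 1, Or.inl rfl, by simp [wW]⟩
  | a :: l, s, hs => by
    obtain ⟨h1, z, hz, e1⟩ := monomial_mulVec l hs
    obtain ⟨h2, z', hz', e2⟩ := C.ng_list_mulVec (C.rk a) (C.rk_lt a) (List.range (C.L a)) h1
    refine ⟨h2, z' * z, ?_, ?_⟩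
    · rcases hz with rfl | rfl <;> rcases hz' with rfl | rfl <;> simp
    · rw [C.rgd.nw_cons, Units.val_mul, ← Matrix.mulVec_mulVec, e1, Matrix.mulVec_smul]
      have e3 : (C.rgd.n a : GL D.Idx K) = ((List.range (C.L a)).map fun k => ChevBN.ng C.hD K (C.rk a k) 1).prod := by
        show C.ns a 1 = _
        simp only [ns, oprod, ← RingHom.coe_pow, map_one]
      rw [e3, e2, smul_smul]
      simp only [wW, List.foldr_cons, wF_eq, Int.cast_mul, mul_comm (z : K)]

theorem theta_mulVec (x : Fin D.rank → Kˣ) {s : ℕ} (hs : s < D.nroots) :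
    (theta D K x : Matrix D.Idx D.Idx K) *ᵥ ev D K s = (chiX x s : K) • ev D K s := by
  rw [coe_theta, ChevBN.dg, ev_of_lt D K hs]
  funext c
  rw [Matrix.mulVec_diagonal]
  rcases eq_or_ne c (Sum.inr ⟨s, hs⟩) with rfl | hne
  · simp
  · simp [hne]

/-- A Weyl representative commuting with a torus element preserves its character values. -/
theorem chi_wW {x : Fin D.rank → Kˣ} {l : List (Fin C.m)} (h : theta D K x * C.rgd.nw l = C.rgd.nw l * theta D K x)
    {s : ℕ} (hs : s < D.nroots) : chiX x (wW C.T C.node l s) = chiX x s := by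
  obtain ⟨h1, z, hz, e⟩ := C.monomial_mulVec l hs
  have hz0 : (z : K) ≠ 0 := by rcases hz with rfl | rfl <;> simp
  have e1 := congrArg (fun g : GL D.Idx K => (g : Matrix D.Idx D.Idx K) *ᵥ ev D K s) h
  simp only [Units.val_mul, ← Matrix.mulVec_mulVec, theta_mulVec x hs, Matrix.mulVec_smul, e,
    theta_mulVec x h1, smul_smul] at e1
  have e2 := congrFun e1 (Sum.inr ⟨_, h1⟩)
  simp [ev_of_lt D K h1] at e2
  exact Units.ext (mul_left_cancel₀ hz0 (by rw [e2, mul_comm]))

/-- The Bruhat factors of an element commuting with a torus element. -/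
theorem centralizer_decomp {x : Fin D.rank → Kˣ} (hx : x ∈ TorSym C.T C.φ) {g : GL D.Idx K} (hg : g ∈ C.G0)
    (hc : theta D K x * g = g * theta D K x) :
    ∃ u ∈ C.rgd.Upos, ∃ t ∈ C.H0, ∃ l : List (Fin C.m), ∃ v ∈ C.rgd.Uminus l, g = u * t * C.rgd.nw l * v ∧
      theta D K x * u = u * theta D K x ∧ theta D K x * v = v * theta D K x ∧
      theta D K x * C.rgd.nw l = C.rgd.nw l * theta D K x := by
  set R := C.rgd with hR
  set z := theta D K x
  have hzH : z ∈ R.H := ⟨x, hx, rfl⟩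
  rw [← C.rgd_G] at hg
  obtain ⟨b, hb, l, v, hv, e⟩ := R.exists_normalForm hg
  obtain ⟨u, hu, t, ht, rfl⟩ := R.exists_B hb
  have hcomm : ∀ a ∈ R.H, ∀ a' ∈ R.H, a * a' = a' * a := by
    rintro _ ⟨y, -, rfl⟩ _ ⟨y', -, rfl⟩
    rw [← map_mul, mul_comm y y', map_mul]
  set k := z * R.nw l * z⁻¹ * (R.nw l)⁻¹ with hk
  have hkH : k ∈ R.H := by
    rw [hk, show z * R.nw l * z⁻¹ * (R.nw l)⁻¹ = z * (R.nw l * z⁻¹ * (R.nw l)⁻¹) by group]
    exact mul_mem hzH (R.nw_conj_H l (inv_mem hzH))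
  have hzu : z * u * z⁻¹ ∈ R.Upos := R.H_conj_span _ hzH _ hu
  have hzv : z * v * z⁻¹ ∈ R.Uminus l := R.H_conj_span _ hzH _ hv
  have e1 : u * t * R.nw l * v = (z * u * z⁻¹ * (t * k)) * R.nw l * (z * v * z⁻¹) := by
    have hzg : z * g * z⁻¹ = g := by rw [hc, mul_inv_cancel_right]
    conv_lhs => rw [← e, ← hzg, e]
    rw [show z * (u * t * R.nw l * v) * z⁻¹ = z * u * z⁻¹ * ((z * t * z⁻¹) * (z * R.nw l * z⁻¹)) * (z * v * z⁻¹)
      by group, show z * t * z⁻¹ = t by rw [hcomm z hzH t ht, mul_inv_cancel_right],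
      show z * R.nw l * z⁻¹ = k * R.nw l by rw [hk, inv_mul_cancel_right]]
    group
  obtain ⟨e2, e3⟩ := R.normalForm_unique (one_mem R.H) (one_mul _).symm hb
    (mul_mem (R.Upos_le_B hzu) (R.H_le_B (mul_mem ht hkH))) hv hzv e1
  have e4 : (z * u * z⁻¹)⁻¹ * u = 1 := by
    rw [← Subgroup.mem_bot, ← R.U_inf_H]
    refine Subgroup.mem_inf.2 ⟨mul_mem (inv_mem hzu) hu, ?_⟩
    rw [show (z * u * z⁻¹)⁻¹ * u = (z * u * z⁻¹)⁻¹ * (u * t) * t⁻¹ by group, e2, inv_mul_cancel_left]
    exact mul_mem (mul_mem ht hkH) (inv_mem ht)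
  have e5 : z * u = u * z := mul_inv_eq_iff_eq_mul.1 (inv_mul_eq_one.1 e4)
  have e6 : k = 1 := by
    have : u * t = u * (t * k) := by rw [e2]; congr 1; exact inv_mul_eq_one.1 e4
    simpa using this
  exact ⟨u, hu, t, ht, l, v, hv, e, e5, (mul_inv_eq_iff_eq_mul.1 e3.symm),
    mul_inv_eq_iff_eq_mul.1 (mul_inv_eq_one.1 e6)⟩

end Ctx

namespace D4

variable {K : Type*} [Field K] (hD : Good chevD4) {φ : K →+* K}

local notation "C" => ctxD4 hD φ
local notation "o" => orb hD d4Twist φ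

variable (φ) in
/-- Symmetric parameters on the nodes. -/
def tor (u c : Kˣ) : Fin chevD4.rank → Kˣ :=
  (![u, c, Units.map (φ : K →* K) u, Units.map (φ : K →* K) (Units.map (φ : K →* K) u)] : Fin 4 → Kˣ)

theorem tor_mem (h3 : ∀ t, φ (φ (φ t)) = t) (u : Kˣ) {c : Kˣ} (hc : φ (c : K) = c) :
    tor φ u c ∈ TorSym d4Twist φ := by
  intro i
  show tor φ u c ((![2, 1, 3, 0] : Fin 4 → Fin 4) i) = _
  revert i
  show ∀ i : Fin 4, _
  intro i
  fin_cases i <;> refine Units.ext ?_ <;> simp [tor, hc, h3]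

theorem tor_surj {x : Fin chevD4.rank → Kˣ} (hx : x ∈ TorSym d4Twist φ) :
    ∃ u c : Kˣ, φ (c : K) = c ∧ x = tor φ u c := by
  let y : Fin 4 → Kˣ := x
  have h1 : y 1 = Units.map (φ : K →* K) (y 1) := hx (1 : Fin 4)
  have h2 : y 2 = Units.map (φ : K →* K) (y 0) := hx (0 : Fin 4)
  have h3 : y 3 = Units.map (φ : K →* K) (y 2) := hx (2 : Fin 4)
  refine ⟨y 0, y 1, (congrArg Units.val h1).symm, ?_⟩
  show y = _
  funext i
  fin_cases i
  · rfl
  · rfl
  · exact h2
  · exact h3.trans (by rw [h2]; rfl)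

theorem chi_tor (u c : Kˣ) {r : ℕ} {e : List ℤ} (h : ((List.range 4).map fun i => chevD4.cartan i r) = e) :
    (chiX (tor φ u c) r : K) = (u : K) ^ e.getD 0 0 * (c : K) ^ e.getD 1 0 * φ u ^ e.getD 2 0 *
      φ (φ u) ^ e.getD 3 0 := by
  have h1 : chiX (tor φ u c) r = ∏ i : Fin 4, tor φ u c i ^ chevD4.cartan i.val r := rfl
  subst h
  rw [h1, Fin.prod_univ_four]
  simp [tor, List.range_succ, Units.val_zpow_eq_zpow_val]

theorem cartans : ([18, 14, 15, 19, 17, 22, 23, 6].map fun r => (List.range 4).map fun i => chevD4.cartan i r) =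
    [[2, -1, 0, 0], [-1, 2, -1, -1], [-1, 1, -1, 1], [1, 1, -1, -1], [-1, 0, 1, 1], [1, -1, 1, 1], [0, 1, 0, 0],
      [1, 0, -1, -1]] := by decide +kernel

theorem chi_values (u c : Kˣ) :
    (chiX (tor φ u c) 18 : K) = (u : K) ^ 2 / c ∧
    (chiX (tor φ u c) 14 : K) = (c : K) ^ 2 / (u * φ u * φ (φ u)) ∧
    (chiX (tor φ u c) 15 : K) = c * φ (φ u) / (u * φ u) ∧
    (chiX (tor φ u c) 19 : K) = c * u / (φ u * φ (φ u)) ∧
    (chiX (tor φ u c) 17 : K) = φ u * φ (φ u) / u ∧
    (chiX (tor φ u c) 22 : K) = u * φ u * φ (φ u) / c ∧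
    (chiX (tor φ u c) 23 : K) = c ∧
    (chiX (tor φ u c) 6 : K) = u / (φ u * φ (φ u)) := by
  have h := cartans
  simp only [List.map_cons, List.map_nil, List.cons.injEq, and_true] at h
  obtain ⟨a1, a2, a3, a4, a5, a6, a7, a8⟩ := h
  have hu : (u : K) ≠ 0 := u.ne_zero
  have hc : (c : K) ≠ 0 := c.ne_zero
  have hu1 : φ u ≠ 0 := by simpa using hu
  have hu2 : φ (φ u) ≠ 0 := by simpa using hu
  rw [chi_tor u c a1, chi_tor u c a2, chi_tor u c a3, chi_tor u c a4, chi_tor u c a5, chi_tor u c a6,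
    chi_tor u c a7, chi_tor u c a8]
  simp [_root_.zpow_ofNat, _root_.zpow_neg]
  refine ⟨?_, ?_, ?_, ?_, ?_, ?_, ?_⟩ <;> field_simp

theorem tor_mul (u u' c c' : Kˣ) : tor φ (u * u') (c * c') = tor φ u c * tor φ u' c' := by
  refine funext fun i => ?_
  revert i
  show ∀ i : Fin 4, _
  intro i
  match i with
  | 0 => rfl
  | 1 => rfl
  | 2 => exact map_mul _ u u'
  | 3 => exact (congrArg _ (map_mul _ u u')).trans (map_mul _ _ _)

theorem tor_inj (h3 : ∀ t, φ (φ (φ t)) = t) {u c : Kˣ} (e : theta chevD4 K (tor φ u c) = 1) : u = 1 ∧ c = 1 := by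
  have key : ∀ r < chevD4.nroots, (chiX (tor φ u c) r : K) = 1 := fun r hr => by
    have h1 := Ctx.theta_mulVec (tor φ u c) hr
    rw [e, Units.val_one, Matrix.one_mulVec] at h1
    have := congrFun h1 (Sum.inr ⟨r, hr⟩)
    simpa [ev_of_lt chevD4 K hr] using this.symm
  obtain ⟨v18, -, -, -, -, v22, v23, -⟩ := chi_values (φ := φ) u c
  rw [key 18 (by decide +kernel)] at v18
  rw [key 22 (by decide +kernel)] at v22
  rw [key 23 (by decide +kernel)] at v23
  rw [← v23, div_one] at v18 v22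
  have hu : (u : K) = 1 := by
    rcases sq_eq_one_iff.1 v18.symm with h | h
    · exact h
    · rw [h, map_neg, map_one, map_neg, map_one] at v22
      rw [h]
      linear_combination -v22
  exact ⟨Units.ext hu, Units.ext v23.symm⟩

/-- The twelve words. -/
def words : List (List (Fin 2)) :=
  [[], [0], [1], [0, 1], [1, 0], [0, 1, 0], [1, 0, 1], [0, 1, 0, 1], [1, 0, 1, 0], [0, 1, 0, 1, 0],
    [1, 0, 1, 0, 1], [0, 1, 0, 1, 0, 1]]

theorem words_closed : ∀ w ∈ words, ∀ i : Fin 2, ∃ w' ∈ words, posW d4Twist d4Node (w'.reverse ++ i :: w) := by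
  decide +kernel

theorem exists_word (l : List (Fin 2)) : ∃ w ∈ words, ∃ k ∈ (C).rgd.H, (C).rgd.nw l = k * (C).rgd.nw w := by
  induction l with
  | nil => exact ⟨[], by simp [words], 1, one_mem _, (one_mul _).symm⟩
  | cons i l ih =>
    obtain ⟨w, hw, k, hk, e⟩ := ih
    obtain ⟨w', hw', hp⟩ := words_closed w hw i
    set R := (C).rgd
    have h1 : R.nw (w'.reverse ++ i :: w) ∈ R.H := ((C).nw_mem_H_iff _).2 hp
    obtain ⟨h0, hh0, e0⟩ := R.exists_nw_inv w'
    rw [R.nw_append, R.nw_cons] at h1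
    have h2 : (R.nw w')⁻¹ * (R.n i * R.nw w) ∈ R.H := by
      rw [e0, mul_assoc]
      exact mul_mem hh0 h1
    refine ⟨w', hw', R.n i * k * (R.n i)⁻¹ * (R.nw w' * ((R.nw w')⁻¹ * (R.n i * R.nw w)) * (R.nw w')⁻¹),
      mul_mem ?_ (R.nw_conj_H w' h2), ?_⟩
    · exact R.n_conj_H i k hk
    · rw [R.nw_cons, e]
      group

/-- Leading parameters are unique. -/
theorem lead_inj {r h : ℕ} (hr : r ∈ d4Twist.reps) (hh : 1 ≤ h) (hfr : d4Twist.ht r = h) {t t' : K}
    {g g' : GL chevD4.Idx K} (hg : g ∈ lev hD K d4Twist.ht (C).posSet (h + 1))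
    (hg' : g' ∈ lev hD K d4Twist.ht (C).posSet (h + 1)) (e : o r t * g = o r t' * g') : t = t' := by
  have hrl := (d4Twist_ok.rep_lt r hr).1
  have hrS : r ∈ (C).posSet := ⟨hrl, by show 0 < d4Twist.ht r; omega⟩
  have S := st hD φ
  have hT' := lev_le_Tri (K := K) hD S.lin S.closed hh
  have h1 : ∀ t g, g ∈ lev hD K d4Twist.ht (C).posSet (h + 1) → coef chevD4 r (o r t * g) = t := by
    intro t g hg
    have h2 := S.coef_orb d4Twist_ok hD φ hh hr hr hrS hrS hfr hfr t (i := 0) (d4Twist_ok.rep_lt r hr).2.1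
    rw [Function.iterate_zero_apply, if_pos rfl, cf_zero] at h2
    rw [coef_mul hD S.lin hrl hh hfr (hT' (S.orb_mem_lev d4Twist_ok hD φ hrS hfr.ge t))
      (hT' (lev_anti hD _ _ (Nat.le_succ h) hg)), h2, S.coef_lev_succ hD hrS hfr hh hg, add_zero]
  rw [← h1 t g hg, e, h1 t' g' hg']

/-- The six parameters are unique. -/
theorem six_inj {x y z w v e x' y' z' w' v' e' : K}
    (E : o 18 x * o 14 y * o 15 z * o 17 w * o 22 v * o 23 e =
      o 18 x' * o 14 y' * o 15 z' * o 17 w' * o 22 v' * o 23 e') :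
    x = x' ∧ y = y' ∧ z = z' ∧ w = w' ∧ v = v' ∧ e = e' := by
  have m : ∀ {r h : ℕ}, r ∈ [18, 14, 15, 17, 22, 23] → (h : ℤ) ≤ d4Twist.ht r → ∀ t : K,
      o r t ∈ lev hD K d4Twist.ht (C).posSet h := fun hr hh t => orb_mem_lev' hD φ hr hh t
  simp only [mul_assoc] at E
  have m2 : ∀ z w v e, o 15 z * (o 17 w * (o 22 v * o 23 e)) ∈ lev hD K d4Twist.ht (C).posSet 2 := fun z w v e =>
    mul_mem (m (by simp) (by decide) _) (mul_mem (m (by simp) (by decide) _)
      (mul_mem (m (by simp) (by decide) _) (m (by simp) (by decide) _)))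
  have m3 : ∀ w v e, o 17 w * (o 22 v * o 23 e) ∈ lev hD K d4Twist.ht (C).posSet 3 := fun w v e =>
    mul_mem (m (by simp) (by decide) _) (mul_mem (m (by simp) (by decide) _) (m (by simp) (by decide) _))
  have m4 : ∀ v e, o 22 v * o 23 e ∈ lev hD K d4Twist.ht (C).posSet 4 := fun v e =>
    mul_mem (m (by simp) (by decide) _) (m (by simp) (by decide) _)
  have hx : x = x' := by
    have S := st hD φ
    have hS : 18 ∈ (C).posSet := ⟨by decide +kernel, show 0 < d4Twist.ht 18 by decide⟩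
    have hS14 : 14 ∈ (C).posSet := ⟨by decide +kernel, show 0 < d4Twist.ht 14 by decide⟩
    have hT' := lev_le_Tri (K := K) hD S.lin S.closed (le_refl 1)
    have key : ∀ x y g, g ∈ lev hD K d4Twist.ht (C).posSet 2 → coef chevD4 18 (o 18 x * (o 14 y * g)) = x := by
      intro x y g hg
      have c1 := S.coef_orb d4Twist_ok hD φ (h := 1) le_rfl (q := 18) (r := 18) (by decide) (by decide) hS hS
        (by decide) (by decide) x (i := 0) (by decide)
      have c2 := S.coef_orb d4Twist_ok hD φ (h := 1) le_rfl (q := 18) (r := 14) (by decide) (by decide) hS14 hS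
        (by decide) (by decide) y (i := 0) (by decide)
      rw [Function.iterate_zero_apply, if_pos rfl, cf_zero] at c1
      rw [Function.iterate_zero_apply, if_neg (by decide)] at c2
      have g1 := lev_anti hD d4Twist.ht (C).posSet (show 1 ≤ 2 by norm_num) hg
      rw [coef_mul hD S.lin hS.1 le_rfl (by decide) (hT' (m (by simp) (by decide) _))
          (hT' (mul_mem (m (by simp) (by decide) _) g1)),
        coef_mul hD S.lin hS.1 le_rfl (by decide) (hT' (m (by simp) (by decide) _)) (hT' g1),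
        c1, c2, S.coef_lev_succ hD hS (h := 1) (by decide) le_rfl hg, add_zero, add_zero]
    rw [← key x y _ (m2 z w v e), E, key x' y' _ (m2 z' w' v' e')]
  subst hx
  have E1 := mul_left_cancel E
  have hy : y = y' := lead_inj hD (h := 1) (by decide) le_rfl (by decide) (m2 z w v e) (m2 z' w' v' e') E1
  subst hy
  have E2 := mul_left_cancel E1
  have hz : z = z' := lead_inj hD (h := 2) (by decide) (by norm_num) (by decide) (m3 w v e) (m3 w' v' e') E2
  subst hz
  have E3 := mul_left_cancel E2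
  have hw : w = w' := lead_inj hD (h := 3) (by decide) (by norm_num) (by decide) (m4 v e) (m4 v' e') E3
  subst hw
  have E4 := mul_left_cancel E3
  have hv : v = v' := lead_inj hD (h := 4) (by decide) (by norm_num) (by decide)
    (m (by simp) (by decide) e) (m (by simp) (by decide) e') E4
  subst hv
  exact ⟨rfl, rfl, rfl, rfl, rfl, (C).orb_inj (show 23 ∈ d4Twist.reps by decide) (mul_left_cancel E4)⟩

/-- A positive element commuting with a torus element has no parameters where the character is nontrivial. -/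
theorem pos_centralizer {x : Fin chevD4.rank → Kˣ} (hx : x ∈ TorSym d4Twist φ) {g : GL chevD4.Idx K}
    (hg : g ∈ (C).rgd.Upos) (hc : theta chevD4 K x * g = g * theta chevD4 K x) :
    ∃ a y z w v e, φ y = y ∧ φ v = v ∧ φ e = e ∧ g = o 18 a * o 14 y * o 15 z * o 17 w * o 22 v * o 23 e ∧
      ((chiX x 18 : K) = 1 ∨ a = 0) ∧ ((chiX x 15 : K) = 1 ∨ z = 0) ∧ ((chiX x 17 : K) = 1 ∨ w = 0) ∧
      ((chiX x 22 : K) = 1 ∨ v = 0) ∧ ((chiX x 23 : K) = 1 ∨ e = 0) := by
  obtain ⟨a, y, z, w, v, e, -, hy, -, -, hv, he, rfl⟩ := normal hD φ hg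
  set θ := theta chevD4 K x
  have hcj : θ * (o 18 a * o 14 y * o 15 z * o 17 w * o 22 v * o 23 e) * θ⁻¹ =
      o 18 ((chiX x 18 : K) * a) * o 14 ((chiX x 14 : K) * y) * o 15 ((chiX x 15 : K) * z) *
        o 17 ((chiX x 17 : K) * w) * o 22 ((chiX x 22 : K) * v) * o 23 ((chiX x 23 : K) * e) := by
    simp only [← theta_conj_orb d4Twist_ok hD φ hx (show 18 ∈ d4Twist.reps by decide),
      ← theta_conj_orb d4Twist_ok hD φ hx (show 14 ∈ d4Twist.reps by decide),
      ← theta_conj_orb d4Twist_ok hD φ hx (show 15 ∈ d4Twist.reps by decide),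
      ← theta_conj_orb d4Twist_ok hD φ hx (show 17 ∈ d4Twist.reps by decide),
      ← theta_conj_orb d4Twist_ok hD φ hx (show 22 ∈ d4Twist.reps by decide),
      ← theta_conj_orb d4Twist_ok hD φ hx (show 23 ∈ d4Twist.reps by decide), θ]
    group
  rw [hc, mul_inv_cancel_right] at hcj
  obtain ⟨h1, -, h3, h4, h5, h6⟩ := six_inj hD hcj.symm
  have key : ∀ {c t : K}, c * t = t → c = 1 ∨ t = 0 := fun {c t} h => by
    by_cases ht : t = 0
    · exact Or.inr ht
    · exact Or.inl ((mul_eq_right₀ ht).1 h)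
  exact ⟨a, y, z, w, v, e, hy, hv, he, rfl, key h1, key h3, key h4, key h5, key h6⟩

end D4

end Cfsg.Agent.TwistE6D4
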