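import Cfsg.Agent.Lib.TwistE6D4.D4SubfieldIdent
import Cfsg.Agent.Lib.TwistE6D4.D4TorusBase
import Cfsg.Agent.EqLemmas

/-!
# The subfield subgroup of ³D₄

* `Msub`: the elements with all entries in the fixed field; `orb_mem_M`, `n_mem_M`, `theta_mem_M`, `eq_of_orb_mem`;
* `n_orb_short`, `n_long`: images of orbit elements under the Weyl representatives;
* `central23`, `conj14`, `conj22`: commutation in the unipotent subgroup.
-/

set_option autoImplicit false
set_option maxRecDepth 100000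

namespace Cfsg.Agent.TwistE6D4.D4Sub

open Cfsg.Lie Cfsg.Lie.ChevalleyDatum Cfsg.Agent.Chev Matrix
open Cfsg.Agent.TwistE6D4.D4 (st orb_mem_G0 orb_mem_lev' ns_orb levels tor tor_mem)

variable {K : Type*} [Field K] (hD : Good chevD4) (φ : K →+* K)

local notation "C" => ctxD4 hD φ
local notation "o" => orb hD d4Twist φ

/-- The field homomorphism on matrices. -/
def glMap : GL chevD4.Idx K →* GL chevD4.Idx K :=
  Matrix.GeneralLinearGroup.map φ

/-- The elements with all entries in the fixed field. -/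
def Msub : Subgroup (GL chevD4.Idx K) := (C).G0 ⊓ (glMap φ).eqLocus (MonoidHom.id _)

theorem mem_Msub {g : GL chevD4.Idx K} :
    g ∈ Msub hD φ ↔ g ∈ (C).G0 ∧ ∀ i j, φ ((g : Matrix chevD4.Idx chevD4.Idx K) i j) = g.1 i j := by
  refine ⟨fun h => ⟨h.1, fun i j => ?_⟩, fun h => ⟨h.1, show glMap φ g = g from Units.ext (Matrix.ext h.2)⟩⟩
  exact (Matrix.ext_iff.2 (congrArg Units.val (show glMap φ g = g from h.2))) i j

theorem glMap_gx {r : ℕ} (hr : r < chevD4.nroots) (t : K) :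
    glMap φ (gx hD K r t) = gx hD K r (φ t) := by
  refine Units.ext ?_
  show ((gx hD K r t : GL chevD4.Idx K) : Matrix chevD4.Idx chevD4.Idx K).map φ = _
  rw [coe_gx, coe_gx, x_eq_xR chevD4 hr, x_eq_xR chevD4 hr, xR_map]

theorem glMap_orb {r : ℕ} (hr : r ∈ d4Twist.reps) (t : K) : glMap φ (o r t) = o r (φ t) := by
  simp only [orb]
  rw [map_list_prod, List.map_map]
  refine congrArg List.prod (List.map_congr_left fun i _ => ?_)
  rw [Function.comp_apply, glMap_gx hD φ (d4Twist_ok.iter_lt (d4Twist_ok.rep_lt r hr).1 i), cf, cf,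
    map_mul, map_intCast, ← Function.iterate_succ_apply' φ, Function.iterate_succ_apply]

theorem len_cases : ∀ r ∈ d4Twist.reps, d4Twist.len r = 1 ∨ d4Twist.len r = 3 := by decide +kernel

theorem iter_fixed {t : K} (ht : φ t = t) (n : ℕ) : (⇑φ)^[n] t = t := Function.iterate_fixed ht n

theorem orb_mem_M {r : ℕ} (hr : r ∈ d4Twist.reps) {t : K} (ht : φ t = t) : o r t ∈ Msub hD φ :=
  ⟨orb_mem_G0 hD φ hr (iter_fixed φ ht _), (glMap_orb hD φ hr t).trans (by rw [ht]; rfl)⟩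

theorem eq_of_orb_mem {r : ℕ} (hr : r ∈ d4Twist.reps) {t : K} (h : o r t ∈ Msub hD φ) : φ t = t :=
  (C).orb_inj hr ((glMap_orb hD φ hr t).symm.trans h.2)

theorem n_mem_M (a : Fin 2) : (C).rgd.n a ∈ Msub hD φ := by
  show (C).ns a 1 ∈ _
  rw [(C).ns_eq, (C).op_eq, (C).om_eq]
  exact mul_mem (mul_mem (orb_mem_M hD φ ((C).hR.rep_simple a) (map_one φ))
    (orb_mem_M hD φ ((C).hR.rep_negSimple a).1 (by simp))) (orb_mem_M hD φ ((C).hR.rep_simple a) (map_one φ))

theorem theta_mem_M (h3 : ∀ t, φ (φ (φ t)) = t) {u c : Kˣ} (hu : φ (u : K) = u) (hc : φ (c : K) = c) :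
    theta chevD4 K (tor φ u c) ∈ Msub hD φ := by
  refine (mem_Msub hD φ).2 ⟨(C).theta_mem_G0 (tor_mem h3 u hc), ?_⟩
  have hx : ∀ i, φ ((tor φ u c i : Kˣ) : K) = (tor φ u c i : K) := by
    show ∀ i : Fin 4, _
    intro i
    fin_cases i <;> simp [tor, hu, hc]
  have hchi : ∀ r, φ (chiX (tor φ u c) r : K) = (chiX (tor φ u c) r : K) := fun r => by
    simp only [chiX, Units.coe_prod, map_prod, Units.val_zpow_eq_zpow_val, map_zpow₀, hx]
  intro i j
  rw [coe_theta, ChevBN.dg]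
  rcases eq_or_ne i j with rfl | hne
  · rcases i with k | ⟨r, hr⟩
    · simp
    · simp [hchi]
  · simp [Matrix.diagonal_apply_ne _ hne]

/-! ### Images under the Weyl representatives -/

theorem ng_list_one {ι : Type*} (e : ι → ℕ) (he : ∀ k, e k < chevD4.nroots) : ∀ (L : List ι) {s : ℕ},
    s < chevD4.nroots → ∀ u : K, wL chevD4 (L.map e) s < chevD4.nroots ∧ ∃ z : K, (z = 1 ∨ z = -1) ∧
      (L.map fun k => ChevBN.ng hD K (e k) 1).prod * gx hD K s u * ((L.map fun k => ChevBN.ng hD K (e k) 1).prod)⁻¹ =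
        gx hD K (wL chevD4 (L.map e) s) (z * u)
  | [], s, hs, u => ⟨hs, 1, Or.inl rfl, by simp [wL]⟩
  | k :: L, s, hs, u => by
    obtain ⟨h1, z, hz, hv⟩ := ng_list_one e he L hs u
    refine ⟨ChevSt.refl_lt hD (he k) h1, (nSign chevD4 (e k) (wL chevD4 (L.map e) s) : K) * z, ?_, ?_⟩
    · rcases (ChevBN.nSign_cases hD (he k) h1).1 with h | h <;> rcases hz with rfl | rfl <;> simp [h]
    · simp only [List.map_cons, List.prod_cons, _root_.mul_inv_rev]
      rw [show ∀ n P t : GL chevD4.Idx K, n * P * t * (P⁻¹ * n⁻¹) = n * (P * t * P⁻¹) * n⁻¹ from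
        fun n P t => by group, hv, mul_inv_eq_iff_eq_mul]
      refine Units.ext ?_
      rw [Units.val_mul, Units.val_mul, ChevBN.coe_ng, coe_gx, coe_gx,
        ChevSt.nMat_conj hD (he k) h1 one_ne_zero, _root_.one_zpow, mul_one, mul_assoc]
      rfl

theorem n_gx (a : Fin 2) {s : ℕ} (hs : s < chevD4.nroots) (u : K) :
    ∃ z : K, (z = 1 ∨ z = -1) ∧
      (C).rgd.n a * gx hD K s u * ((C).rgd.n a)⁻¹ = gx hD K (wF d4Twist (d4Node a) s) (z * u) := by
  obtain ⟨-, z, hz, h⟩ := ng_list_one hD ((C).rk a) ((C).rk_lt a) (List.range ((C).L a)) hs u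
  refine ⟨z, hz, ?_⟩
  have e : (C).rgd.n a = ((List.range ((C).L a)).map fun k => ChevBN.ng hD K ((C).rk a k) 1).prod := by
    show (C).ns a 1 = _
    simp only [Ctx.ns, Ctx.oprod, ← RingHom.coe_pow, map_one]
  rw [e, h, (C).wF_eq]

/-- The table for the images of the short orbits. -/
theorem short_table : ∀ e ∈ ([((1 : Fin 2), 18, 15, 2), (0, 15, 17, 1)] : List (Fin 2 × ℕ × ℕ × ℕ)),
    e.2.1 ∈ d4Twist.reps ∧ e.2.2.1 ∈ d4Twist.reps ∧ e.2.2.1 < chevD4.nroots ∧ 1 ≤ d4Twist.ht e.2.2.1 ∧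
      d4Twist.len e.2.1 = 3 ∧ d4Twist.len e.2.2.1 = 3 ∧ e.2.2.2 < 3 ∧
      wF d4Twist (d4Node e.1) (d4Twist.rho^[e.2.2.2] e.2.1) = e.2.2.1 ∧
      ∀ i < 3, wF d4Twist (d4Node e.1) (d4Twist.rho^[i] e.2.1) < chevD4.nroots ∧
        d4Twist.ht (wF d4Twist (d4Node e.1) (d4Twist.rho^[i] e.2.1)) = d4Twist.ht e.2.2.1 ∧
        (∃ k < 3, d4Twist.rho^[k] e.2.2.1 = wF d4Twist (d4Node e.1) (d4Twist.rho^[i] e.2.1)) ∧
        (wF d4Twist (d4Node e.1) (d4Twist.rho^[i] e.2.1) = e.2.2.1 → i = e.2.2.2) := by decide +kernel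

/-- The parameter of the image of a short orbit element. -/
theorem n_orb_short {a : Fin 2} {r r' j : ℕ} (h : (a, r, r', j) ∈ [((1 : Fin 2), 18, 15, 2), (0, 15, 17, 1)])
    (h3 : ∀ t, φ (φ (φ t)) = t) (t : K) :
    ∃ z : K, (z = 1 ∨ z = -1) ∧ (C).rgd.n a * o r t * ((C).rgd.n a)⁻¹ = o r' (z * (⇑φ)^[j] t) := by
  obtain ⟨hr, hr', hr'l, hht, hlr, hlr', hj, hwj, htab⟩ := short_table _ h
  simp only at hr hr' hr'l hht hlr hlr' hj hwj htab
  have hrl := (d4Twist_ok.rep_lt r hr).1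
  obtain ⟨t', -, e⟩ := ns_orb hD φ a hr ⟨hr', by
    obtain ⟨-, -, ⟨k, hk, hk'⟩, -⟩ := htab 0 (by norm_num)
    exact ⟨k, by rw [hlr']; exact hk, hk'⟩⟩ (t := t) (by rw [hlr]; exact h3 t)
  choose z hz hze using fun i => n_gx hD φ a (d4Twist_ok.iter_lt hrl i) (cf d4Twist φ r t i)
  have e' : (C).rgd.n a * o r t * ((C).rgd.n a)⁻¹ = ((List.range 3).map fun i =>
      gx hD K (wF d4Twist (d4Node a) (d4Twist.rho^[i] r)) (z i * cf d4Twist φ r t i)).prod := by
    rw [orb, hlr, ← MulAut.conj_apply, map_list_prod, List.map_map]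
    exact congrArg List.prod (List.map_congr_left fun i _ => hze i)
  obtain ⟨hn, hh⟩ : ∃ hn : ℕ, d4Twist.ht r' = hn :=
    ⟨(d4Twist.ht r').toNat, (Int.toNat_of_nonneg (by omega)).symm⟩
  have hn1 : 1 ≤ hn := by omega
  have hrS : r' ∈ (C).posSet := ⟨hr'l, by show 0 < d4Twist.ht r'; omega⟩
  have S := st hD φ
  have c1 : coef chevD4 r' (o r' t') = t' := by
    have h2 := S.coef_orb d4Twist_ok hD φ hn1 hr' hr' hrS hrS hh hh t' (i := 0)
      (d4Twist_ok.rep_lt r' hr').2.1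
    rwa [Function.iterate_zero_apply, if_pos rfl, cf_zero] at h2
  have c2 : coef chevD4 r' ((List.range 3).map fun i =>
      gx hD K (wF d4Twist (d4Node a) (d4Twist.rho^[i] r)) (z i * cf d4Twist φ r t i)).prod =
      z j * cf d4Twist φ r t j := by
    have hin : ∀ i < 3, wF d4Twist (d4Node a) (d4Twist.rho^[i] r) ∈ (C).posSet ∧
        d4Twist.ht (wF d4Twist (d4Node a) (d4Twist.rho^[i] r)) = hn := fun i hi => by
      obtain ⟨h1, h2, -, -⟩ := htab i hi
      exact ⟨⟨h1, by show 0 < d4Twist.ht _; omega⟩, by omega⟩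
    rw [S.coef_list_prod hD hn1 hrS hh _ _ fun i hi =>
      gx_mem_lev hD (hin i (List.mem_range.1 hi)).1 (hin i (List.mem_range.1 hi)).2.ge _,
      ← List.sum_toFinset _ List.nodup_range, List.toFinset_range, Finset.sum_eq_single j]
    · rw [coef_gx hD S.lin hr'l (htab j hj).1 (by omega) (by rw [(htab j hj).2.1]), if_pos hwj]
    · intro i hi hij
      rw [Finset.mem_range] at hi
      rw [coef_gx hD S.lin hr'l (htab i hi).1 (by omega) (by rw [(htab i hi).2.1]),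
        if_neg fun e => hij ((htab i hi).2.2.2 e)]
    · intro h'; exact absurd (Finset.mem_range.2 hj) h'
  rw [← e', e, c1] at c2
  refine ⟨z j * (esgn d4Twist r j : K), ?_, ?_⟩
  · have he : (esgn d4Twist r j : ℤ) = 1 ∨ esgn d4Twist r j = -1 := by
      simp only [List.mem_cons, List.not_mem_nil, or_false, Prod.mk.injEq] at h
      rcases h with ⟨-, rfl, -, rfl⟩ | ⟨-, rfl, -, rfl⟩ <;> decide +kernel
    rcases he with h | h <;> rcases hz j with h' | h' <;> simp [h, h']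
  · rw [e, c2, cf, mul_assoc]

/-- The table for the images of the long orbits. -/
theorem long_table : ∀ e ∈ ([((1 : Fin 2), 23, 22), (1, 22, 23), (1, 14, 9), (0, 23, 23), (0, 22, 14), (0, 14, 22),
      (0, 9, 1)] : List (Fin 2 × ℕ × ℕ)), e.2.1 ∈ d4Twist.reps ∧ e.2.2 ∈ d4Twist.reps ∧
      d4Twist.len e.2.1 = 1 ∧ d4Twist.len e.2.2 = 1 ∧ 0 < d4Twist.len e.2.2 ∧
      d4Twist.rho^[0] e.2.2 = wF d4Twist (d4Node e.1) e.2.1 := by decide +kernel

theorem n_long {a : Fin 2} {r r' : ℕ} (h : (a, r, r') ∈ [((1 : Fin 2), 23, 22), (1, 22, 23), (1, 14, 9), (0, 23, 23),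
    (0, 22, 14), (0, 14, 22), (0, 9, 1)]) {e : K} (he : φ e = e) (he0 : e ≠ 0) :
    ∃ e' : K, φ e' = e' ∧ e' ≠ 0 ∧ (C).rgd.n a * o r e * ((C).rgd.n a)⁻¹ = o r' e' := by
  obtain ⟨hr, hr', hl, hl', hpos, hw⟩ := long_table _ h
  simp only at hr hr' hl hl' hpos hw
  obtain ⟨e', he', e1⟩ := ns_orb hD φ a hr ⟨hr', 0, hpos, hw⟩ (t := e) (by rw [hl]; exact he)
  rw [hl'] at he'
  refine ⟨e', he', fun h0 => he0 ?_, e1⟩
  rw [h0, (C).orb_zero, conj_eq_one_iff] at e1
  exact (C).orb_eq_one_iff hr e1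

/-! ### Commutation in the unipotent subgroup -/

theorem commute_orb {r s : ℕ} (hr : r ∈ d4Twist.reps) (hs : s ∈ d4Twist.reps)
    (h : ∀ i < d4Twist.len r, ∀ j < d4Twist.len s,
      d4Twist.rho^[j] s ≠ d4Twist.rho^[i] r ∧ d4Twist.rho^[j] s ≠ chevD4.neg (d4Twist.rho^[i] r) ∧
        chevD4.commTerms (d4Twist.rho^[i] r) (d4Twist.rho^[j] s) = []) (t u : K) :
    Commute (o r t) (o s u) := by
  refine Commute.list_prod_left _ _ fun x hx => Commute.list_prod_right _ _ fun y hy => ?_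
  obtain ⟨i, hi, rfl⟩ := List.mem_map.1 hx
  obtain ⟨j, hj, rfl⟩ := List.mem_map.1 hy
  obtain ⟨h1, h2, h3⟩ := h i (List.mem_range.1 hi) j (List.mem_range.1 hj)
  have e := ChevCentralizer.xg_pass hD (d4Twist_ok.iter_lt (d4Twist_ok.rep_lt r hr).1 i)
    (d4Twist_ok.iter_lt (d4Twist_ok.rep_lt s hs).1 j) h1 h2 (cf d4Twist φ r t i) (cf d4Twist φ s u j)
  simp [ChevalleyDatum.commWord, h3] at e
  exact e.symm

theorem pos_tables : (∀ r ∈ d4Twist.reps, 0 < d4Twist.ht r → r ∈ [18, 14, 15, 17, 22, 23]) ∧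
    (∀ e ∈ [(18, 23), (14, 23), (15, 23), (17, 23), (22, 23), (15, 14), (17, 14), (18, 22), (15, 22), (17, 22)],
      e.1 ∈ d4Twist.reps ∧ e.2 ∈ d4Twist.reps ∧ ∀ i < d4Twist.len e.1, ∀ j < d4Twist.len e.2,
        d4Twist.rho^[j] e.2 ≠ d4Twist.rho^[i] e.1 ∧ d4Twist.rho^[j] e.2 ≠ chevD4.neg (d4Twist.rho^[i] e.1) ∧
          chevD4.commTerms (d4Twist.rho^[i] e.1) (d4Twist.rho^[j] e.2) = []) := by decide +kernel

theorem commute_pair {r s : ℕ} (h : (r, s) ∈ [(18, 23), (14, 23), (15, 23), (17, 23), (22, 23), (15, 14), (17, 14),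
    (18, 22), (15, 22), (17, 22)]) (t u : K) : Commute (o r t) (o s u) :=
  commute_orb hD φ (pos_tables.2 _ h).1 (pos_tables.2 _ h).2.1 (pos_tables.2 _ h).2.2 t u

theorem commute_self {r : ℕ} (hr : r ∈ d4Twist.reps) (t u : K) : Commute (o r t) (o r u) := by
  show _ * _ = _ * _
  rw [← (C).orb_add hr, ← (C).orb_add hr, add_comm]

/-- A root subgroup element of a positive orbit. -/
theorem mem_U_pos {r : (C).Orb} (hr : (C).rgd.pos r) {y : GL chevD4.Idx K} (hy : y ∈ (C).rgd.U r) :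
    r.1 ∈ [18, 14, 15, 17, 22, 23] ∧ ∃ t, (⇑φ)^[d4Twist.len r.1] t = t ∧ y = o r.1 t :=
  ⟨pos_tables.1 _ r.2 hr, (C).mem_Uo r.2 hy⟩

theorem central23 {g : GL chevD4.Idx K} (hg : g ∈ (C).rgd.Upos) (e : K) : Commute g (o 23 e) := by
  have : (C).rgd.Upos ≤ Subgroup.centralizer {o 23 e} := (C).rgd.span_le fun r hr y hy => by
    obtain ⟨hr', t, -, rfl⟩ := mem_U_pos hD φ hr hy
    rw [Subgroup.mem_centralizer_singleton_iff]
    simp only [List.mem_cons, List.not_mem_nil, or_false] at hr'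
    rcases hr' with h | h | h | h | h | h <;> rw [h]
    · exact commute_pair hD φ (by simp) t e
    · exact commute_pair hD φ (by simp) t e
    · exact commute_pair hD φ (by simp) t e
    · exact commute_pair hD φ (by simp) t e
    · exact commute_pair hD φ (by simp) t e
    · exact commute_self hD φ (by decide) t e
  exact Subgroup.mem_centralizer_singleton_iff.1 (this hg)

/-- Conjugates of a long element differing from it by a central one. -/
def conjSub (b : ℕ) (e : K) : Subgroup (GL chevD4.Idx K) where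
  carrier := {k | k ∈ (C).rgd.Upos ∧ ∃ f, φ f = f ∧ k * o b e * k⁻¹ = o b e * o 23 f}
  one_mem' := ⟨one_mem _, 0, map_zero φ, by simp [(C).orb_zero]⟩
  mul_mem' := by
    rintro k k' ⟨hk, f, hf, h⟩ ⟨hk', f', hf', h'⟩
    refine ⟨mul_mem hk hk', f + f', by rw [map_add, hf, hf'], ?_⟩
    rw [(C).orb_add (show 23 ∈ d4Twist.reps by decide), ← mul_assoc, ← h,
      show k * k' * o b e * (k * k')⁻¹ = k * (k' * o b e * k'⁻¹) * k⁻¹ by group, h']
    have hc := central23 hD φ (inv_mem hk) f'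
    rw [show k * (o b e * o 23 f') * k⁻¹ = k * o b e * (o 23 f' * k⁻¹) by group, ← hc.eq]
    group
  inv_mem' := by
    rintro k ⟨hk, f, hf, h⟩
    refine ⟨inv_mem hk, -f, by rw [map_neg, hf], ?_⟩
    have hc : Commute k (o 23 (-f)) := central23 hD φ hk (-f)
    have h1 : k * (o b e * o 23 (-f)) * k⁻¹ = o b e := by
      rw [show k * (o b e * o 23 (-f)) * k⁻¹ = k * o b e * (o 23 (-f) * k⁻¹) by group,
        ← (hc.inv_left).eq, ← mul_assoc, h, mul_assoc, ← (C).orb_add (show 23 ∈ d4Twist.reps by decide),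
        add_neg_cancel, (C).orb_zero, mul_one]
    calc k⁻¹ * o b e * k⁻¹⁻¹ = k⁻¹ * (k * (o b e * o 23 (-f)) * k⁻¹) * k := by rw [h1, inv_inv]
      _ = _ := by group

theorem mem_conjSub_of_commute {b : ℕ} {e : K} {k : GL chevD4.Idx K} (hk : k ∈ (C).rgd.Upos)
    (h : Commute k (o b e)) : k ∈ conjSub hD φ b e :=
  ⟨hk, 0, map_zero φ, by rw [h.eq, mul_inv_cancel_right, (C).orb_zero, mul_one]⟩

theorem simple_val : ((C).rgd.simple (0 : Fin 2)).1 = 18 ∧ ((C).rgd.simple (1 : Fin 2)).1 = 14 := by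
  show chevD4.simple (d4Node 0).val = 18 ∧ chevD4.simple (d4Node 1).val = 14
  decide +kernel

theorem conj14 (h3 : ∀ t, φ (φ (φ t)) = t) {e : K} (he : φ e = e) {k : GL chevD4.Idx K}
    (hk : k ∈ (C).rgd.Udel (0 : Fin 2)) : ∃ f, φ f = f ∧ k * o 14 e * k⁻¹ = o 14 e * o 23 f := by
  have : (C).rgd.Udel (0 : Fin 2) ≤ conjSub hD φ 14 e := (C).rgd.span_le fun r hr y hy => by
    obtain ⟨hr', t, ht, rfl⟩ := mem_U_pos hD φ hr.1 hy
    have h18 : r.1 ≠ 18 := fun h => hr.2 (Subtype.ext (h.trans (simple_val hD φ).1.symm))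
    have hU : o r.1 t ∈ (C).rgd.Upos := (C).rgd.U_le_Upos hr.1 hy
    simp only [List.mem_cons, List.not_mem_nil, or_false] at hr'
    rcases hr' with h | h | h | h | h | h
    · exact absurd h h18
    · rw [h] at hU ⊢; exact mem_conjSub_of_commute hD φ hU (commute_self hD φ (by decide) t e)
    · rw [h] at hU ⊢; exact mem_conjSub_of_commute hD φ hU (commute_pair hD φ (by simp) t e)
    · rw [h] at hU ⊢; exact mem_conjSub_of_commute hD φ hU (commute_pair hD φ (by simp) t e)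
    · rw [h] at hU ht ⊢
      have ht' : φ t = t := by simpa [show d4Twist.len 22 = 1 by decide] using ht
      refine ⟨hU, -(e * t), by rw [map_neg, map_mul, he, ht'], ?_⟩
      have h1 := conj_o14_o22 hD h3 he ht'
      have h2 : (o 22 t)⁻¹ = o 22 (-t) := inv_eq_of_mul_eq_one_right (by
        rw [← (C).orb_add (show 22 ∈ d4Twist.reps by decide), add_neg_cancel, (C).orb_zero])
      have h4 := conj_o14_o22 hD h3 (show φ (-e) = -e by rw [map_neg, he]) ht'
      rw [neg_neg] at h4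
      calc o 22 t * o 14 e * (o 22 t)⁻¹
          = o 14 e * (o 14 (-e) * o 22 t * o 14 e) * (o 22 t)⁻¹ := by
            rw [show o 14 (-e) = (o 14 e)⁻¹ from (inv_eq_of_mul_eq_one_right (by
              rw [← (C).orb_add (show 14 ∈ d4Twist.reps by decide), add_neg_cancel, (C).orb_zero])).symm]
            group
        _ = o 14 e * (o 22 t * o 23 (-(e * t)) * (o 22 t)⁻¹) := by rw [h4, neg_mul]; group
        _ = _ := by rw [(central23 hD φ hU (-(e * t))).eq, mul_inv_cancel_right]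
    · rw [h] at hU ⊢; exact mem_conjSub_of_commute hD φ hU ((central23 hD φ
        ((C).rgd.U_le_Upos (show (C).rgd.pos ⟨14, show 14 ∈ d4Twist.reps by decide⟩ by show (0 : ℤ) < d4Twist.ht 14; decide)
          ((C).orb_mem_Uo (show 14 ∈ d4Twist.reps by decide) (iter_fixed φ he _))) t).symm)
  exact (this hk).2

theorem conj22 (h3 : ∀ t, φ (φ (φ t)) = t) {e : K} (he : φ e = e) {k : GL chevD4.Idx K}
    (hk : k ∈ (C).rgd.Upos) : ∃ f, φ f = f ∧ k * o 22 e * k⁻¹ = o 22 e * o 23 f := by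
  have : (C).rgd.Upos ≤ conjSub hD φ 22 e := (C).rgd.span_le fun r hr y hy => by
    obtain ⟨hr', t, ht, rfl⟩ := mem_U_pos hD φ hr hy
    have hU : o r.1 t ∈ (C).rgd.Upos := (C).rgd.U_le_Upos hr hy
    simp only [List.mem_cons, List.not_mem_nil, or_false] at hr'
    rcases hr' with h | h | h | h | h | h
    · rw [h] at hU ⊢; exact mem_conjSub_of_commute hD φ hU (commute_pair hD φ (by simp) t e)
    · rw [h] at hU ht ⊢
      have ht' : φ t = t := by simpa [show d4Twist.len 14 = 1 by decide] using ht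
      refine ⟨hU, t * e, by rw [map_mul, he, ht'], ?_⟩
      rw [← conj_o14_o22 hD h3 ht' he, show (o 14 t)⁻¹ = o 14 (-t) from inv_eq_of_mul_eq_one_right (by
        rw [← (C).orb_add (show 14 ∈ d4Twist.reps by decide), add_neg_cancel, (C).orb_zero])]
    · rw [h] at hU ⊢; exact mem_conjSub_of_commute hD φ hU (commute_pair hD φ (by simp) t e)
    · rw [h] at hU ⊢; exact mem_conjSub_of_commute hD φ hU (commute_pair hD φ (by simp) t e)
    · rw [h] at hU ⊢; exact mem_conjSub_of_commute hD φ hU (commute_self hD φ (by decide) t e)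
    · rw [h] at hU ⊢; exact mem_conjSub_of_commute hD φ hU ((commute_pair hD φ (by simp) e t).symm)
  exact (this hk).2

end Cfsg.Agent.TwistE6D4.D4Sub
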