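import Cfsg.Agent.Lib.TwistE6D4.CollectInt
import Cfsg.Agent.Lib.TwistE6D4.D4Involutions
import Cfsg.Agent.EqLemmas

/-!
# Commutation identities between orbit elements of ³D₄ in any characteristic

`ident` and its instances `conj_o18_o14`, `comm_o18_one`, `comm_neg22_23`, `conj_o14_o22`.
-/

set_option autoImplicit false
set_option maxRecDepth 100000

namespace Cfsg.Agent.TwistE6D4.D4Sub

open Cfsg.Lie Cfsg.Lie.ChevalleyDatum Cfsg.Agent.Chev Cfsg.Agent.TwistE6D4.CollectInt

/-- The action of the field automorphism on variables: three triples, then fixed variables. -/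
def nxt (i : ℕ) : ℕ := if i < 9 then (if i % 3 = 2 then i - 2 else i + 1) else i

/-- The action of the field automorphism on polynomials. -/
def cyc (p : Poly) : Poly := p.foldr (fun m acc => addM m.1 ((m.2.map nxt).foldr insV []) acc) []

/-- An orbit element as a word. -/
def O (e : ℕ × Poly) : List (ℕ × Poly) :=
  (List.range (d4Twist.len e.1)).map fun i =>
    (d4Twist.rho^[i] e.1, pmul [(esgn d4Twist e.1 i, [])] (cyc^[i] e.2))

/-- The order of collection. -/
def key (r : ℕ) : ℕ := (d4Twist.ht r + 10).toNat * 100 + r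

/-- A variable. -/
def var (c : ℤ) (i : ℕ) : Poly := [(c, [i])]

variable {K : Type*} [Field K] (hD : Good chevD4) (φ : K →+* K) {σ : ℕ → K}

omit hD in
theorem evalP_cyc (hσ : ∀ i, σ (nxt i) = φ (σ i)) (p : Poly) : evalP σ (cyc p) = φ (evalP σ p) := by
  induction p with
  | nil => simp [cyc, evalP]
  | cons m p ih =>
    have h2 : ((List.map nxt m.2).map σ).prod = φ (m.2.map σ).prod := by
      rw [map_list_prod, List.map_map, List.map_map]
      exact congrArg List.prod (List.map_congr_left fun i _ => hσ i)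
    rw [cyc, List.foldr_cons, evalP_addM, ← cyc, ih, foldr_insV_prod, h2, List.map_nil, List.prod_nil, mul_one]
    simp [evalP]

theorem evalW_O (hσ : ∀ i, σ (nxt i) = φ (σ i)) (e : ℕ × Poly) :
    evalW hD σ (O e) = orb hD d4Twist φ e.1 (evalP σ e.2) := by
  rw [evalW, O, orb, List.map_map]
  refine congrArg List.prod (List.map_congr_left fun i _ => ?_)
  have key' : ∀ i, evalP σ (cyc^[i] e.2) = (⇑φ)^[i] (evalP σ e.2) := fun i => by
    induction i with
    | zero => rfl
    | succ i ih => rw [Function.iterate_succ_apply', Function.iterate_succ_apply', evalP_cyc φ hσ, ih]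
  simp only [Function.comp_apply, evalE, cf, evalP_pmul, key']
  simp [evalP]

/-- The values of the variables. -/
def env (x z w y v e : K) : ℕ → K := fun i =>
  [x, φ x, φ (φ x), z, φ z, φ (φ z), w, φ w, φ (φ w), y, v, e].getD i 0

theorem env_nxt (h3 : ∀ t, φ (φ (φ t)) = t) {x z w y v e : K} (hy : φ y = y) (hv : φ v = v) (he : φ e = e) :
    ∀ i, env φ x z w y v e (nxt i) = φ (env φ x z w y v e i) := by
  intro i
  by_cases hi : i < 12
  · interval_cases i <;> simp [env, nxt, h3, hy, hv, he]
  · have h0 : env φ x z w y v e i = 0 := List.getD_eq_default _ _ (by simpa using Nat.not_lt.1 hi)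
    rw [nxt, if_neg (by omega), h0, map_zero]

variable {φ} (h3 : ∀ t, φ (φ (φ t)) = t)
include h3

local notation "o" => orb hD d4Twist φ

omit hD in
theorem fix_trace (x : K) : φ (x + φ x + φ (φ x)) = x + φ x + φ (φ x) := by
  simp only [map_add, h3]; ring

omit hD in
theorem fix_norm (x : K) : φ (x * φ x * φ (φ x)) = x * φ x * φ (φ x) := by
  simp only [map_mul, h3]; ring

/-- An identity between products of orbit elements, read off the normal forms. -/
theorem ident {x z w y v e : K} (hy : φ y = y) (hv : φ v = v) (he : φ e = e) (A B : List (ℕ × Poly))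
    (h : norm chevD4 key 64 (A.flatMap O) = norm chevD4 key 64 (B.flatMap O)) :
    (A.map fun p => o p.1 (evalP (env φ x z w y v e) p.2)).prod =
      (B.map fun p => o p.1 (evalP (env φ x z w y v e) p.2)).prod := by
  have hσ := env_nxt φ h3 (x := x) (z := z) (w := w) hy hv he
  have key' : ∀ L : List (ℕ × Poly),
      evalW hD (env φ x z w y v e) (L.flatMap O) = (L.map fun p => o p.1 (evalP (env φ x z w y v e) p.2)).prod := by
    intro L
    induction L with
    | nil => rfl
    | cons p L ih =>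
      rw [List.flatMap_cons, evalW_append, evalW_O hD φ hσ, ih, List.map_cons, List.prod_cons]
  rw [← key' A, ← key' B]
  exact evalW_eq hD _ key 64 h

theorem conj_o18_o14 (x : K) {y : K} (hy : φ y = y) :
    o 18 x * o 14 y * o 18 (-x) = o 14 y * o 15 (φ (φ x) * y) * o 17 (φ x * φ (φ x) * y) *
      o 22 (-(x * φ x * φ (φ x) * y)) * o 23 (-(x * φ x * φ (φ x) * y * y)) := by
  have h := ident hD h3 (x := x) (z := 0) (w := 0) hy (map_zero φ) (map_zero φ)
    [(18, var 1 0), (14, var 1 9), (18, var (-1) 0)]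
    [(14, var 1 9), (15, [(1, [2, 9])]), (17, [(1, [1, 2, 9])]), (22, [(-1, [0, 1, 2, 9])]),
      (23, [(-1, [0, 1, 2, 9, 9])])] (by decide +kernel)
  simpa [env, evalP, var, mul_assoc] using h

theorem comm_o18_one (z w : K) {v e : K} (hv : φ v = v) (he : φ e = e) :
    ∃ P Q : K, φ P = P ∧ φ Q = Q ∧
      o 18 1 * (o 15 z * o 17 w * o 22 v * o 23 e) * o 18 (-1) * (o 15 z * o 17 w * o 22 v * o 23 e)⁻¹ =
        o 17 (z + φ (φ z)) * o 22 P * o 23 Q := by
  have h := ident hD h3 (x := (1 : K)) (z := z) (w := w) (map_zero φ) hv he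
    [(18, var 1 0), (15, var 1 3), (17, var 1 6), (22, var 1 10), (23, var 1 11), (18, var (-1) 0),
      (23, var (-1) 11), (22, var (-1) 10), (17, var (-1) 6), (15, var (-1) 3)]
    [(17, [(1, [1, 3]), (1, [2, 5])]),
      (22, [(-1, [0, 1, 3]), (-1, [0, 2, 5]), (-1, [0, 6]), (-1, [1, 2, 4]), (-1, [1, 7]), (-1, [2, 8])]),
      (23, [(1, [0, 3, 5]), (1, [1, 3, 4]), (1, [2, 4, 5])])] (by decide +kernel)
  refine ⟨-(z + φ (φ z) + w + φ z + φ w + φ (φ w)), z * φ (φ z) + (z * φ z + φ z * φ (φ z)), ?_, ?_, ?_⟩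
  · simp only [map_neg, map_add, h3]; ring
  · simp only [map_add, map_mul, h3]; ring
  · have hrep : ∀ r ∈ [15, 17, 22, 23], r ∈ d4Twist.reps := by decide
    have hinv : ∀ r ∈ [15, 17, 22, 23], ∀ t, (o r t)⁻¹ = o r (-t) := fun r hr t =>
      inv_eq_of_mul_eq_one_right (by rw [← (ctxD4 hD φ).orb_add (hrep r hr), add_neg_cancel]; exact (ctxD4 hD φ).orb_zero r)
    simp only [_root_.mul_inv_rev, hinv 15 (by simp), hinv 17 (by simp), hinv 22 (by simp), hinv 23 (by simp)]
    simp [env, evalP, var, mul_assoc] at h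
    simp only [mul_assoc]
    convert h using 4
    · congr 1; ring
    all_goals ring

theorem comm_neg22_23 {a b : K} (ha : φ a = a) (hb : φ b = b) :
    o 1 a * o 23 b * o 1 (-a) * o 23 (-b) = o 14 (-(a * b)) := by
  have h := ident hD h3 (x := (0 : K)) (z := 0) (w := 0) ha hb (map_zero φ)
    [(1, var 1 9), (23, var 1 10), (1, var (-1) 9), (23, var (-1) 10)] [(14, [(-1, [9, 10])])] (by decide +kernel)
  simpa [env, evalP, var, mul_assoc] using h

theorem conj_o14_o22 {y v : K} (hy : φ y = y) (hv : φ v = v) :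
    o 14 y * o 22 v * o 14 (-y) = o 22 v * o 23 (y * v) := by
  have h := ident hD h3 (x := (0 : K)) (z := 0) (w := 0) hy hv (map_zero φ)
    [(14, var 1 9), (22, var 1 10), (14, var (-1) 9)] [(22, var 1 10), (23, [(1, [9, 10])])] (by decide +kernel)
  simpa [env, evalP, var, mul_assoc] using h

end Cfsg.Agent.TwistE6D4.D4Sub
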