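import Cfsg.Agent.Lib.TwistE6D4.D4TorusTwo
import Cfsg.Agent.Lib.TwistE6D4.Count
import Mathlib.FieldTheory.Finite.Extension
import Mathlib.Data.ZMod.Units
import Cfsg.Agent.EqLemmas

/-!
# A cyclic self-centralising subgroup of order (q³ - 1)(q + 1) of ³D₄(q)

* `exists_singer`: a Singer cycle of GL₂ over a finite field and its centraliser;
* `exists_self_centralizing_cyclic`: the subgroup, the image of the pairs (Singer cycle, generator).
-/

set_option autoImplicit false
set_option maxRecDepth 100000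

namespace Cfsg.Agent.TwistE6D4.D4

open Cfsg.Lie Cfsg.Lie.ChevalleyDatum Cfsg.Agent.Chev Matrix
open Cfsg.Agent.Chev.RankOne (sl2Hom slX slW)
open scoped MatrixGroups

/-- A Singer cycle of GL₂. -/
theorem exists_singer (F : Type*) [Field F] [Finite F] : ∃ M : GL (Fin 2) F,
    orderOf M = Nat.card F ^ 2 - 1 ∧ orderOf (Matrix.GeneralLinearGroup.det M) = Nat.card F - 1 ∧
    ((M ^ (Nat.card F + 1) : GL (Fin 2) F) : Matrix (Fin 2) (Fin 2) F) =
      (M : Matrix (Fin 2) (Fin 2) F).det • 1 ∧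
    ∀ A : GL (Fin 2) F, Commute A M → ∃ k : ℕ, A = M ^ k := by
  obtain ⟨p, hp⟩ := CharP.exists F
  haveI : Fact p.Prime := ⟨CharP.char_is_prime F p⟩
  set E := FiniteField.Extension F p 2
  let b : Module.Basis (Fin 2) F E := Module.finBasisOfFinrankEq F E (FiniteField.finrank_extension F p 2)
  let ι : E →ₐ[F] Matrix (Fin 2) (Fin 2) F := Algebra.leftMulMatrix b
  have hι : Function.Injective ι := Algebra.leftMulMatrix_injective b
  obtain ⟨ω, hω⟩ := IsCyclic.exists_generator (α := Eˣ)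
  set q := Nat.card F with hqdef
  have hq : 1 < q := Finite.one_lt_card
  have hcE : Nat.card E = q ^ 2 := FiniteField.natCard_extension F p 2
  have hω' : orderOf ω = q ^ 2 - 1 := by
    rw [orderOf_eq_card_of_forall_mem_zpowers hω, Nat.card_units, hcE]
  let M : GL (Fin 2) F := Units.map (ι : E →* Matrix (Fin 2) (Fin 2) F) ω
  have hM : orderOf M = q ^ 2 - 1 := by
    rw [← hω']
    exact orderOf_injective (Units.map (ι : E →* Matrix (Fin 2) (Fin 2) F))
      (Units.map_injective hι) ω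
  have hdiv : (q ^ 2 - 1) / (q - 1) = q + 1 := by
    rw [show q ^ 2 - 1 = (q + 1) * (q - 1) by
      have := Nat.sq_sub_sq q 1; simpa using this, Nat.mul_div_cancel _ (by omega)]
  have hdet : algebraMap F E (M : Matrix (Fin 2) (Fin 2) F).det = ((ω ^ (q + 1) : Eˣ) : E) := by
    show algebraMap F E (ι (ω : E)).det = _
    rw [← Algebra.norm_eq_matrix_det b, FiniteField.algebraMap_norm_eq_pow, hcE, hdiv, Units.val_pow_eq_pow_val]
  refine ⟨M, hM, ?_, ?_, ?_⟩
  · have e : Units.map (algebraMap F E : F →* E) (Matrix.GeneralLinearGroup.det M) = ω ^ (q + 1) :=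
      Units.ext (by simpa using hdet)
    rw [← orderOf_injective (Units.map (algebraMap F E : F →* E))
      (Units.map_injective (algebraMap F E).injective), e, orderOf_pow_of_dvd (by omega), hω']
    · exact Nat.div_eq_of_eq_mul_left (by omega) (by
        have := Nat.sq_sub_sq q 1; simp only [one_pow] at this; rw [this, mul_comm])
    · rw [hω']
      exact ⟨q - 1, by have := Nat.sq_sub_sq q 1; simpa using this⟩
  · have e : ((M ^ (q + 1) : GL (Fin 2) F) : Matrix (Fin 2) (Fin 2) F) = ι ((ω ^ (q + 1) : Eˣ) : E) := by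
      rw [Units.val_pow_eq_pow_val, Units.val_pow_eq_pow_val, map_pow]
      rfl
    rw [e, ← hdet, AlgHom.commutes, Algebra.algebraMap_eq_smul_one]
  · intro A hA
    have hcomm : ∀ x : E, (A : Matrix (Fin 2) (Fin 2) F) * ι x = ι x * A := by
      intro x
      rcases eq_or_ne x 0 with rfl | hx
      · simp
      · obtain ⟨k, hk⟩ := (Subgroup.mem_zpowers_iff).1 (hω (Units.mk0 x hx))
        have h := congrArg Units.val ((hA.zpow_right k).eq)
        have e : ((M ^ k : GL (Fin 2) F) : Matrix (Fin 2) (Fin 2) F) = ι x := by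
          rw [show M ^ k = Units.map (ι : E →* Matrix (Fin 2) (Fin 2) F) (ω ^ k) from (map_zpow _ _ _).symm, hk]
          rfl
        rwa [Units.val_mul, Units.val_mul, e] at h
    set y : E := b.equivFun.symm ((A : Matrix (Fin 2) (Fin 2) F) *ᵥ b.equivFun 1)
    have hAy : (A : Matrix (Fin 2) (Fin 2) F) = ι y := by
      refine Matrix.toLin'.injective (LinearMap.ext fun v => ?_)
      obtain ⟨x, rfl⟩ := b.equivFun.surjective v
      rw [Matrix.toLin'_apply, Matrix.toLin'_apply]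
      have h1 : ∀ z w : E, ι z *ᵥ b.equivFun w = b.equivFun (z * w) := fun z w => by
        simp only [Module.Basis.equivFun_apply]
        exact Algebra.leftMulMatrix_mulVec_repr b z w
      have hy : (A : Matrix (Fin 2) (Fin 2) F) *ᵥ b.equivFun 1 = b.equivFun y := by
        simp only [y, LinearEquiv.apply_symm_apply]
      calc (A : Matrix (Fin 2) (Fin 2) F) *ᵥ b.equivFun x = ((A : Matrix (Fin 2) (Fin 2) F) * ι x) *ᵥ b.equivFun 1 := by
            rw [← Matrix.mulVec_mulVec, h1, mul_one]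
        _ = _ := by rw [hcomm, ← Matrix.mulVec_mulVec, hy, h1, h1, mul_comm]
    have hy0 : y ≠ 0 := fun h => A.ne_zero (by rw [hAy, h, map_zero])
    obtain ⟨k, hk⟩ := (mem_powers_iff_mem_zpowers.2 (hω (Units.mk0 y hy0)))
    refine ⟨k, Units.ext ?_⟩
    show (A : Matrix (Fin 2) (Fin 2) F) = _
    rw [hAy, show y = ((ω ^ k : Eˣ) : E) by rw [show ω ^ k = Units.mk0 y hy0 from hk]; rfl,
      Units.val_pow_eq_pow_val, Units.val_pow_eq_pow_val, map_pow]
    rfl

variable {K : Type*} [Field K] [Fintype K] {φ : K →+* K} {q : ℕ}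

theorem cube_id (hφ : ∀ t, φ t = t ^ q) (hK : Fintype.card K = q ^ 3) : ∀ t, φ (φ (φ t)) = t := fun t => by
  rw [hφ, hφ, hφ, ← pow_mul, ← pow_mul, show q * (q * q) = q ^ 3 by ring, ← hK, FiniteField.pow_card]

theorem card_Fq (hφ : ∀ t, φ t = t ^ q) (hK : Fintype.card K = q ^ 3) : Nat.card (Fq φ) = q := by
  refine Eq.trans (Nat.card_congr (Equiv.subtypeEquivRight fun t => ?_)) (card_powFixed K hK)
  rw [mem_Fq, hφ]

theorem nm_eq_pow (hφ : ∀ t, φ t = t ^ q) (u : Kˣ) : nm φ u = u ^ (1 + q + q * q) := by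
  refine Units.ext ?_
  rw [coe_nm, Units.val_pow_eq_pow_val, hφ, hφ, ← pow_mul, pow_add, pow_add, pow_one]

theorem cube_sub_one (hq : 1 < q) : (1 + q + q * q) * (q - 1) = q ^ 3 - 1 := by
  obtain ⟨m, rfl⟩ := Nat.exists_eq_add_of_le hq.le
  rw [Nat.add_sub_cancel_left]
  refine Eq.symm (Nat.sub_eq_of_eq_add ?_)
  ring

/-- A generator with prescribed norm. -/
theorem exists_gen (hφ : ∀ t, φ t = t ^ q) (hK : Fintype.card K = q ^ 3) (hq : 1 < q) (Γ : Kˣ)
    (hΓ : orderOf Γ = q - 1) : ∃ u : Kˣ, nm φ u = Γ ∧ orderOf u = q ^ 3 - 1 := by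
  obtain ⟨g, hg⟩ := IsCyclic.exists_generator (α := Kˣ)
  set n := q ^ 3 - 1
  set c := 1 + q + q * q with hc
  have hcn : c * (q - 1) = n := cube_sub_one hq
  have hc0 : 0 < c := by omega
  have hm0 : 0 < q - 1 := by omega
  haveI : NeZero n := ⟨by rw [← hcn]; exact (Nat.mul_pos hc0 hm0).ne'⟩
  have hog : orderOf g = n := by
    rw [orderOf_eq_card_of_forall_mem_zpowers hg, Nat.card_units, Nat.card_eq_fintype_card, hK]
  obtain ⟨i, hi⟩ := mem_powers_iff_mem_zpowers.2 (hg Γ)
  change g ^ i = Γ at hi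
  have hci : c ∣ i := by
    have h : n ∣ i * (q - 1) := by
      rw [← hog, orderOf_dvd_iff_pow_eq_one, pow_mul, hi, ← hΓ, pow_orderOf_eq_one]
    rw [← hcn] at h
    exact (Nat.mul_dvd_mul_iff_right hm0).1 h
  obtain ⟨j, rfl⟩ := hci
  have hj : j.Coprime (q - 1) := by
    have h1 : orderOf (g ^ c) = q - 1 := by
      rw [orderOf_pow_of_dvd hc0.ne' (by rw [hog, ← hcn]; exact dvd_mul_right _ _), hog, ← hcn,
        Nat.mul_div_cancel_left _ hc0]
    have h2 := orderOf_pow (x := g ^ c) (n := j)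
    rw [← pow_mul, hi, hΓ, h1] at h2
    have h3 : (q - 1).gcd j = 1 := by
      have hd := Nat.gcd_dvd_left (q - 1) j
      have h4 := Nat.div_mul_cancel hd
      rw [← h2] at h4
      exact (Nat.mul_eq_left hm0.ne').1 h4
    rw [Nat.Coprime, Nat.gcd_comm, h3]
  obtain ⟨x, hx⟩ := ZMod.unitsMap_surjective (n := q - 1) (m := n) ⟨c, by rw [← hcn, mul_comm]⟩
    (ZMod.unitOfCoprime j hj)
  set j' := (x : ZMod n).val
  refine ⟨g ^ j', ?_, ?_⟩
  · rw [nm_eq_pow hφ, ← pow_mul, ← hi, pow_eq_pow_iff_modEq, hog, mul_comm j' c, ← hcn]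
    refine Nat.ModEq.mul_left' c ?_
    rw [← ZMod.natCast_eq_natCast_iff]
    have := congrArg Units.val hx
    rw [ZMod.unitsMap_def, Units.coe_map, ZMod.coe_unitOfCoprime] at this
    rw [← this, ZMod.natCast_val]
    rfl
  · rw [Nat.Coprime.orderOf_pow, hog]
    rw [hog]
    exact (ZMod.val_coe_unit_coprime x).symm

variable (hD : Good chevD4)

local notation "C" => ctxD4 hD φ

theorem levi_scalar (h3 : ∀ t, φ (φ (φ t)) = t) {p : Fib φ} {γ : Kˣ} (hγ : φ (γ : K) = γ)
    (hn : (nm φ p.1.2 : K) = (γ : K) ^ 2) {d : Fq φ} (hd : (d : K) = γ)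
    (hp : (p.1.1 : Matrix (Fin 2) (Fin 2) (Fq φ)) = d • 1) :
    levi hD p = theta chevD4 K (tor φ p.1.2 γ) := by
  have hs : slPart p = ⟨!![(γ : K), 0; 0, ((γ : K))⁻¹], by simp⟩ := by
    apply Subtype.ext
    ext i j
    fin_cases i <;> fin_cases j <;> simp [slPart, hp, hd, hn, Units.val_inv_eq_inv_val]
    field_simp
  have e : sl2Hom hD lt14 ⟨!![(γ : K), 0; 0, ((γ : K))⁻¹], by simp⟩ = theta chevD4 K (tor φ 1 γ) := by
    show Chev.RankOne.phi hD (r := 14) _ = _
    rw [theta_tor_one hD]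
    simp [Chev.RankOne.phi, Chev.RankOne.phiE, ChevBN.xg_zero]
  rw [levi_apply, hs, e, ← map_mul, ← tor_mul, mul_one, one_mul]

theorem coprime_exp (hq : 1 < q) : (q * q - q - 1).Coprime (q ^ 3 - 1) := by
  refine Nat.coprime_of_dvd' fun d hd h1 h2 => ?_
  obtain ⟨e, he⟩ : ∃ e, q * q = e + q + 1 ∧ q * q - q - 1 = e := by
    refine ⟨q * q - q - 1, ?_, rfl⟩
    have : 2 * q ≤ q * q := Nat.mul_le_mul_right q hq
    omega
  rw [he.2] at h1
  have h3 : q ^ 3 = q * e + e + 2 * q + 1 := by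
    calc q ^ 3 = q * (q * q) := by ring
      _ = q * (e + q + 1) := by rw [he.1]
      _ = q * e + q * q + q := by ring
      _ = _ := by rw [he.1]; ring
  rw [h3, Nat.add_sub_cancel] at h2
  have h4 : d ∣ 2 * q := (Nat.dvd_add_right (dvd_add (h1.mul_left q) h1)).1 h2
  rcases (hd.dvd_mul).1 h4 with h | h
  · have : d = 2 := (Nat.prime_dvd_prime_iff_eq hd Nat.prime_two).1 h
    subst this
    have h5 : 2 ∣ q * q + q := by
      rw [show q * q + q = q * (q + 1) by ring]
      exact (Nat.even_mul_succ_self q).two_dvd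
    omega
  · have h5 : d ∣ e + q + 1 := he.1 ▸ h.mul_left q
    exact (Nat.dvd_add_right (dvd_add h1 h)).1 h5

theorem central_of_gen (hφ : ∀ t, φ t = t ^ q) (hK : Fintype.card K = q ^ 3) (hq : 1 < q) {u0 γ : Kˣ}
    (hu : nm φ u0 = γ) (ho : orderOf u0 = q ^ 3 - 1) (hfix : φ (γ : K) = γ) (hγ : γ ^ (q - 1) = 1) :
    Central φ q (u0 ^ (q + 1)) γ where
  h3 := cube_id hφ hK
  pow := hφ
  two_le := hq
  fixed := hfix
  norm := by
    rw [← coe_nm, map_pow, hu, ← Units.val_pow_eq_pow_val]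
    congr 1
    rw [show q + 1 = (q - 1) + 2 by omega, pow_add, hγ, one_mul]
  gen k hk0 hk h := by
    set e := q * q - q - 1
    have h2q : 2 * q ≤ q * q := Nat.mul_le_mul_right q hq
    have he : (u0 ^ (q + 1)) ^ 2 * u0 ^ e = γ := by
      rw [← hu, nm_eq_pow hφ, ← pow_mul, ← pow_add]
      congr 1
      omega
    have h1 : (u0 ^ e) ^ k = 1 := by
      refine Units.ext ?_
      have hz : ((u0 ^ (q + 1) : Kˣ) : K) ^ 2 / γ * (u0 ^ e : Kˣ) = 1 := by
        rw [div_mul_eq_mul_div, ← Units.val_pow_eq_pow_val, ← Units.val_mul, he, div_self γ.ne_zero]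
      have := congrArg (· ^ k) hz
      simp only [mul_pow, h, one_mul, one_pow] at this
      simpa using this
    rw [← pow_mul, ← orderOf_dvd_iff_pow_eq_one, ho] at h1
    exact absurd (Nat.le_of_dvd hk0 ((coprime_exp hq).symm.dvd_of_dvd_mul_left h1)) (by omega)

/-- The matrix of order three over two elements. -/
theorem two_cases : ∀ M : Matrix (Fin 2) (Fin 2) (ZMod 2), M * M * M = 1 → M ≠ 1 →
    !![1, 1; 1, 0] = M ∨ !![1, 1; 1, 0] = M * M := by decide +kernel

theorem x0_eq [CharP K 2] {p : Fib φ} (h1 : p.1.2 = 1)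
    (hp : (p.1.1 : Matrix (Fin 2) (Fin 2) (Fq φ)) = !![1, 1; 1, 0]) :
    levi hD p = gx hD K 14 1 * (C).rgd.nw [(1 : Fin 2)] := by
  have hs : slPart p = slX 1 * slW := by
    apply Subtype.ext
    rw [Matrix.SpecialLinearGroup.coe_mul]
    ext i j
    fin_cases i <;> fin_cases j <;>
      simp [slPart, hp, h1, slX, slW, Matrix.mul_apply, Fin.sum_univ_two, CharTwo.neg_eq]
  rw [levi_apply, hs, map_mul, h1, tor_one, one_mul, Chev.RankOne.sl2Hom_slX, nw_one]

include hD in
/-- ³D₄(q) has a self-centralising cyclic subgroup of order (q³ - 1)(q + 1). -/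
theorem exists_self_centralizing_cyclic_G0 (hφ : ∀ t, φ t = t ^ q) (hK : Fintype.card K = q ^ 3) (hq : 1 < q) :
    ∃ H : Subgroup (C).G0, IsCyclic H ∧ Nat.card H = (q ^ 3 - 1) * (q + 1) ∧
      Subgroup.centralizer (H : Set (C).G0) = H := by
  have h3 := cube_id hφ hK
  have hF := card_Fq hφ hK
  obtain ⟨M, hM1, hM2, hM3, hM4⟩ := exists_singer (Fq φ)
  rw [hF] at hM1 hM2 hM3
  let Γ : Kˣ := Units.map ((Fq φ).subtype : Fq φ →* K) (Matrix.GeneralLinearGroup.det M)
  have hΓv : (Γ : K) = ((M : Matrix (Fin 2) (Fin 2) (Fq φ)).det : Fq φ) := by simp [Γ]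
  have hΓ : orderOf Γ = q - 1 := by
    rw [← hM2]
    exact orderOf_injective (Units.map ((Fq φ).subtype : Fq φ →* K))
      (Units.map_injective Subtype.coe_injective) _
  obtain ⟨u0, hu0, ho⟩ := exists_gen hφ hK hq Γ hΓ
  let h0 : Fib φ := ⟨(M, u0), mem_Fib.2 (by rw [hu0, hΓv])⟩
  have horder : orderOf h0 = (q ^ 3 - 1) * (q + 1) := by
    rw [← Subgroup.orderOf_coe, Prod.orderOf]
    show (orderOf M).lcm (orderOf u0) = _
    rw [hM1, ho, Nat.lcm, Nat.pow_sub_one_gcd_pow_sub_one,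
      show Nat.gcd 2 3 = 1 by norm_num, pow_one, show q ^ 2 - 1 = (q + 1) * (q - 1) by
        have := Nat.sq_sub_sq q 1; simpa using this, mul_right_comm,
      Nat.mul_div_cancel _ (by omega), mul_comm]
  have hfix : φ (Γ : K) = Γ := by rw [hΓv]; exact fixq φ _
  have hγ : Γ ^ (q - 1) = 1 := by rw [← hΓ, pow_orderOf_eq_one]
  have P := central_of_gen hφ hK hq hu0 ho hfix hγ
  have hz : levi hD (h0 ^ (q + 1)) = theta chevD4 K (tor φ (u0 ^ (q + 1)) Γ) := by
    rw [levi_scalar hD h3 (p := h0 ^ (q + 1)) (γ := Γ) (d := (M : Matrix (Fin 2) (Fin 2) (Fq φ)).det) hfix ?_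
      hΓv.symm ?_]
    · rfl
    · show (nm φ (u0 ^ (q + 1)) : K) = _
      rw [P.norm, coe_nm]
    · exact hM3
  have key : ∀ g ∈ (C).G0, Commute (levi hD h0) g → g ∈ (levi (φ := φ) hD).range := by
    intro g hg hc
    have hcz : theta chevD4 K (tor φ (u0 ^ (q + 1)) Γ) * g = g * theta chevD4 K (tor φ (u0 ^ (q + 1)) Γ) := by
      rw [← hz, map_pow]; exact (hc.pow_left _).eq
    by_cases h1 : (Γ : K) = 1
    · have hq2 : q = 2 := by
        have : orderOf Γ = 1 := orderOf_eq_one_iff.2 (Units.ext h1)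
        omega
      subst hq2
      haveI : CharP K 2 := by
        haveI : Fact (Nat.Prime 2) := ⟨Nat.prime_two⟩
        exact charP_of_card_eq_prime_pow hK
      haveI : Fintype (Fq φ) := Fintype.ofFinite _
      have hF' : Fintype.card (Fq φ) = 2 := by rw [← Nat.card_eq_fintype_card, hF]
      haveI : CharP (Fq φ) 2 := charP_of_card_eq_prime_pow (f := 1) (hp := ⟨Nat.prime_two⟩) (by simpa using hF')
      obtain ⟨-, hsurj⟩ := ZMod.castHom_bijective (R := Fq φ) hF'
      set ι := ZMod.castHom (dvd_refl 2) (Fq φ)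
      have hlift : ∃ M' : Matrix (Fin 2) (Fin 2) (ZMod 2), M'.map ι = (M : Matrix (Fin 2) (Fin 2) (Fq φ)) := by
        choose f hf using hsurj
        exact ⟨(M : Matrix (Fin 2) (Fin 2) (Fq φ)).map f, by ext i j; simp [hf]⟩
      obtain ⟨M', hM'⟩ := hlift
      have hM13 : M ^ 3 = 1 := by
        rw [show (3 : ℕ) = orderOf M by rw [hM1]; norm_num, pow_orderOf_eq_one]
      have hinj : Function.Injective fun A : Matrix (Fin 2) (Fin 2) (ZMod 2) => A.map ι :=
        Matrix.map_injective ι.injective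
      have hc1 : M' * M' * M' = 1 := hinj (by
        show (M' * M' * M').map ι = (1 : Matrix (Fin 2) (Fin 2) (ZMod 2)).map ι
        rw [Matrix.map_mul, Matrix.map_mul, hM', Matrix.map_one _ (map_zero ι) (map_one ι)]
        have := congrArg Units.val hM13
        simpa [pow_succ, mul_assoc] using this)
      have hc2 : M' ≠ 1 := fun e => by
        rw [e, Matrix.map_one _ (map_zero ι) (map_one ι)] at hM'
        have : M = 1 := Units.ext hM'.symm
        rw [this, orderOf_one] at hM1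
        norm_num at hM1
      obtain ⟨i, hi⟩ : ∃ i : ℕ, ((M ^ i : GL (Fin 2) (Fq φ)) : Matrix (Fin 2) (Fin 2) (Fq φ)) = !![1, 1; 1, 0] := by
        have hY : (!![1, 1; 1, 0] : Matrix (Fin 2) (Fin 2) (ZMod 2)).map ι = !![1, 1; 1, 0] := by
          ext i j; fin_cases i <;> fin_cases j <;> simp
        rcases two_cases M' hc1 hc2 with h | h
        · exact ⟨1, by rw [pow_one, ← hY, h, hM']⟩
        · exact ⟨2, by rw [← hY, h, Matrix.map_mul, hM', pow_two, Units.val_mul]⟩
      have hu7 : u0 ^ 7 = 1 := by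
        rw [show (7 : ℕ) = orderOf u0 by rw [ho]; norm_num, pow_orderOf_eq_one]
      have hM7 : M ^ 7 = M := by
        rw [show (7 : ℕ) = 3 * 2 + 1 by norm_num, pow_succ, pow_mul, hM13, one_pow, one_mul]
      have hX : levi hD (h0 ^ (7 * i)) = gx hD K 14 1 * (C).rgd.nw [(1 : Fin 2)] := by
        refine x0_eq hD ?_ ?_
        · show u0 ^ (7 * i) = 1
          rw [pow_mul, hu7, one_pow]
        · show ((M ^ (7 * i) : GL (Fin 2) (Fq φ)) : Matrix (Fin 2) (Fin 2) (Fq φ)) = _
          rw [pow_mul, hM7, hi]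
      refine mem_levi_of_commute_two hD P hg hcz ?_
      rw [← hX, map_pow]
      exact (hc.pow_left _).eq
    · exact mem_levi_of_commute hD P h1 hg hcz
  let x : (C).G0 := ⟨levi hD h0, levi_mem_G0 hD h3 h0⟩
  refine ⟨Subgroup.zpowers x, Subgroup.isCyclic_zpowers x, ?_, le_antisymm ?_ ?_⟩
  · rw [Nat.card_zpowers, ← Subgroup.orderOf_coe, orderOf_injective _ (levi_injective hD h3), horder]
  · intro g hg
    have hc : Commute (levi hD h0) (g : GL chevD4.Idx K) :=
      congrArg Subtype.val (Subgroup.mem_centralizer_iff.1 hg x (Subgroup.mem_zpowers x))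
    obtain ⟨p, hp⟩ := key _ g.2 hc
    rw [← hp] at hc
    have hcp : Commute h0 p := levi_injective hD h3 (by rw [map_mul, map_mul]; exact hc.eq)
    have hc1 : Commute p.1.1 M := (congrArg (fun r : Fib φ => r.1.1) hcp.eq).symm
    obtain ⟨a, ha⟩ := hM4 _ hc1
    obtain ⟨b, hb⟩ := mem_powers_iff_mem_zpowers.2 (show p.1.2 ∈ Subgroup.zpowers u0 by
      have : Subgroup.zpowers u0 = ⊤ := Subgroup.eq_top_of_card_eq _ (by
        rw [Nat.card_zpowers, ho, Nat.card_units, Nat.card_eq_fintype_card, hK])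
      rw [this]; trivial)
    change u0 ^ b = p.1.2 at hb
    have hab : a ≡ b [MOD Nat.gcd (orderOf M) (orderOf u0)] := by
      rw [hM1, ho, Nat.pow_sub_one_gcd_pow_sub_one, show Nat.gcd 2 3 = 1 by norm_num, pow_one, ← hΓ,
        ← pow_eq_pow_iff_modEq]
      refine Units.ext ?_
      have hdet := mem_Fib.1 p.2
      rw [ha, Units.val_pow_eq_pow_val, Matrix.det_pow, ← hb, map_pow, hu0, SubmonoidClass.coe_pow] at hdet
      rw [Units.val_pow_eq_pow_val, hΓv]
      simpa using hdet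
    obtain ⟨k, hk1, hk2⟩ := Nat.chineseRemainder' hab
    have hp' : p = h0 ^ k := by
      refine Subtype.ext (Prod.ext ?_ ?_)
      · show p.1.1 = M ^ k
        rw [ha, pow_eq_pow_iff_modEq]; exact hk1.symm
      · show p.1.2 = u0 ^ k
        rw [← hb, pow_eq_pow_iff_modEq]; exact hk2.symm
    refine Subgroup.mem_zpowers_iff.2 ⟨k, Subtype.ext ?_⟩
    rw [← hp, hp', map_pow, zpow_natCast]
    rfl
  · intro g hg
    refine Subgroup.mem_centralizer_iff.2 fun y hy => ?_
    obtain ⟨i, rfl⟩ := Subgroup.mem_zpowers_iff.1 hg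
    obtain ⟨j, rfl⟩ := Subgroup.mem_zpowers_iff.1 hy
    rw [← _root_.zpow_add, ← _root_.zpow_add, add_comm]

include hD in
/-- ³D₄(q) has a self-centralising cyclic subgroup of order (q³ - 1)(q + 1). -/
theorem exists_self_centralizing_cyclic (hq : IsPrimePow q) (hK : Fintype.card K = q ^ 3) :
    ∃ H : Subgroup (twistedD4 K q), IsCyclic H ∧ Nat.card H = (q ^ 3 - 1) * (q + 1) ∧
      Subgroup.centralizer (H : Set (twistedD4 K q)) = H := by
  obtain ⟨φ, hφ⟩ := exists_qHom K hq three_pos hK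
  rw [twistedD4_eq hD hφ hK]
  exact exists_self_centralizing_cyclic_G0 hD hφ hK hq.one_lt

end Cfsg.Agent.TwistE6D4.D4
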