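import Cfsg.Agent.Lib.TwistE6D4.D4SubfieldBase
import Cfsg.Agent.Lib.TwistE6D4.D4TorusFinal
import Cfsg.Agent.EqLemmas

/-!
# Maximality of the subfield subgroup of ³D₄

An overgroup that is larger contains a short orbit element with a parameter outside the fixed field
(`found_or_mem`, by reduction along Bruhat cells), and then it is the whole group (`eq_top_of_found`).
-/

set_option autoImplicit false
set_option maxRecDepth 100000

namespace Cfsg.Agent.TwistE6D4.D4Sub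

open Cfsg.Lie Cfsg.Lie.ChevalleyDatum Cfsg.Agent.Chev
open Cfsg.Agent.TwistE6D4.D4 (normal orb_mem_G0 tor tor_mem tor_surj chi_values Fq mem_Fq exists_word)

variable {K : Type*} [Field K] (hD : Good chevD4) (φ : K →+* K) (H : Subgroup (GL chevD4.Idx K))

local notation "C" => ctxD4 hD φ
local notation "o" => orb hD d4Twist φ

/-- An overgroup of the subfield subgroup. -/
structure Over : Prop where
  h3 : ∀ t, φ (φ (φ t)) = t
  M_le : Msub hD φ ≤ H
  le_G : H ≤ (ctxD4 hD φ).G0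

/-- A short orbit element with parameter outside the fixed field. -/
def Found : Prop := ∃ a, φ a ≠ a ∧ orb hD d4Twist φ 17 a ∈ H

/-- Membership in a Bruhat cell. -/
def Cell (w : List (Fin 2)) (g : GL chevD4.Idx K) : Prop :=
  ∃ u ∈ (ctxD4 hD φ).rgd.Upos, ∃ t ∈ (ctxD4 hD φ).rgd.H, ∃ v ∈ (ctxD4 hD φ).rgd.Upos,
    g = u * t * (ctxD4 hD φ).rgd.nw w * v

variable {hD φ H}

theorem orb_inv {r : ℕ} (hr : r ∈ d4Twist.reps) (t : K) : (o r t)⁻¹ = o r (-t) :=
  inv_eq_of_mul_eq_one_right (by rw [← (C).orb_add hr, add_neg_cancel, (C).orb_zero])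

theorem reps6 : ∀ r ∈ [18, 14, 15, 17, 22, 23], r ∈ d4Twist.reps ∧ 0 < d4Twist.ht r := by decide +kernel

theorem orb_mem_pos (h3 : ∀ t, φ (φ (φ t)) = t) {r : ℕ} (hr : r ∈ [18, 14, 15, 17, 22, 23]) {t : K}
    (ht : φ t = t ∨ d4Twist.len r = 3) :
    o r t ∈ (C).rgd.U ⟨r, (reps6 r hr).1⟩ := by
  refine (C).orb_mem_Uo (reps6 r hr).1 ?_
  rcases ht with h | h
  · exact iter_fixed φ h _
  · rw [show (C).T.len r = 3 from h]; exact h3 t

theorem exists_split_left {i : Fin 2} {u : GL chevD4.Idx K} (hu : u ∈ (C).rgd.Upos) :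
    ∃ c, (⇑φ)^[d4Twist.len ((C).rgd.simple i).1] c = c ∧
      ∃ k ∈ (C).rgd.Udel i, u = o ((C).rgd.simple i).1 c * k := by
  obtain ⟨k, hk, a, ha, e⟩ := (C).rgd.exists_Upos (i := i) (inv_mem hu)
  obtain ⟨c, hc, rfl⟩ := (C).mem_Uo ((C).rgd.simple i).2 ha
  refine ⟨-c, by rw [← RingHom.coe_pow, map_neg, RingHom.coe_pow, hc], k⁻¹, inv_mem hk, ?_⟩
  rw [← orb_inv ((C).rgd.simple i).2, ← _root_.mul_inv_rev, ← e, inv_inv]

theorem w0_pos : posW d4Twist d4Node (([1, 0, 1, 0, 1, 0] : List (Fin 2)).reverse ++ [0, 1, 0, 1, 0, 1]) := by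
  decide +kernel

variable (O : Over hD φ H)
include O

/-- Stripping an element of the subfield subgroup. -/
theorem strip_left {m g : GL chevD4.Idx K} (hm : m ∈ Msub hD φ) (h : m * g ∈ H) : g ∈ H :=
  ((Subgroup.mul_mem_cancel_left H (O.M_le hm)).1 h)

theorem strip_right {m g : GL chevD4.Idx K} (hm : m ∈ Msub hD φ) (h : g * m ∈ H) : g ∈ H :=
  ((Subgroup.mul_mem_cancel_right H (O.M_le hm)).1 h)

theorem orb_mem {r : ℕ} (hr : r ∈ d4Twist.reps) {t : K} (ht : φ t = t) : o r t ∈ H :=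
  O.M_le (orb_mem_M hD φ hr ht)

theorem found_of_15 {z w v e : K} (hz : φ z ≠ z) (hv : φ v = v) (he : φ e = e)
    (h : o 15 z * o 17 w * o 22 v * o 23 e ∈ H) : Found hD φ H := by
  obtain ⟨P, Q, hP, hQ, E⟩ := comm_o18_one hD O.h3 z w hv he
  have hmem := mul_mem (mul_mem (mul_mem (orb_mem O (show 18 ∈ d4Twist.reps by decide) (map_one φ)) h)
    (orb_mem O (show 18 ∈ d4Twist.reps by decide) (show φ (-1 : K) = -1 by simp))) (inv_mem h)
  rw [E] at hmem
  refine ⟨z + φ (φ z), fun e1 => hz ?_, strip_right O (orb_mem_M hD φ (show 22 ∈ d4Twist.reps by decide) hP)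
    (strip_right O (orb_mem_M hD φ (show 23 ∈ d4Twist.reps by decide) hQ) hmem)⟩
  rw [map_add, O.h3] at e1
  have e2 : φ z = φ (φ z) := by linear_combination e1
  have e3 := congrArg (fun t => φ (φ t)) e2
  simp only [O.h3] at e3
  exact e3.symm

theorem found_of_18 {c e : K} {k : GL chevD4.Idx K} (hk : k ∈ (C).rgd.Udel (0 : Fin 2)) (hc : φ c ≠ c)
    (he : φ e = e) (he0 : e ≠ 0) (h : o 18 c * k * o 14 e * (o 18 c * k)⁻¹ ∈ H) : Found hD φ H := by
  obtain ⟨f, hf, e1⟩ := conj14 hD φ O.h3 he hk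
  have h18 : o 18 c ∈ (C).rgd.Upos :=
    (C).rgd.U_le_Upos (r := ⟨18, show 18 ∈ d4Twist.reps by decide⟩) (show (0 : ℤ) < d4Twist.ht 18 by decide)
      (orb_mem_pos O.h3 (r := 18) (by simp) (Or.inr (by decide)))
  rw [show o 18 c * k * o 14 e * (o 18 c * k)⁻¹ = o 18 c * (k * o 14 e * k⁻¹) * (o 18 c)⁻¹ by group, e1,
    show o 18 c * (o 14 e * o 23 f) * (o 18 c)⁻¹ = o 18 c * o 14 e * (o 23 f * (o 18 c)⁻¹) by group,
    ← (central23 hD φ (inv_mem h18) f).eq, orb_inv (show 18 ∈ d4Twist.reps by decide), ← mul_assoc,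
    conj_o18_o14 hD O.h3 c he] at h
  have h1 := strip_right O (orb_mem_M hD φ (show 23 ∈ d4Twist.reps by decide) hf) h
  simp only [mul_assoc] at h1
  have h2 := strip_left O (orb_mem_M hD φ (show 14 ∈ d4Twist.reps by decide) he) h1
  have hN := fix_norm O.h3 c
  refine found_of_15 O (z := φ (φ c) * e) (w := φ c * φ (φ c) * e) (v := -(c * φ c * φ (φ c) * e))
    (e := -(c * φ c * φ (φ c) * e * e)) (fun e2 => hc ?_)
    (by rw [map_neg, map_mul, hN, he]) (by rw [map_neg, map_mul, map_mul, hN, he]) (by simpa only [mul_assoc] using h2)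
  rw [map_mul, he, O.h3] at e2
  have e3 := congrArg φ (mul_right_cancel₀ he0 e2)
  rw [O.h3] at e3
  exact e3

theorem found_or_mem_pos {g : GL chevD4.Idx K} (hg : g ∈ H) (hU : g ∈ (C).rgd.Upos) :
    Found hD φ H ∨ g ∈ Msub hD φ := by
  obtain ⟨x, y, z, w, v, e, -, hy, -, -, hv, he, rfl⟩ := normal hD φ hU
  have R : ∀ r ∈ [18, 14, 15, 17, 22, 23], r ∈ d4Twist.reps := fun r hr => (reps6 r hr).1
  by_cases hx : φ x = x
  swap
  · refine Or.inl (found_of_18 O (c := x) (k := o 14 y * o 15 z * o 17 w * o 22 v * o 23 e) ?_ hx (map_one φ)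
      one_ne_zero ?_)
    · have hsub : ∀ r, ∀ hr : r ∈ [18, 14, 15, 17, 22, 23], r ≠ 18 → ∀ t,
          (φ t = t ∨ d4Twist.len r = 3) → o r t ∈ (C).rgd.Udel (0 : Fin 2) := fun r hr h18 t ht =>
        (C).rgd.U_le_span (A := {s | (C).rgd.pos s ∧ s ≠ (C).rgd.simple (0 : Fin 2)}) (r := ⟨r, R r hr⟩)
          ⟨(reps6 r hr).2, fun e => h18 ((congrArg Subtype.val e).trans (simple_val hD φ).1)⟩
          (orb_mem_pos O.h3 hr ht)
      refine mul_mem (mul_mem (mul_mem (mul_mem ?_ ?_) ?_) ?_) ?_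
      · exact hsub 14 (by simp) (by decide) y (Or.inl hy)
      · exact hsub 15 (by simp) (by decide) z (Or.inr (by decide))
      · exact hsub 17 (by simp) (by decide) w (Or.inr (by decide))
      · exact hsub 22 (by simp) (by decide) v (Or.inl hv)
      · exact hsub 23 (by simp) (by decide) e (Or.inl he)
    · have h1 := mul_mem (mul_mem hg (orb_mem O (R 14 (by simp)) (map_one φ))) (inv_mem hg)
      simpa only [mul_assoc] using h1
  simp only [mul_assoc] at hg ⊢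
  have h1 := strip_left O (orb_mem_M hD φ (R 14 (by simp)) hy)
    (strip_left O (orb_mem_M hD φ (R 18 (by simp)) hx) hg)
  by_cases hz : φ z = z
  swap
  · exact Or.inl (found_of_15 O hz hv he (by simpa only [mul_assoc] using h1))
  have h2 := strip_left O (orb_mem_M hD φ (R 15 (by simp)) hz) h1
  by_cases hw : φ w = w
  swap
  · exact Or.inl ⟨w, hw, strip_right O
      (mul_mem (orb_mem_M hD φ (R 22 (by simp)) hv) (orb_mem_M hD φ (R 23 (by simp)) he)) h2⟩
  exact Or.inr (mul_mem (orb_mem_M hD φ (R 18 (by simp)) hx) (mul_mem (orb_mem_M hD φ (R 14 (by simp)) hy)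
    (mul_mem (orb_mem_M hD φ (R 15 (by simp)) hz) (mul_mem (orb_mem_M hD φ (R 17 (by simp)) hw)
      (mul_mem (orb_mem_M hD φ (R 22 (by simp)) hv) (orb_mem_M hD φ (R 23 (by simp)) he))))))

/-- A long element conjugated by a torus element. -/
theorem torus_long {t : GL chevD4.Idx K} (ht : t ∈ (C).rgd.H) {r : ℕ} (hr : r ∈ [14, 22, 23]) {e : K} (he : φ e = e) :
    ∃ e' : K, φ e' = e' ∧ (e ≠ 0 → e' ≠ 0) ∧ t * o r e * t⁻¹ = o r e' := by
  obtain ⟨x, hx, rfl⟩ := ht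
  obtain ⟨u, c, hc, rfl⟩ := tor_surj hx
  have hr' : r ∈ d4Twist.reps := by
    simp only [List.mem_cons, List.not_mem_nil, or_false] at hr
    rcases hr with rfl | rfl | rfl <;> decide
  refine ⟨_, ?_, fun h => mul_ne_zero (Units.ne_zero _) h, theta_conj_orb d4Twist_ok hD φ hx hr' e⟩
  obtain ⟨-, v14, -, -, -, v22, v23, -⟩ := chi_values (φ := φ) u c
  have hN := fix_norm O.h3 (u : K)
  simp only [List.mem_cons, List.not_mem_nil, or_false] at hr
  rcases hr with rfl | rfl | rfl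
  · rw [v14, map_mul, he, map_div₀, hN, map_pow, hc]
  · rw [v22, map_mul, he, map_div₀, hN, hc]
  · rw [v23, map_mul, he, hc]

theorem found_or_mem_borel {u t : GL chevD4.Idx K} (hu : u ∈ (C).rgd.Upos) (ht : t ∈ (C).rgd.H) (hg : u * t ∈ H) :
    Found hD φ H ∨ u * t ∈ Msub hD φ := by
  obtain ⟨c, -, k, hk, rfl⟩ := exists_split_left (i := (0 : Fin 2)) hu
  rw [(simple_val hD φ).1] at hg hu ⊢
  by_cases hc : φ c = c
  swap
  · obtain ⟨e, he, he0, E⟩ := torus_long O ht (r := 14) (by simp) (map_one φ)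
    refine Or.inl (found_of_18 O hk hc he (he0 one_ne_zero) ?_)
    rw [← E]
    have h1 := mul_mem (mul_mem hg (orb_mem O (show 14 ∈ d4Twist.reps by decide) (map_one φ))) (inv_mem hg)
    convert h1 using 1
    group
  have hm := orb_mem_M hD φ (show 18 ∈ d4Twist.reps by decide) hc
  rw [mul_assoc] at hg ⊢
  have hg' := strip_left O hm hg
  suffices Found hD φ H ∨ k * t ∈ Msub hD φ from this.imp_right fun h => mul_mem hm h
  obtain ⟨x, hx, rfl⟩ := ht
  obtain ⟨a, b, hb, rfl⟩ := tor_surj hx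
  set χ := (chiX (tor φ a b) 18 : K)
  have hkU : k ∈ (C).rgd.Upos := (C).rgd.Udel_le_Upos _ hk
  have h18 : ∀ s, o 18 s ∈ (C).rgd.U ((C).rgd.simple (0 : Fin 2)) := fun s => by
    show o 18 s ∈ (C).Uo ((C).rgd.simple (0 : Fin 2)).1
    rw [(simple_val hD φ).1]
    exact orb_mem_pos O.h3 (r := 18) (by simp) (Or.inr (by decide))
  have hh : k * o 18 χ * k⁻¹ ∈ H := by
    have h1 := mul_mem (mul_mem hg' (orb_mem O (show 18 ∈ d4Twist.reps by decide) (map_one φ))) (inv_mem hg')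
    have E := theta_conj_orb d4Twist_ok hD φ hx (show 18 ∈ d4Twist.reps by decide) (1 : K)
    rw [mul_one] at E
    rw [← E]
    convert h1 using 1
    group
  by_cases hχ : φ χ = χ
  · have hab : φ (a : K) = a := by
      have h2 : φ (a : K) ^ 2 = (a : K) ^ 2 := by
        have h' := hχ
        simp only [χ, (chi_values (φ := φ) a b).1, map_div₀, map_pow, hb] at h'
        exact (div_left_inj' b.ne_zero).1 h'
      rcases sq_eq_sq_iff_eq_or_eq_neg.1 h2 with h | h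
      · exact h
      · have h' := O.h3 (a : K)
        rw [h, map_neg, h, neg_neg, h] at h'
        rw [h, h']
    have ht' := theta_mem_M hD φ O.h3 hab hb
    exact (found_or_mem_pos O (strip_right O ht' hg') hkU).imp_right fun h => mul_mem h ht'
  · have hk' : (o 18 χ)⁻¹ * k * o 18 χ * k⁻¹ ∈ (C).rgd.Udel (0 : Fin 2) := by
      refine mul_mem ?_ (inv_mem hk)
      have := (C).rgd.U_conj_Udel (0 : Fin 2) (inv_mem (h18 χ)) k hk
      rwa [inv_inv] at this
    refine Or.inl (found_of_18 O (c := χ) hk' hχ (map_one φ) one_ne_zero ?_)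
    rw [show o 18 χ * ((o 18 χ)⁻¹ * k * o 18 χ * k⁻¹) = k * o 18 χ * k⁻¹ by group]
    exact mul_mem (mul_mem hh (orb_mem O (show 14 ∈ d4Twist.reps by decide) (map_one φ))) (inv_mem hh)

/-- One step down along a word. -/
theorem cell_step {i : Fin 2} {w : List (Fin 2)}
    (ih : ∀ g ∈ H, Cell hD φ w g → Found hD φ H ∨ g ∈ Msub hD φ) {m k t v : GL chevD4.Idx K}
    (hm : m ∈ Msub hD φ) (hk : k ∈ (C).rgd.Udel i) (ht : t ∈ (C).rgd.H) (hv : v ∈ (C).rgd.Upos)
    (hg : m * k * t * (C).rgd.nw (i :: w) * v ∈ H) :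
    Found hD φ H ∨ m * k * t * (C).rgd.nw (i :: w) * v ∈ Msub hD φ := by
  have hn := n_mem_M hD φ i
  set g' := (((C).rgd.n i)⁻¹ * k * (C).rgd.n i) * (((C).rgd.n i)⁻¹ * t * (C).rgd.n i) * (C).rgd.nw w * v
  have e : m * k * t * (C).rgd.nw (i :: w) * v = m * ((C).rgd.n i * g') := by
    simp only [g', (C).rgd.nw_cons]; group
  rw [e] at hg ⊢
  exact (ih g' (strip_left O hn (strip_left O hm hg))
    ⟨_, (C).rgd.Udel_le_Upos i ((C).rgd.Udel_conj_n' i hk), _, (C).rgd.n_conj_H' i ht, v, hv, rfl⟩).imp_right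
    fun h => mul_mem hm (mul_mem hn h)

/-- Words beginning with the long reflection. -/
theorem cell_long {w : List (Fin 2)} (ih : ∀ g ∈ H, Cell hD φ w g → Found hD φ H ∨ g ∈ Msub hD φ) :
    ∀ g ∈ H, Cell hD φ (1 :: w) g → Found hD φ H ∨ g ∈ Msub hD φ := by
  rintro g hg ⟨u, hu, t, ht, v, hv, rfl⟩
  obtain ⟨c, hc, k, hk, rfl⟩ := exists_split_left (i := (1 : Fin 2)) hu
  rw [(simple_val hD φ).2] at hc hg ⊢
  rw [show d4Twist.len 14 = 1 by decide] at hc
  exact cell_step O ih (orb_mem_M hD φ (show 14 ∈ d4Twist.reps by decide) hc) hk ht hv hg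

/-- Words beginning with the short reflection. -/
theorem cell_short {w : List (Fin 2)} (ih : ∀ g ∈ H, Cell hD φ w g → Found hD φ H ∨ g ∈ Msub hD φ)
    (leaf : ∀ u ∈ (C).rgd.Upos, ∀ t ∈ (C).rgd.H, ∀ v ∈ (C).rgd.Upos, u * t * (C).rgd.nw (0 :: w) * v ∈ H →
      Found hD φ H ∨ ∃ e, φ e = e ∧ e ≠ 0 ∧ u * o 14 e * u⁻¹ ∈ H) :
    ∀ g ∈ H, Cell hD φ (0 :: w) g → Found hD φ H ∨ g ∈ Msub hD φ := by
  rintro g hg ⟨u, hu, t, ht, v, hv, rfl⟩
  obtain ⟨c, -, k, hk, rfl⟩ := exists_split_left (i := (0 : Fin 2)) hu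
  rw [(simple_val hD φ).1] at hu hg ⊢
  by_cases hc : φ c = c
  · exact cell_step O ih (orb_mem_M hD φ (show 18 ∈ d4Twist.reps by decide) hc) hk ht hv hg
  · refine Or.inl ?_
    rcases leaf _ hu t ht v hv hg with h | ⟨e, he, he0, h⟩
    · exact h
    · exact found_of_18 O hk hc he he0 h

theorem cell_inv {w : List (Fin 2)} (h : ∀ g ∈ H, Cell hD φ w.reverse g → Found hD φ H ∨ g ∈ Msub hD φ) :
    ∀ g ∈ H, Cell hD φ w g → Found hD φ H ∨ g ∈ Msub hD φ := by
  rintro g hg ⟨u, hu, t, ht, v, hv, rfl⟩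
  obtain ⟨k, hk, e⟩ := (C).rgd.exists_nw_inv w
  have hcell : Cell hD φ w.reverse (u * t * (C).rgd.nw w * v)⁻¹ :=
    ⟨v⁻¹, inv_mem hv, k * ((C).rgd.nw w.reverse * t⁻¹ * ((C).rgd.nw w.reverse)⁻¹), mul_mem hk ((C).rgd.nw_conj_H _ (inv_mem ht)),
      u⁻¹, inv_mem hu, by simp only [_root_.mul_inv_rev, e]; group⟩
  exact (h _ (inv_mem hg) hcell).imp_right fun h' => inv_inv (u * t * (C).rgd.nw w * v) ▸ inv_mem h'

theorem leaf_zero : ∀ u ∈ (C).rgd.Upos, ∀ t ∈ (C).rgd.H, ∀ v ∈ (C).rgd.Upos, u * t * (C).rgd.nw [0] * v ∈ H →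
    Found hD φ H ∨ ∃ e, φ e = e ∧ e ≠ 0 ∧ u * o 14 e * u⁻¹ ∈ H := by
  intro u hu t ht v hv hg
  obtain ⟨f, hf, E1⟩ := conj22 hD φ O.h3 (map_one φ) hv
  obtain ⟨e1, he1, he10, E2⟩ := n_long hD φ (a := 0) (r := 22) (r' := 14) (by simp) (map_one φ) one_ne_zero
  obtain ⟨f1, hf1, E3⟩ : ∃ f1, φ f1 = f1 ∧ (C).rgd.n 0 * o 23 f * ((C).rgd.n 0)⁻¹ = o 23 f1 := by
    by_cases hf0 : f = 0
    · exact ⟨0, map_zero φ, by simp [hf0, (C).orb_zero]⟩
    · obtain ⟨f1, h1, -, h2⟩ := n_long hD φ (a := 0) (r := 23) (r' := 23) (by simp) hf hf0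
      exact ⟨f1, h1, h2⟩
  obtain ⟨e2, he2, he20, E4⟩ := torus_long O ht (r := 14) (by simp) he1
  obtain ⟨f2, hf2, -, E5⟩ := torus_long O ht (r := 23) (by simp) hf1
  refine Or.inr ⟨e2, he2, he20 he10, strip_right O (orb_mem_M hD φ (show 23 ∈ d4Twist.reps by decide) hf2) ?_⟩
  have h1 := mul_mem (mul_mem hg (orb_mem O (show 22 ∈ d4Twist.reps by decide) (map_one φ))) (inv_mem hg)
  have e : u * t * (C).rgd.nw [0] * v * o 22 1 * (u * t * (C).rgd.nw [0] * v)⁻¹ =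
      u * o 14 e2 * (o 23 f2 * u⁻¹) := by
    calc u * t * (C).rgd.nw [0] * v * o 22 1 * (u * t * (C).rgd.nw [0] * v)⁻¹
        = u * (t * ((C).rgd.n 0 * (v * o 22 1 * v⁻¹) * ((C).rgd.n 0)⁻¹) * t⁻¹) * u⁻¹ := by
          rw [(C).rgd.nw_cons, (C).rgd.nw_nil, mul_one]; group
      _ = u * ((t * ((C).rgd.n 0 * o 22 1 * ((C).rgd.n 0)⁻¹) * t⁻¹) * (t * ((C).rgd.n 0 * o 23 f * ((C).rgd.n 0)⁻¹) * t⁻¹)) * u⁻¹ := by
          rw [E1]; group
      _ = _ := by rw [E2, E3, E4, E5]; group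
  rw [e, ← (central23 hD φ (inv_mem hu) f2).eq, ← mul_assoc] at h1
  exact h1

/-- The long element at the top moved by a cell element. -/
theorem conj_top {w : List (Fin 2)} {r : ℕ} {u t v : GL chevD4.Idx K} (ht : t ∈ (C).rgd.H)
    (hv : v ∈ (C).rgd.Upos) (hg : u * t * (C).rgd.nw w * v ∈ H)
    (him : ∃ e, φ e = e ∧ e ≠ 0 ∧ (C).rgd.nw w * o 23 1 * ((C).rgd.nw w)⁻¹ = o r e) :
    ∃ e, φ e = e ∧ e ≠ 0 ∧ u * (t * o r e * t⁻¹) * u⁻¹ ∈ H := by
  obtain ⟨e, he, he0, E⟩ := him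
  refine ⟨e, he, he0, ?_⟩
  have h1 := mul_mem (mul_mem hg (orb_mem O (show 23 ∈ d4Twist.reps by decide) (map_one φ))) (inv_mem hg)
  convert h1 using 1
  rw [← E, show u * t * (C).rgd.nw w * v * o 23 1 * (u * t * (C).rgd.nw w * v)⁻¹ =
    u * (t * ((C).rgd.nw w * (v * o 23 1 * v⁻¹) * ((C).rgd.nw w)⁻¹) * t⁻¹) * u⁻¹ by group,
    (central23 hD φ hv (1 : K)).eq, mul_inv_cancel_right]

omit O in
theorem top_images : (∃ e, φ e = e ∧ e ≠ 0 ∧ (C).rgd.nw [0, 1, 0] * o 23 1 * ((C).rgd.nw [0, 1, 0])⁻¹ = o 14 e) ∧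
    (∃ e, φ e = e ∧ e ≠ 0 ∧ (C).rgd.nw [0, 1, 0, 1, 0] * o 23 1 * ((C).rgd.nw [0, 1, 0, 1, 0])⁻¹ = o 1 e) := by
  obtain ⟨a, ha, ha0, A⟩ := n_long hD φ (a := 0) (r := 23) (r' := 23) (by simp) (map_one φ) one_ne_zero
  obtain ⟨b, hb, hb0, B⟩ := n_long hD φ (a := 1) (r := 23) (r' := 22) (by simp) ha ha0
  obtain ⟨c, hc, hc0, Cc⟩ := n_long hD φ (a := 0) (r := 22) (r' := 14) (by simp) hb hb0
  obtain ⟨d, hd, hd0, Dd⟩ := n_long hD φ (a := 1) (r := 14) (r' := 9) (by simp) hc hc0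
  obtain ⟨f, hf, hf0, F⟩ := n_long hD φ (a := 0) (r := 9) (r' := 1) (by simp) hd hd0
  have h3w : (C).rgd.nw [0, 1, 0] * o 23 1 * ((C).rgd.nw [0, 1, 0])⁻¹ = o 14 c := by
    rw [← Cc, ← B, ← A]; simp only [(C).rgd.nw_cons, (C).rgd.nw_nil, mul_one]; group
  refine ⟨⟨c, hc, hc0, h3w⟩, f, hf, hf0, ?_⟩
  rw [← F, ← Dd, ← h3w]
  simp only [(C).rgd.nw_cons, (C).rgd.nw_nil, mul_one]; group

theorem leaf_three : ∀ u ∈ (C).rgd.Upos, ∀ t ∈ (C).rgd.H, ∀ v ∈ (C).rgd.Upos,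
    u * t * (C).rgd.nw [0, 1, 0] * v ∈ H → Found hD φ H ∨ ∃ e, φ e = e ∧ e ≠ 0 ∧ u * o 14 e * u⁻¹ ∈ H := by
  intro u _ t ht v hv hg
  obtain ⟨e, he, he0, h⟩ := conj_top O ht hv hg top_images.1
  obtain ⟨e', he', he'0, E⟩ := torus_long O ht (r := 14) (by simp) he
  exact Or.inr ⟨e', he', he'0 he0, E ▸ h⟩

theorem leaf_five : ∀ u ∈ (C).rgd.Upos, ∀ t ∈ (C).rgd.H, ∀ v ∈ (C).rgd.Upos,
    u * t * (C).rgd.nw [0, 1, 0, 1, 0] * v ∈ H → Found hD φ H ∨ ∃ e, φ e = e ∧ e ≠ 0 ∧ u * o 14 e * u⁻¹ ∈ H := by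
  intro u hu t ht v hv hg
  obtain ⟨e, he, he0, h⟩ := conj_top O ht hv hg top_images.2
  obtain ⟨x, hx, rfl⟩ := ht
  obtain ⟨a, b, hb, rfl⟩ := tor_surj hx
  rw [theta_conj_orb d4Twist_ok hD φ hx (show 1 ∈ d4Twist.reps by decide)] at h
  set a1 := (chiX (tor φ a b) 1 : K) * e
  have ha1 : φ a1 = a1 := by
    have hv22 : (chiX (tor φ a b) 1 : K) = ((chiX (tor φ a b) 22 : K))⁻¹ := by
      rw [← D4.chiX_neg hD _ (show 22 < chevD4.nroots by decide +kernel),
        show chevD4.neg 22 = 1 by decide +kernel]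
    simp only [a1, hv22, map_mul, map_inv₀, he, (chi_values (φ := φ) a b).2.2.2.2.2.1, map_div₀,
      fix_norm O.h3, hb]
  have h23 := orb_mem O (show 23 ∈ d4Twist.reps by decide) (show φ (1 : K) = 1 from map_one φ)
  have h1 := mul_mem (mul_mem (mul_mem h h23) (inv_mem h)) (inv_mem h23)
  refine Or.inr ⟨-(a1 * 1), by rw [map_neg, mul_one, ha1],
    neg_ne_zero.2 (by rw [mul_one]; exact mul_ne_zero (Units.ne_zero _) he0), ?_⟩
  convert h1 using 1
  have hc := central23 hD φ hu (1 : K)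
  have hc' := central23 hD φ hu (-1 : K)
  rw [← comm_neg22_23 hD O.h3 ha1 (map_one φ), ← orb_inv (show 1 ∈ d4Twist.reps by decide) a1,
    orb_inv (show 23 ∈ d4Twist.reps by decide) (1 : K)]
  calc u * (o 1 a1 * o 23 1 * (o 1 a1)⁻¹ * o 23 (-1)) * u⁻¹
      = u * o 1 a1 * (o 23 1 * (o 1 a1)⁻¹ * (o 23 (-1) * u⁻¹)) := by group
    _ = u * o 1 a1 * (u⁻¹ * u) * (o 23 1 * (o 1 a1)⁻¹ * (o 23 (-1) * u⁻¹)) := by group
    _ = u * o 1 a1 * u⁻¹ * (u * o 23 1) * (o 1 a1)⁻¹ * (o 23 (-1) * u⁻¹) := by group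
    _ = u * o 1 a1 * u⁻¹ * (o 23 1 * u) * (o 1 a1)⁻¹ * (u⁻¹ * o 23 (-1)) := by
      rw [hc.eq, (hc'.inv_left).eq]
    _ = _ := by group

/-- An element of an overgroup outside the subfield subgroup yields a short element. -/
theorem found_or_mem {g : GL chevD4.Idx K} (hg : g ∈ H) : Found hD φ H ∨ g ∈ Msub hD φ := by
  have w0 : ∀ g ∈ H, Cell hD φ [] g → Found hD φ H ∨ g ∈ Msub hD φ := by
    rintro g hg ⟨u, hu, t, ht, v, hv, rfl⟩
    have e : u * t * (C).rgd.nw [] * v = (u * (t * v * t⁻¹)) * t := by rw [(C).rgd.nw_nil]; group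
    rw [e] at hg ⊢
    exact found_or_mem_borel O (mul_mem hu ((C).rgd.H_conj_span _ ht _ hv)) ht hg
  have w10 := cell_long O (cell_short O w0 (leaf_zero O))
  have w1 := cell_long O w0
  have w01 := cell_inv O (w := [0, 1]) w10
  have w010 := cell_short O w10 (leaf_three O)
  have w101 := cell_long O w01
  have w1010 := cell_long O w010
  have w0101 := cell_inv O (w := [0, 1, 0, 1]) w1010
  have w01010 := cell_short O w1010 (leaf_five O)
  have w10101 := cell_long O w0101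
  have w101010 := cell_long O w01010
  have hG : g ∈ (C).rgd.G := by rw [(C).rgd_G]; exact O.le_G hg
  obtain ⟨b, hb, l, v, hv, e⟩ := (C).rgd.exists_normalForm hG
  obtain ⟨u, hu, t, ht, rfl⟩ := (C).rgd.exists_B hb
  obtain ⟨w, hw, k, hk, el⟩ := exists_word hD (φ := φ) l
  have hcell : Cell hD φ w g := ⟨u, hu, t * k, mul_mem ht hk, v, (C).rgd.Uminus_le_Upos _ hv, by rw [e, el]; group⟩
  simp only [D4.words, List.mem_cons, List.not_mem_nil, or_false] at hw
  rcases hw with rfl | rfl | rfl | rfl | rfl | rfl | rfl | rfl | rfl | rfl | rfl | rfl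
  · exact w0 g hg hcell
  · exact cell_short O w0 (leaf_zero O) g hg hcell
  · exact w1 g hg hcell
  · exact w01 g hg hcell
  · exact w10 g hg hcell
  · exact w010 g hg hcell
  · exact w101 g hg hcell
  · exact w0101 g hg hcell
  · exact w1010 g hg hcell
  · exact w01010 g hg hcell
  · exact w10101 g hg hcell
  · have hp : (C).rgd.nw ([1, 0, 1, 0, 1, 0].reverse ++ [0, 1, 0, 1, 0, 1]) ∈ (C).rgd.H :=
      ((C).nw_mem_H_iff _).2 w0_pos
    obtain ⟨h0, hh0, e0⟩ := (C).rgd.exists_nw_inv [1, 0, 1, 0, 1, 0]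
    have h1 : ((C).rgd.nw [1, 0, 1, 0, 1, 0])⁻¹ * (C).rgd.nw [0, 1, 0, 1, 0, 1] ∈ (C).rgd.H := by
      rw [e0, mul_assoc, ← (C).rgd.nw_append]; exact mul_mem hh0 hp
    obtain ⟨u', hu', t', ht', v', hv', e'⟩ := hcell
    refine w101010 g hg ⟨u', hu', t' * ((C).rgd.nw [1, 0, 1, 0, 1, 0] *
      (((C).rgd.nw [1, 0, 1, 0, 1, 0])⁻¹ * (C).rgd.nw [0, 1, 0, 1, 0, 1]) * ((C).rgd.nw [1, 0, 1, 0, 1, 0])⁻¹),
      mul_mem ht' ((C).rgd.nw_conj_H _ h1), v', hv', by rw [e']; group⟩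

/-! ### Generation -/

theorem neg_mem17 {x : K} : o 17 (-x) ∈ H ↔ o 17 x ∈ H := by
  rw [← orb_inv (show 17 ∈ d4Twist.reps by decide), inv_mem_iff]

theorem mem15_iff (t : K) : o 15 t ∈ H ↔ o 17 (φ t) ∈ H := by
  obtain ⟨z, hz, e⟩ := n_orb_short hD φ (a := 0) (r := 15) (r' := 17) (j := 1) (by simp) O.h3 t
  have hn := O.M_le (n_mem_M hD φ (0 : Fin 2))
  rw [← Subgroup.mul_mem_cancel_left H hn, ← Subgroup.mul_mem_cancel_right H (inv_mem hn), e,
    Function.iterate_one]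
  rcases hz with rfl | rfl
  · rw [one_mul]
  · rw [neg_one_mul, neg_mem17 O]

theorem mem18_iff (t : K) : o 18 t ∈ H ↔ o 17 t ∈ H := by
  obtain ⟨z, hz, e⟩ := n_orb_short hD φ (a := 1) (r := 18) (r' := 15) (j := 2) (by simp) O.h3 t
  have hn := O.M_le (n_mem_M hD φ (1 : Fin 2))
  rw [← Subgroup.mul_mem_cancel_left H hn, ← Subgroup.mul_mem_cancel_right H (inv_mem hn), e, mem15_iff O]
  simp only [Function.iterate_succ_apply', Function.iterate_zero_apply]
  rcases hz with rfl | rfl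
  · rw [one_mul, O.h3]
  · rw [neg_one_mul, map_neg, O.h3, neg_mem17 O]

theorem eq_top_of_found [Fintype K] {q : ℕ} (hφ : ∀ t, φ t = t ^ q) (hK : Fintype.card K = q ^ 3)
    (hF : Found hD φ H) : H = (C).G0 := by
  refine le_antisymm O.le_G ?_
  obtain ⟨a, ha, hmem⟩ := hF
  have h17 : 17 ∈ d4Twist.reps := by decide
  have hone : o 17 (1 : K) ∈ H := orb_mem O h17 (map_one φ)
  have hadd : ∀ {x y : K}, o 17 x ∈ H → o 17 y ∈ H → o 17 (x + y) ∈ H := fun hx hy => by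
    rw [(C).orb_add h17]; exact mul_mem hx hy
  have hscale : ∀ {x s : K}, φ s = s → o 17 x ∈ H → o 17 (s * x) ∈ H := by
    intro x s hs hx
    rcases eq_or_ne s 0 with rfl | hs0
    · rw [zero_mul, (C).orb_zero]; exact one_mem _
    let u : Kˣ := Units.mk0 s hs0
    have hM := theta_mem_M hD φ O.h3 (u := u) (c := 1) hs (by simp)
    have e := theta_conj_orb d4Twist_ok hD φ (tor_mem O.h3 u (c := 1) (by simp)) h17 x
    have hv : (chiX (tor φ u 1) 17 : K) = s := by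
      rw [(chi_values (φ := φ) u 1).2.2.2.2.1]
      simp [u, hs, hs0]
    rw [hv] at e
    rw [← e]
    exact mul_mem (mul_mem (O.M_le hM) hx) (inv_mem (O.M_le hM))
  have hsharp : o 17 (φ a * φ (φ a)) ∈ H := by
    have h18 := (mem18_iff O a).2 hmem
    have h15 : o 15 (φ (φ a)) ∈ H := (mem15_iff O _).2 (by rw [O.h3]; exact hmem)
    have h1 := mul_mem (mul_mem h18 (orb_mem O (show 14 ∈ d4Twist.reps by decide) (map_one φ))) (inv_mem h18)
    rw [orb_inv (show 18 ∈ d4Twist.reps by decide), conj_o18_o14 hD O.h3 a (map_one φ)] at h1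
    simp only [mul_one] at h1
    have hN := fix_norm O.h3 a
    have hfN : φ (-(a * φ a * φ (φ a))) = -(a * φ a * φ (φ a)) := by rw [map_neg, hN]
    have h2 := strip_right O (orb_mem_M hD φ (show 22 ∈ d4Twist.reps by decide) hfN)
      (strip_right O (orb_mem_M hD φ (show 23 ∈ d4Twist.reps by decide) hfN) h1)
    exact (Subgroup.mul_mem_cancel_left H (mul_mem (orb_mem O (show 14 ∈ d4Twist.reps by decide) (map_one φ)) h15)).1 h2
  have hfull : ∀ x : K, o 17 x ∈ H := by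
    let f : Fq φ × Fq φ × Fq φ → K := fun s => (s.1 : K) + s.2.1 * a + s.2.2 * (φ a * φ (φ a))
    have hinj : Function.Injective f := by
      rintro ⟨⟨x, hx⟩, ⟨y, hy⟩, ⟨w, hw⟩⟩ ⟨⟨x', hx'⟩, ⟨y', hy'⟩, ⟨w', hw'⟩⟩ e
      rw [mem_Fq] at hx hy hw hx' hy' hw'
      simp only [f] at e
      have e1 := congrArg φ e
      have e2 := congrArg φ e1
      simp only [map_add, map_mul, hx, hy, hw, hx', hy', hw', O.h3] at e1 e2
      have h01 : a - φ a ≠ 0 := sub_ne_zero.2 (Ne.symm ha)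
      have h12 : φ a - φ (φ a) ≠ 0 := sub_ne_zero.2 fun h => ha (by
        have := congrArg (fun t => φ (φ t)) h
        simp only [O.h3] at this
        exact this.symm)
      have h20 : φ (φ a) - a ≠ 0 := sub_ne_zero.2 fun h => ha (by
        have := congrArg φ h
        rw [O.h3] at this
        exact this.symm)
      have d1 : (a - φ a) * ((y - y') - (w - w') * φ (φ a)) = 0 := by linear_combination e - e1
      have d2 : (φ a - φ (φ a)) * ((y - y') - (w - w') * a) = 0 := by linear_combination e1 - e2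
      have d1' := (mul_eq_zero.1 d1).resolve_left h01
      have d2' := (mul_eq_zero.1 d2).resolve_left h12
      have hw0 : (w - w') * (φ (φ a) - a) = 0 := by linear_combination d2' - d1'
      have hww := sub_eq_zero.1 ((mul_eq_zero.1 hw0).resolve_right h20)
      subst hww
      have hyy : y = y' := sub_eq_zero.1 (by linear_combination d1')
      subst hyy
      have hxx : x = x' := by linear_combination e
      subst hxx
      rfl
    have hbij : Function.Bijective f := by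
      haveI : Fintype (Fq φ) := Fintype.ofFinite _
      refine (Fintype.bijective_iff_injective_and_card f).2 ⟨hinj, ?_⟩
      have hc : Fintype.card (Fq φ) = q := by rw [← Nat.card_eq_fintype_card, D4.card_Fq hφ hK]
      rw [Fintype.card_prod, Fintype.card_prod, hc, hK]
      ring
    intro x
    obtain ⟨⟨s1, s2, s3⟩, rfl⟩ := hbij.2 x
    refine hadd (hadd ?_ (hscale s2.2 hmem)) (hscale s3.2 hsharp)
    simpa using hscale s1.2 hone
  refine (Subgroup.closure_le _).2 ?_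
  rintro g ⟨i, t, ht, rfl | rfl⟩
  · rw [(C).op_eq]
    change o (chevD4.simple (d4Node i).val) t ∈ H
    fin_cases i
    · show o (chevD4.simple (d4Node (0 : Fin 2)).val) t ∈ H
      rw [show chevD4.simple (d4Node 0).val = 18 by decide +kernel]
      exact (mem18_iff O t).2 (hfull t)
    · have ht' : φ t = t := by
        have := ht
        change (⇑φ)^[d4Twist.len (chevD4.simple (d4Node 1).val)] t = t at this
        rwa [d4_len] at this
      exact orb_mem O ((C).hR.rep_simple (1 : Fin 2)) ht'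
  · rw [(C).om_eq]
    fin_cases i
    · have hmem' : orb hD d4Twist φ (chevD4.neg ((C).p (0 : Fin 2))) t ∈
          (C).rgd.U ((C).rgd.w (0 : Fin 2) ((C).rgd.simple (0 : Fin 2))) := by
        rw [(C).rgd.w_simple]
        show _ ∈ (C).Uo ((C).repOf (chevD4.neg ((C).p (0 : Fin 2))))
        rw [(C).repOf_self ((C).hR.rep_negSimple _).1]
        refine (C).orb_mem_Uo ((C).hR.rep_negSimple _).1 ?_
        rw [((C).hR.rep_negSimple _).2]
        exact ht
      rw [← (C).rgd.map_conj_n] at hmem'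
      obtain ⟨y, hy, e⟩ := hmem'
      have hy' : y ∈ (C).Uo 18 := by
        have h := hy
        change y ∈ (C).Uo ((C).rgd.simple (0 : Fin 2)).1 at h
        rwa [(simple_val hD φ).1] at h
      obtain ⟨s, -, rfl⟩ := (C).mem_Uo (show 18 ∈ d4Twist.reps by decide) hy'
      have hn := O.M_le (n_mem_M hD φ (0 : Fin 2))
      show orb hD d4Twist φ (chevD4.neg ((C).p (0 : Fin 2))) t ∈ H
      rw [← e]
      exact mul_mem (mul_mem hn ((mem18_iff O s).2 (hfull s))) (inv_mem hn)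
    · have ht' : φ t = t := by
        have := ht
        change (⇑φ)^[d4Twist.len (chevD4.simple (d4Node 1).val)] t = t at this
        rwa [d4_len] at this
      exact orb_mem O ((C).hR.rep_negSimple (1 : Fin 2)).1 ht'

omit O in
/-- The subfield subgroup is maximal. -/
theorem subfield_maximal {K : Type*} [Field K] [Fintype K] (hD : Good chevD4) {q : ℕ} (hq : IsPrimePow q)
    (hK : Fintype.card K = q ^ 3) (M : Subgroup (GL chevD4.Idx K))
    (hM : ∀ g : GL chevD4.Idx K, g ∈ M ↔ g ∈ twistedD4 K q ∧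
      ∀ i j : chevD4.Idx, ((g : Matrix chevD4.Idx chevD4.Idx K) i j) ^ q = (g : Matrix chevD4.Idx chevD4.Idx K) i j) :
    M ≠ twistedD4 K q ∧ ∀ H : Subgroup (GL chevD4.Idx K), M ≤ H → H ≤ twistedD4 K q → H = M ∨ H = twistedD4 K q := by
  obtain ⟨φ, hφ⟩ := exists_qHom K hq three_pos hK
  have hG := twistedD4_eq hD hφ hK
  have hM' : M = Msub hD φ := Subgroup.ext fun g => by simp only [hM, hG, mem_Msub, hφ]
  have h3 := D4.cube_id hφ hK
  subst hM'
  rw [hG]
  refine ⟨fun e => ?_, fun H hle hH => ?_⟩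
  · obtain ⟨a, ha⟩ : ∃ a, φ a ≠ a := by
      by_contra h
      push Not at h
      have hc := D4.card_Fq hφ hK
      rw [Nat.card_congr (Equiv.subtypeUnivEquiv (p := fun x => x ∈ Fq φ) h), Nat.card_eq_fintype_card, hK] at hc
      have h1 := hq.one_lt
      have h2 : q * q ≥ 2 * q := Nat.mul_le_mul_right q h1
      have h3 : q ^ 3 = q * (q * q) := by ring
      nlinarith
    refine ha (eq_of_orb_mem hD φ (show 18 ∈ d4Twist.reps by decide) ?_)
    rw [e]
    exact orb_mem_G0 hD φ (show 18 ∈ d4Twist.reps by decide) (by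
      simpa [show d4Twist.len 18 = 3 by decide] using h3 a)
  · have O : Over hD φ H := ⟨h3, hle, hH⟩
    by_cases hF : Found hD φ H
    · exact Or.inr (eq_top_of_found O hφ hK hF)
    · exact Or.inl (le_antisymm (fun g hg => (found_or_mem O hg).resolve_left hF) hle)

end Cfsg.Agent.TwistE6D4.D4Sub
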