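import Cfsg.Agent.Lib.TwistE6D4.D4TorusCent
import Mathlib.Algebra.Field.ZMod
import Cfsg.Agent.EqLemmas

/-!
# The centraliser for q = 2

The centraliser of the torus element acts faithfully on the three root vectors of weight a, through
matrices over the field with two elements; `mem_levi_of_commute_two`.
-/

set_option autoImplicit false
set_option maxRecDepth 100000
set_option synthInstance.maxSize 4000

namespace Cfsg.Agent.TwistE6D4.D4

open Cfsg.Lie Cfsg.Lie.ChevalleyDatum Cfsg.Agent.Chev Matrix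

/-- The three roots of weight a. -/
def jR : Fin 3 → ℕ := ![18, 19, 6]

theorem jR_lt : ∀ i, jR i < chevD4.nroots := by decide +kernel

theorem jR_inj : Function.Injective jR := by decide +kernel

/-- Their coordinates. -/
def jI (i : Fin 3) : chevD4.Idx := Sum.inr ⟨jR i, jR_lt i⟩

/-- The matrix of a root element. -/
def m2 (r : ℕ) : Matrix (Fin 3) (Fin 3) (ZMod 2) := ((xR chevD4 ℤ r 1).submatrix jI jI).map Int.cast

/-- The matrix of a word in root elements. -/
def pl (L : List ℕ) : Matrix (Fin 3) (Fin 3) (ZMod 2) := (L.map m2).prod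

/-- The matrix of a Weyl representative. -/
def p2 (w : List (Fin 2)) : Matrix (Fin 3) (Fin 3) (ZMod 2) :=
  Matrix.of fun a b => if jR a = wW d4Twist d4Node w (jR b) then 1 else 0

/-- The element of order three. -/
def x2 : Matrix (Fin 3) (Fin 3) (ZMod 2) := m2 14 * p2 [1]

theorem x2_cube : x2 * x2 * x2 = 1 := by decide +kernel

theorem table : ∀ L ∈ ([14, 22, 23] : List ℕ).sublists, ∀ w ∈ words, (∀ i, ∃ j, wW d4Twist d4Node w (jR i) = jR j) →
    ∀ L' ∈ ([14, 22, 23] : List ℕ).sublists,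
      (pl L * p2 w * pl L' * x2 = x2 * (pl L * p2 w * pl L') →
        pl L * p2 w * pl L' = 1 ∨ pl L * p2 w * pl L' = x2 ∨ pl L * p2 w * pl L' = x2 * x2) ∧
      (pl L * p2 w * pl L' = 1 → w = []) := by decide +kernel

theorem mem14_lt : ∀ r ∈ [14, 22, 23], r < chevD4.nroots := by decide +kernel

theorem table₀ : p2 [] = 1 ∧ ∀ L ∈ ([14, 22, 23] : List ℕ).sublists, pl L = 1 → L = [] := by decide +kernel

variable {K : Type*} [Field K] [CharP K 2] {φ : K →+* K} (hD : Good chevD4) {u γ : Kˣ}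
  (P : Central φ 2 u γ)

local notation "C" => ctxD4 hD φ
local notation "o" => orb hD d4Twist φ
local notation "θ" => theta chevD4 K (tor φ u γ)
local notation "ι" => ZMod.castHom (dvd_refl 2) K

/-- The block on the three roots. -/
def sub (g : GL chevD4.Idx K) : Matrix (Fin 3) (Fin 3) K := (g : Matrix chevD4.Idx chevD4.Idx K).submatrix jI jI

omit [CharP K 2] in
theorem sub_one : sub (1 : GL chevD4.Idx K) = 1 := by
  rw [sub, Units.val_one]
  exact Matrix.submatrix_one _ fun a b h => jR_inj (congrArg Fin.val (Sum.inr_injective h))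

include P

omit [CharP K 2] in
theorem gamma_one : γ = 1 := by
  refine Units.ext (mul_right_cancel₀ γ.ne_zero ?_)
  rw [Units.val_one, one_mul, ← pow_two, ← P.pow, P.fixed]

omit [CharP K 2] in
theorem fix01 {y : K} (hy : φ y = y) : y = 0 ∨ y = 1 := by
  rw [P.pow, pow_two] at hy
  rcases eq_or_ne y 0 with h | h
  · exact Or.inl h
  · exact Or.inr ((mul_eq_right₀ h).1 hy)

omit [CharP K 2] in
theorem nm_eq_one (v : Kˣ) : (v : K) * φ v * φ (φ v) = 1 := by
  rcases fix01 P (show φ ((v : K) * φ v * φ (φ v)) = _ from fix_norm P.h3 _) with h | h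
  · exact absurd h (mul_ne_zero (mul_ne_zero v.ne_zero (by simp)) (by simp))
  · exact h

omit [CharP K 2] in
theorem chi_jR (v : Kˣ) (i : Fin 3) : (chiX (tor φ v 1) (jR i) : K) = (v : K) ^ 2 := by
  obtain ⟨v18, -, -, v19, -, -, -, v6⟩ := chi_values (φ := φ) v 1
  have h := nm_eq_one P v
  have h1 : φ (v : K) ≠ 0 := by simp
  have h2 : φ (φ (v : K)) ≠ 0 := by simp
  fin_cases i
  · show (chiX (tor φ v 1) 18 : K) = _
    rw [v18, Units.val_one, div_one]
  · show (chiX (tor φ v 1) 19 : K) = _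
    rw [v19, Units.val_one, one_mul]
    field_simp
    linear_combination -h
  · show (chiX (tor φ v 1) 6 : K) = _
    rw [v6]
    field_simp
    linear_combination -h

include hD in
/-- Products are blockwise when the left factor commutes with the torus element. -/
theorem sub_mul {g : GL chevD4.Idx K} (hg : θ * g = g * θ) (h : GL chevD4.Idx K) :
    sub (g * h) = sub g * sub h := by
  have hγ : γ = 1 := gamma_one P
  obtain ⟨-, -, -, -, -, -, -, -, -, -, f11⟩ := P.facts
  ext a b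
  simp only [sub, Units.val_mul, Matrix.submatrix_apply, Matrix.mul_apply]
  have hinj : Function.Injective jI := fun a b h => jR_inj (congrArg Fin.val (Sum.inr_injective h))
  rw [← Finset.sum_image (f := fun c => (g : Matrix chevD4.Idx chevD4.Idx K) (jI a) c *
    (h : Matrix chevD4.Idx chevD4.Idx K) c (jI b)) (s := Finset.univ) (g := jI) hinj.injOn]
  refine (Finset.sum_subset (Finset.subset_univ _) fun c _ hc => ?_).symm
  have e := congrFun (congrFun (congrArg (fun k : GL chevD4.Idx K => (k : Matrix chevD4.Idx chevD4.Idx K)) hg) (jI a)) c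
  simp only [Units.val_mul, coe_theta, ChevBN.dg, Matrix.diagonal_mul, Matrix.mul_diagonal] at e
  have ha : (chiX (tor φ u γ) (jR a) : K) = (u : K) ^ 2 / γ := by
    rw [hγ, chi_jR P, Units.val_one, div_one]
  rcases eq_or_ne ((g : Matrix chevD4.Idx chevD4.Idx K) (jI a) c) 0 with h0 | h0
  · rw [h0, zero_mul]
  exfalso
  rcases c with i | ⟨r, hr⟩
  · simp only [jI, Sum.elim_inr, Sum.elim_inl, mul_one] at e
    rw [ha] at e
    exact f11 ((mul_eq_right₀ h0).1 e)
  · simp only [jI, Sum.elim_inr] at e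
    rw [ha, mul_comm] at e
    have h1 := (mul_left_cancel₀ h0 e).symm
    refine hc (Finset.mem_image.2 ?_)
    rcases P.chi_eq_a hD hr h1 with h | ⟨-, rfl⟩
    · simp only [List.mem_cons, List.not_mem_nil, or_false] at h
      rcases h with rfl | rfl
      · exact ⟨0, Finset.mem_univ _, rfl⟩
      · exact ⟨1, Finset.mem_univ _, rfl⟩
    · exact ⟨2, Finset.mem_univ _, rfl⟩

theorem sub_gx (r : ℕ) (hr : r < chevD4.nroots) : sub (gx hD K r 1) = (m2 r).map ι := by
  rw [sub, coe_gx, x_eq_xR chevD4 hr,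
    show xR chevD4 K r 1 = (xR chevD4 ℤ r 1).map (Int.castRingHom K) by rw [xR_map, map_one]]
  ext a b
  simp [m2]

theorem commute_gx14 {r : ℕ} (hr : r ∈ [14, 22, 23]) : θ * gx hD K r 1 = gx hD K r 1 * θ := by
  obtain ⟨-, v14, -, -, -, v22, v23⟩ := P.values
  have hγ : (γ : K) = 1 := by rw [gamma_one P, Units.val_one]
  rw [← mul_inv_eq_iff_eq_mul, theta_conj_gx hD _ (mem14_lt r hr)]
  simp only [List.mem_cons, List.not_mem_nil, or_false] at hr
  rcases hr with rfl | rfl | rfl
  · rw [v14, one_mul]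
  · rw [v22, hγ, one_mul]
  · rw [v23, hγ, one_mul]

theorem sub_word : ∀ L : List ℕ, (∀ r ∈ L, r ∈ [14, 22, 23]) →
    sub ((L.map fun r => gx hD K r 1).prod) = (pl L).map ι
  | [], _ => by rw [List.map_nil, List.prod_nil, sub_one, pl, List.map_nil, List.prod_nil, Matrix.map_one] <;> simp
  | r :: L, h => by
    have hr := h r (List.mem_cons_self ..)
    rw [List.map_cons, List.prod_cons, sub_mul hD P (commute_gx14 hD P hr),
      sub_gx hD P r (mem14_lt r hr), sub_word L fun x hx => h x (List.mem_cons_of_mem _ hx),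
      show pl (r :: L) = m2 r * pl L by simp [pl], Matrix.map_mul]

omit P in
theorem sub_nw (w : List (Fin 2)) (hw : ∀ i, ∃ j, wW d4Twist d4Node w (jR i) = jR j) :
    sub ((C).rgd.nw w) = (p2 w).map ι := by
  ext a b
  obtain ⟨j, hj⟩ := hw b
  obtain ⟨hlt, z, hz, e⟩ := (C).monomial_mulVec w (jR_lt b)
  have e1 := congrFun e (jI a)
  rw [ev_of_lt chevD4 K (jR_lt b), Matrix.mulVec_single_one] at e1
  change ((C).rgd.nw w : Matrix chevD4.Idx chevD4.Idx K) (jI a) (jI b) = _ at e1
  have hz1 : (z : K) = 1 := by rcases hz with rfl | rfl <;> simp [CharTwo.neg_eq]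
  simp only [sub, Matrix.submatrix_apply, e1, Pi.smul_apply, hz1, one_smul, Matrix.map_apply, p2, Matrix.of_apply]
  by_cases h : jR a = wW d4Twist d4Node w (jR b) <;> simp [h, ev, jI]

theorem sub_torus {t : GL chevD4.Idx K} (ht : t ∈ (C).H0) :
    ∃ v : Kˣ, t = theta chevD4 K (tor φ v 1) ∧ sub t = (v : K) ^ 2 • 1 := by
  obtain ⟨x, hx, rfl⟩ := ht
  obtain ⟨v, c, hc, rfl⟩ := tor_surj hx
  obtain rfl : c = 1 := Units.ext ((fix01 P hc).resolve_left c.ne_zero)
  refine ⟨v, rfl, ?_⟩
  ext a b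
  rcases eq_or_ne a b with rfl | hab
  · simp [sub, coe_theta, ChevBN.dg, jI, chi_jR P]
  · simp [sub, coe_theta, ChevBN.dg, jI, hab, jR_inj.eq_iff]

theorem commute_torus {t : GL chevD4.Idx K} (ht : t ∈ (C).H0) : θ * t = t * θ := by
  obtain ⟨y, -, rfl⟩ := ht
  rw [← map_mul, mul_comm, map_mul]

theorem pos_word {a : GL chevD4.Idx K} (ha : a ∈ (C).rgd.Upos) (ca : θ * a = a * θ) :
    ∃ L ∈ ([14, 22, 23] : List ℕ).sublists, a = (L.map fun r => gx hD K r 1).prod := by
  obtain ⟨x, y, z, w, v, e, hy, hv, he, rfl, c18, c15, c17, -, -⟩ := pos_centralizer hD P.mem ha ca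
  obtain ⟨v18, -, v15, -, v17, -, -⟩ := P.values
  obtain ⟨f1, -, -, -, -, -, f7, f8, -, -, f11⟩ := P.facts
  rw [v18] at c18
  rw [v15] at c15
  rw [v17] at c17
  obtain rfl := c18.resolve_left f11
  obtain rfl := c15.resolve_left f8
  obtain rfl := c17.resolve_left (fun h => by
    have h' := P.norm_a
    rw [mul_assoc, h, mul_one] at h'
    exact f1 (h'.symm ▸ P.fixed))
  simp only [(C).orb_zero, one_mul, mul_one]
  classical
  refine ⟨(if y = 0 then [] else [14]) ++ (if v = 0 then [] else [22]) ++ (if e = 0 then [] else [23]), ?_, ?_⟩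
  · split_ifs <;> decide
  · have g : ∀ {r : ℕ}, d4Twist.len r = 1 → ∀ {t : K}, φ t = t →
        o r t = ((if t = 0 then [] else [r]).map fun r => gx hD K r (1 : K)).prod := fun {r} hl {t} ht => by
      rcases fix01 P ht with rfl | rfl
      · simp [(C).orb_zero]
      · simp [orb14_eq hD r hl]
    rw [g (by decide) hy, g (by decide) hv, g (by decide) he, List.map_append, List.map_append, List.prod_append,
      List.prod_append]

/-- The block of an element of the centraliser. -/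
theorem sub_decomp {g : GL chevD4.Idx K} (hg : g ∈ (C).G0) (hc : θ * g = g * θ) :
    ∃ v : Kˣ, ∃ L ∈ ([14, 22, 23] : List ℕ).sublists, ∃ w ∈ words, ∃ L' ∈ ([14, 22, 23] : List ℕ).sublists,
      (∀ i, ∃ j, wW d4Twist d4Node w (jR i) = jR j) ∧ (w = [] → L = [] → g = theta chevD4 K (tor φ v 1)) ∧
      (w = [] → L' = []) ∧ sub g = (v : K) ^ 2 • (pl L * p2 w * pl L').map ι := by
  obtain ⟨a, ha, t, ht, w, hw, b, hb, rfl, ca, cb, cw, -⟩ := decomp_word hD P hg hc
  obtain ⟨L, hL, ea⟩ := pos_word hD P ha ca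
  obtain ⟨v, hv, hs⟩ := sub_torus hD P ht
  have ct := commute_torus hD P ht
  have hJ : ∀ i, ∃ j, wW d4Twist d4Node w (jR i) = jR j := by
    intro i
    have h1 : (chiX (tor φ u γ) (jR i) : K) = (u : K) ^ 2 / γ := by
      rw [gamma_one P, chi_jR P, Units.val_one, div_one]
    obtain ⟨hlt, -⟩ := (C).monomial_mulVec w (jR_lt i)
    rcases P.chi_eq_a hD hlt ((congrArg Units.val ((C).chi_wW cw (jR_lt i))).trans h1) with h | ⟨-, h⟩
    · simp only [List.mem_cons, List.not_mem_nil, or_false] at h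
      rcases h with h | h
      · exact ⟨0, h⟩
      · exact ⟨1, h⟩
    · exact ⟨2, h⟩
  by_cases hw0 : w = []
  · subst hw0
    rw [Uminus_nil, Subgroup.mem_bot] at hb
    subst hb
    refine ⟨v, L, hL, [], hw, [], by decide, hJ, fun _ e => ?_, fun _ => rfl, ?_⟩
    · rw [ea, e, hv]; simp
    · rw [RGD.RootData.nw_nil, mul_one, mul_one, sub_mul hD P ca, hs, ea,
        sub_word hD P L (fun r hr => List.Sublist.subset (List.mem_sublists.1 hL) hr), table₀.1,
        show pl ([] : List ℕ) = 1 from rfl, mul_one, mul_one, Matrix.mul_smul, mul_one]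
  · obtain ⟨L', hL', eb⟩ := pos_word hD P ((C).rgd.Uminus_le_Upos w hb) cb
    have cat : θ * (a * t) = a * t * θ := by rw [← mul_assoc, ca, mul_assoc, ct, ← mul_assoc]
    have catw : θ * (a * t * (C).rgd.nw w) = a * t * (C).rgd.nw w * θ := by
      rw [← mul_assoc, cat, mul_assoc, cw, ← mul_assoc]
    refine ⟨v, L, hL, w, hw, L', hL', hJ, fun e => absurd e hw0, fun e => absurd e hw0, ?_⟩
    rw [sub_mul hD P catw, sub_mul hD P cat, sub_mul hD P ca, hs, sub_nw hD w hJ, ea, eb,
      sub_word hD P L (fun r hr => List.Sublist.subset (List.mem_sublists.1 hL) hr),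
      sub_word hD P L' (fun r hr => List.Sublist.subset (List.mem_sublists.1 hL') hr)]
    simp [Matrix.map_mul]

/-- The element of order three. -/
theorem x0_facts : gx hD K 14 1 * (C).rgd.nw [(1 : Fin 2)] ∈ (levi (φ := φ) hD).range ∧
    θ * (gx hD K 14 1 * (C).rgd.nw [(1 : Fin 2)]) = gx hD K 14 1 * (C).rgd.nw [(1 : Fin 2)] * θ ∧
    sub (gx hD K 14 1 * (C).rgd.nw [(1 : Fin 2)]) = x2.map ι := by
  have c14 := commute_gx14 hD P (r := 14) (by simp)
  have hJ : ∀ i, ∃ j, wW d4Twist d4Node [1] (jR i) = jR j := by decide +kernel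
  have cn : θ * (C).rgd.nw [(1 : Fin 2)] = (C).rgd.nw [(1 : Fin 2)] * θ := by
    rw [← mul_inv_eq_iff_eq_mul, nw_one]
    obtain ⟨-, v14, -, -, -, -, -⟩ := P.values
    have h9 : (chiX (tor φ u γ) 9 : K) = 1 := by rw [← neg14, chiX_neg hD _ lt14, v14, inv_one]
    show theta chevD4 K (tor φ u γ) * Chev.RankOne.phi hD (r := 14) Chev.RankOne.slW * _ = _
    have e : Chev.RankOne.phi hD (r := 14) (Chev.RankOne.slW (F := K)) = gx hD K 14 1 * gx hD K 9 1 * gx hD K 14 1 := by
      simp [Chev.RankOne.phi, Chev.RankOne.phiE, Chev.RankOne.slW, ChevBN.xg_zero, ng_eq hD, neg14, CharTwo.neg_eq]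
    rw [show Chev.RankOne.sl2Hom hD lt14 (Chev.RankOne.slW (F := K)) = Chev.RankOne.phi hD (r := 14) Chev.RankOne.slW
      from rfl, e]
    conv_rhs => rw [show gx hD K 14 (1 : K) = θ * gx hD K 14 1 * (θ)⁻¹ by rw [c14, mul_inv_cancel_right],
      show gx hD K 9 (1 : K) = θ * gx hD K 9 1 * (θ)⁻¹ by
        rw [theta_conj_gx hD _ (by decide +kernel), h9, one_mul]]
    group
  refine ⟨mul_mem ?_ (mem_levi_nw hD P.h3), by rw [← mul_assoc, c14, mul_assoc, cn, ← mul_assoc], ?_⟩
  · have := mem_levi_pos hD P.h3 (map_one φ)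
    rwa [orb14_eq hD 14 (by decide)] at this
  · rw [sub_mul hD P c14, sub_gx hD P 14 lt14, sub_nw hD [1] hJ, x2, Matrix.map_mul]

/-- For q = 2 the centraliser of the two elements lies in the Levi subgroup. -/
theorem mem_levi_of_commute_two {g : GL chevD4.Idx K} (hg : g ∈ (C).G0) (hc : θ * g = g * θ)
    (hx : gx hD K 14 1 * (C).rgd.nw [(1 : Fin 2)] * g = g * (gx hD K 14 1 * (C).rgd.nw [(1 : Fin 2)])) :
    g ∈ (levi (φ := φ) hD).range := by
  obtain ⟨hXr, cX, hX⟩ := x0_facts hD P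
  set X0 := gx hD K 14 1 * (C).rgd.nw [(1 : Fin 2)]
  have hinj : Function.Injective (fun A : Matrix (Fin 3) (Fin 3) (ZMod 2) => A.map ι) := fun A B h =>
    Matrix.ext fun i j => (ι).injective (congrFun (congrFun h i) j)
  obtain ⟨v, L, hL, w, hw, L', hL', hJ, -, -, hsub⟩ := sub_decomp hD P hg hc
  set A := pl L * p2 w * pl L'
  have hA : A * x2 = x2 * A := by
    refine hinj ?_
    have h1 : sub (g * X0) = sub (X0 * g) := by rw [hx]
    rw [sub_mul hD P hc, sub_mul hD P cX, hsub, hX, Matrix.smul_mul, Matrix.mul_smul,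
      ← Matrix.map_mul, ← Matrix.map_mul] at h1
    exact smul_right_injective _ (pow_ne_zero 2 v.ne_zero) h1
  obtain ⟨k, hk⟩ : ∃ k : ℕ, A = x2 ^ k := by
    rcases ((table L hL w hw hJ L' hL').1 hA) with h | h | h
    · exact ⟨0, h.trans (pow_zero _).symm⟩
    · exact ⟨1, h.trans (pow_one _).symm⟩
    · exact ⟨2, h.trans (pow_two _).symm⟩
  have cXk : ∀ k : ℕ, θ * X0 ^ k = X0 ^ k * θ := fun k => (Commute.pow_right (show Commute (θ) X0 from cX) k).eq
  have subXk : ∀ k : ℕ, sub (X0 ^ k) = (x2 ^ k).map ι := fun k => by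
    induction k with
    | zero => rw [pow_zero, pow_zero, sub_one, Matrix.map_one] <;> simp
    | succ k ih => rw [pow_succ, pow_succ, sub_mul hD P (cXk k), ih, hX, Matrix.map_mul]
  set t := theta chevD4 K (tor φ v 1)
  have htH : t ∈ (C).H0 := ⟨_, tor_mem P.h3 v (map_one φ), rfl⟩
  have ct := commute_torus hD P htH
  set g' := t⁻¹ * g * (X0 ^ k)⁻¹
  have cg' : θ * g' = g' * θ :=
    ((((show Commute (θ) t from ct).inv_right).mul_right (show Commute (θ) g from hc)).mul_right
      ((show Commute (θ) (X0 ^ k) from cXk k).inv_right)).eq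
  have hXG : X0 ∈ (C).G0 := by
    obtain ⟨p, hp⟩ := hXr
    exact hp ▸ levi_mem_G0 hD P.h3 p
  have hg' : g' ∈ (C).G0 := mul_mem (mul_mem (inv_mem ((C).H0_le_G0 htH)) hg) (inv_mem (pow_mem hXG k))
  have hsub' : sub g' = 1 := by
    have e : sub g = (v : K) ^ 2 • (sub g' * (x2 ^ k).map ι) := by
      obtain ⟨v', hv', hs'⟩ := sub_torus hD P htH
      have hst : sub t = (v : K) ^ 2 • 1 := by
        ext a b
        rcases eq_or_ne a b with rfl | hab
        · simp [sub, t, coe_theta, ChevBN.dg, jI, chi_jR P]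
        · simp [sub, t, coe_theta, ChevBN.dg, jI, hab, jR_inj.eq_iff]
      calc sub g = sub (t * g' * X0 ^ k) := by congr 1; simp only [g']; group
        _ = _ := by rw [sub_mul hD P (by rw [← mul_assoc, ct, mul_assoc, cg', ← mul_assoc]), sub_mul hD P ct, hst,
          subXk, Matrix.smul_mul, Matrix.one_mul, Matrix.smul_mul]
    rw [hsub, hk] at e
    have e' : (x2 ^ k).map ι = sub g' * (x2 ^ k).map ι := smul_right_injective _ (pow_ne_zero 2 v.ne_zero) e
    have hk3 : (x2 ^ k).map ι * (x2 ^ (2 * k)).map ι = 1 := by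
      rw [← Matrix.map_mul, ← pow_add, show k + 2 * k = 3 * k by ring, pow_mul,
        show x2 ^ 3 = 1 by rw [pow_succ, pow_two, x2_cube], one_pow, Matrix.map_one] <;> simp
    have := congrArg (· * (x2 ^ (2 * k)).map ι) e'
    simp only [mul_assoc, hk3, mul_one] at this
    exact this.symm
  obtain ⟨v1, L1, hL1, w1, hw1, L1', hL1', hJ1, hid, hnil, hsub1⟩ := sub_decomp hD P hg' cg'
  rw [hsub'] at hsub1
  have h00 := congrFun (congrFun hsub1 0) 0
  simp only [Matrix.one_apply_eq, Matrix.smul_apply, Matrix.map_apply, smul_eq_mul] at h00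
  set A1 := pl L1 * p2 w1 * pl L1'
  have hA00 : A1 0 0 = 1 := by
    rcases (show ∀ x : ZMod 2, x = 0 ∨ x = 1 by decide) (A1 0 0) with h | h
    · rw [h, map_zero, mul_zero] at h00; exact absurd h00 one_ne_zero
    · exact h
  rw [hA00, map_one, mul_one] at h00
  have hA1 : A1 = 1 := by
    refine hinj ?_
    rw [← h00, one_smul] at hsub1
    show A1.map ι = (1 : Matrix (Fin 3) (Fin 3) (ZMod 2)).map ι
    rw [← hsub1, Matrix.map_one] <;> simp
  obtain rfl := (table L1 hL1 w1 hw1 hJ1 L1' hL1').2 hA1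
  obtain rfl := hnil rfl
  have hL1e : L1 = [] := table₀.2 L1 hL1 (by simpa [A1, table₀.1, pl] using hA1)
  have hg1 := hid rfl hL1e
  have hv1 : v1 = 1 := Units.ext (by
    rcases sq_eq_one_iff.1 h00.symm with h | h
    · exact h
    · rw [h, CharTwo.neg_eq]; rfl)
  rw [hv1, tor_one] at hg1
  have : g = t * X0 ^ k := by
    have h1 : t⁻¹ * g * (X0 ^ k)⁻¹ = 1 := hg1
    calc g = t * (t⁻¹ * g * (X0 ^ k)⁻¹) * X0 ^ k := by group
      _ = t * X0 ^ k := by rw [h1, mul_one]
  rw [this]
  exact mul_mem (mem_levi_torus hD P.h3 htH) (pow_mem hXr k)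

end Cfsg.Agent.TwistE6D4.D4
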