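import Cfsg.Agent.Lib.TwistE6D4.Collect
import Cfsg.Agent.Lib.TwistE6D4.Results
import Cfsg.Agent.EqLemmas

/-!
# Identities between orbit elements of ³D₄ in characteristic two

`O r p`: the word of the orbit element with polynomial parameter `p`; `orb_prod_eq`: products of orbit
elements with equal normal forms are equal. The identities used for the involution classes follow.
-/

set_option autoImplicit false
set_option maxRecDepth 100000

namespace Cfsg.Agent.TwistE6D4.D4

open Cfsg.Lie Cfsg.Lie.ChevalleyDatum Cfsg.Agent.Chev Cfsg.Agent.TwistE6D4.Collect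

/-- The action of the field automorphism on variables: four triples, then fixed variables. -/
def nxt (i : ℕ) : ℕ := if i < 12 then (if i % 3 = 2 then i - 2 else i + 1) else i

/-- The action of the field automorphism on polynomials. -/
def cyc (p : Poly) : Poly := p.foldr (fun m acc => addM ((m.map nxt).foldr insV []) acc) []

/-- An orbit element as a word. -/
def O (e : ℕ × Poly) : List (ℕ × Poly) :=
  (List.range (d4Twist.len e.1)).map fun i => (d4Twist.rho^[i] e.1, cyc^[i] e.2)

/-- The order of collection. -/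
def key (r : ℕ) : ℕ := (d4Twist.ht r + 10).toNat * 100 + r

theorem esgn_cast {D : ChevalleyDatum} {T : Twist D} (hT : TwistOK T) {K : Type*} [Field K] [CharP K 2] {r : ℕ}
    (hr : r < D.nroots) : ∀ i, (esgn T r i : K) = 1
  | 0 => by simp [esgn]
  | i + 1 => by
    have h : (T.eps (T.rho^[i] r) : K) = 1 := by
      rcases mul_self_eq_one_iff.1 (hT.eps_sq _ (hT.iter_lt hr i)) with e | e <;> simp [e, CharTwo.neg_eq]
    have ih := esgn_cast hT (K := K) hr i
    simp only [esgn, List.range_succ, List.map_append, List.prod_append, List.map_cons, List.map_nil,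
      List.prod_cons, List.prod_nil, mul_one, Int.cast_mul] at ih ⊢
    rw [ih, h, mul_one]

variable {K : Type*} [Field K] [CharP K 2] (hD : Good chevD4) (φ : K →+* K) {σ : ℕ → K}

omit hD in
theorem evalP_cyc (hσ : ∀ i, σ (nxt i) = φ (σ i)) (p : Poly) : evalP σ (cyc p) = φ (evalP σ p) := by
  induction p with
  | nil => simp [cyc, evalP]
  | cons m p ih =>
    have h2 : ((List.map nxt m).map σ).prod = φ (m.map σ).prod := by
      rw [map_list_prod, List.map_map, List.map_map]
      exact congrArg List.prod (List.map_congr_left fun i _ => hσ i)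
    rw [cyc, List.foldr_cons, evalP_addM, ← cyc, ih, foldr_insV_prod, h2, List.map_nil, List.prod_nil, mul_one]
    simp [evalP]

theorem evalW_O (hσ : ∀ i, σ (nxt i) = φ (σ i)) {e : ℕ × Poly} (he : e.1 ∈ d4Twist.reps) :
    evalW hD σ (O e) = orb hD d4Twist φ e.1 (evalP σ e.2) := by
  rw [evalW, O, orb, List.map_map]
  refine congrArg List.prod (List.map_congr_left fun i _ => ?_)
  simp only [Function.comp_apply, evalE, cf, esgn_cast d4Twist_ok (d4Twist_ok.rep_lt _ he).1, one_mul]
  congr 1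
  have key' : ∀ i, evalP σ (cyc^[i] e.2) = (⇑φ)^[i] (evalP σ e.2) := fun i => by
    induction i with
    | zero => rfl
    | succ i ih => rw [Function.iterate_succ_apply', Function.iterate_succ_apply', evalP_cyc φ hσ, ih]
  exact key' i

/-- Products of orbit elements with equal normal forms are equal. -/
theorem orb_prod_eq (hσ : ∀ i, σ (nxt i) = φ (σ i)) {A B : List (ℕ × Poly)}
    (hA : ∀ e ∈ A, e.1 ∈ d4Twist.reps) (hB : ∀ e ∈ B, e.1 ∈ d4Twist.reps)
    (h : norm chevD4 key 64 (A.flatMap O) = norm chevD4 key 64 (B.flatMap O)) :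
    (A.map fun e => orb hD d4Twist φ e.1 (evalP σ e.2)).prod =
      (B.map fun e => orb hD d4Twist φ e.1 (evalP σ e.2)).prod := by
  have key' : ∀ L : List (ℕ × Poly), (∀ e ∈ L, e.1 ∈ d4Twist.reps) →
      evalW hD σ (L.flatMap O) = (L.map fun e => orb hD d4Twist φ e.1 (evalP σ e.2)).prod := by
    intro L hL
    induction L with
    | nil => rfl
    | cons e L ih =>
      rw [List.flatMap_cons, evalW_append, evalW_O hD φ hσ (hL e (List.mem_cons_self ..)),
        ih fun x hx => hL x (List.mem_cons_of_mem _ hx), List.map_cons, List.prod_cons]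
  rw [← key' A hA, ← key' B hB]
  exact evalW_eq hD σ key 64 h

/-- The values of the variables. -/
def env (x z w s y r v e : K) : ℕ → K := fun i =>
  [x, φ x, φ (φ x), z, φ z, φ (φ z), w, φ w, φ (φ w), s, φ s, φ (φ s), y, r, v, e].getD i 0

theorem env_nxt (h3 : ∀ t, φ (φ (φ t)) = t) {x z w s y r v e : K} (hy : φ y = y) (hr : φ r = r) (hv : φ v = v)
    (he : φ e = e) : ∀ i, env φ x z w s y r v e (nxt i) = φ (env φ x z w s y r v e i) := by
  intro i
  by_cases hi : i < 16
  · interval_cases i <;> simp [env, nxt, h3, hy, hr, hv, he]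
  · have h0 : env φ x z w s y r v e i = 0 := List.getD_eq_default _ _ (by simpa using Nat.not_lt.1 hi)
    rw [nxt, if_neg (by omega), h0, map_zero]

/-! ### The identities -/

variable {φ} (h3 : ∀ t, φ (φ (φ t)) = t)
include h3

local notation "o" => orb hD d4Twist φ

omit [CharP K 2] in
theorem fix_norm (x : K) : φ (x * φ x * φ (φ x)) = x * φ x * φ (φ x) := by
  simp only [map_mul, h3]; ring

omit [CharP K 2] in
theorem fix_trace (x : K) : φ (x + φ x + φ (φ x)) = x + φ x + φ (φ x) := by
  simp only [map_add, h3]; ring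


/-- An identity between products of orbit elements, read off the normal forms. -/
theorem ident {x z w s y r v e : K} (hy : φ y = y) (hr : φ r = r) (hv : φ v = v) (he : φ e = e)
    (A B : List (ℕ × Poly)) (hA : ∀ p ∈ A, p.1 ∈ d4Twist.reps) (hB : ∀ p ∈ B, p.1 ∈ d4Twist.reps)
    (h : norm chevD4 key 64 (A.flatMap O) = norm chevD4 key 64 (B.flatMap O)) :
    (A.map fun p => o p.1 (evalP (env φ x z w s y r v e) p.2)).prod =
      (B.map fun p => o p.1 (evalP (env φ x z w s y r v e) p.2)).prod :=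
  orb_prod_eq hD φ (env_nxt φ h3 hy hr hv he) hA hB h

theorem sq_six (x z w : K) {y v e : K} (hy : φ y = y) (hv : φ v = v) (he : φ e = e) :
    ∃ B C E, (o 18 x * o 14 y * o 15 z * o 17 w * o 22 v * o 23 e) *
      (o 18 x * o 14 y * o 15 z * o 17 w * o 22 v * o 23 e) = o 15 (φ (φ x) * y) * (o 17 B * o 22 C * o 23 E) := by
  have h := ident hD h3 (x := x) (z := z) (w := w) (s := 0) (r := 0) hy (map_zero φ) hv he
    [(18, [[0]]), (14, [[12]]), (15, [[3]]), (17, [[6]]), (22, [[14]]), (23, [[15]]),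
      (18, [[0]]), (14, [[12]]), (15, [[3]]), (17, [[6]]), (22, [[14]]), (23, [[15]])]
    [(15, [[2, 12]]), (17, [[1, 2, 12], [1, 3], [2, 5]]),
      (22, [[0, 1, 2, 12], [0, 1, 3], [0, 2, 5], [0, 6], [1, 2, 4], [1, 7], [2, 8]]),
      (23, [[0, 1, 3, 12], [0, 2, 5, 12], [0, 3, 5], [0, 6, 12], [1, 2, 4, 12], [1, 3, 4], [1, 7, 12], [2, 4, 5],
        [2, 8, 12], [3, 8], [4, 6], [5, 7], [12, 14]])] (by decide) (by decide) (by decide +kernel)
  exact ⟨_, _, _, by simpa [evalP, env, mul_assoc] using h⟩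

theorem sq_five (x z w : K) {v e : K} (hv : φ v = v) (he : φ e = e) :
    ∃ C E, (o 18 x * o 15 z * o 17 w * o 22 v * o 23 e) * (o 18 x * o 15 z * o 17 w * o 22 v * o 23 e) =
      o 17 (φ x * z + φ (φ x) * φ (φ z)) * (o 22 C * o 23 E) := by
  have h := ident hD h3 (x := x) (z := z) (w := w) (s := 0) (y := 0) (r := 0) (map_zero φ) (map_zero φ) hv he
    [(18, [[0]]), (15, [[3]]), (17, [[6]]), (22, [[14]]), (23, [[15]]),
      (18, [[0]]), (15, [[3]]), (17, [[6]]), (22, [[14]]), (23, [[15]])]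
    [(17, [[1, 3], [2, 5]]), (22, [[0, 1, 3], [0, 2, 5], [0, 6], [1, 2, 4], [1, 7], [2, 8]]),
      (23, [[0, 3, 5], [1, 3, 4], [2, 4, 5], [3, 8], [4, 6], [5, 7]])] (by decide) (by decide) (by decide +kernel)
  exact ⟨_, _, by simpa [evalP, env, mul_assoc] using h⟩

theorem conj_b (x z w : K) {r v e : K} (hr : φ r = r) (hv : φ v = v) (he : φ e = e) :
    ∃ B C E, φ C = C ∧ φ E = E ∧ o 14 r * (o 18 x * o 15 z * o 17 w * o 22 v * o 23 e) * o 14 r =
      o 18 x * o 15 (φ (φ x) * r + z) * o 17 B * o 22 C * o 23 E := by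
  have h := ident hD h3 (x := x) (z := z) (w := w) (s := 0) (y := 0) (map_zero φ) hr hv he
    [(14, [[13]]), (18, [[0]]), (15, [[3]]), (17, [[6]]), (22, [[14]]), (23, [[15]]), (14, [[13]])]
    [(18, [[0]]), (15, [[2, 13], [3]]), (17, [[1, 2, 13], [6]]), (22, [[0, 1, 2, 13], [14]]),
      (23, [[0, 1, 3, 13], [0, 2, 5, 13], [1, 2, 4, 13], [13, 14], [15]])] (by decide) (by decide) (by decide +kernel)
  refine ⟨_, _, _, ?_, ?_, by simpa [evalP, env, mul_assoc] using h⟩
  all_goals simp only [map_add, map_mul, h3, hr, hv, he] <;> ring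

theorem conj_a (z w s : K) {y v e : K} (hy : φ y = y) (hv : φ v = v) (he : φ e = e) :
    ∃ B C E, φ C = C ∧ φ E = E ∧ o 18 s * (o 14 y * o 15 z * o 17 w * o 22 v * o 23 e) * o 18 s =
      o 14 y * o 15 (z + φ (φ s) * y) * o 17 B * o 22 C * o 23 E := by
  have h := ident hD h3 (x := 0) (z := z) (w := w) (s := s) (r := 0) hy (map_zero φ) hv he
    [(18, [[9]]), (14, [[12]]), (15, [[3]]), (17, [[6]]), (22, [[14]]), (23, [[15]]), (18, [[9]])]
    [(14, [[12]]), (15, [[3], [11, 12]]), (17, [[3, 10], [5, 11], [6], [10, 11, 12]]),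
      (22, [[3, 9, 10], [4, 10, 11], [5, 9, 11], [6, 9], [7, 10], [8, 11], [9, 10, 11, 12], [14]]),
      (23, [[3, 4, 10], [3, 5, 9], [3, 9, 10, 12], [4, 5, 11], [4, 10, 11, 12], [5, 9, 11, 12],
        [9, 10, 11, 12, 12], [15]])] (by decide) (by decide) (by decide +kernel)
  refine ⟨_, _, _, ?_, ?_, by simpa [evalP, env, mul_assoc] using h⟩
  all_goals simp only [map_add, map_mul, h3, hy, hv, he] <;> ring

theorem sq_b (w : K) {y v e : K} (hy : φ y = y) (hv : φ v = v) (he : φ e = e) :
    (o 14 y * o 17 w * o 22 v * o 23 e) * (o 14 y * o 17 w * o 22 v * o 23 e) = o 23 (y * v) := by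
  have h := ident hD h3 (x := 0) (z := 0) (w := w) (s := 0) (r := 0) hy (map_zero φ) hv he
    [(14, [[12]]), (17, [[6]]), (22, [[14]]), (23, [[15]]), (14, [[12]]), (17, [[6]]), (22, [[14]]), (23, [[15]])]
    [(23, [[12, 14]])] (by decide) (by decide) (by decide +kernel)
  simpa [evalP, env, mul_assoc] using h

theorem sq_four (z w : K) {v e : K} (hv : φ v = v) (he : φ e = e) :
    (o 15 z * o 17 w * o 22 v * o 23 e) * (o 15 z * o 17 w * o 22 v * o 23 e) =
      o 23 (z * φ (φ w) + φ z * w + φ (φ z) * φ w) := by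
  have h := ident hD h3 (x := 0) (z := z) (w := w) (s := 0) (y := 0) (r := 0) (map_zero φ) (map_zero φ) hv he
    [(15, [[3]]), (17, [[6]]), (22, [[14]]), (23, [[15]]), (15, [[3]]), (17, [[6]]), (22, [[14]]), (23, [[15]])]
    [(23, [[3, 8], [4, 6], [5, 7]])] (by decide) (by decide) (by decide +kernel)
  simpa [evalP, env, mul_assoc, add_assoc] using h

theorem conj_a' (z w s : K) {v e : K} (hv : φ v = v) (he : φ e = e) :
    ∃ C E, φ C = C ∧ φ E = E ∧ o 18 s * (o 15 z * o 17 w * o 22 v * o 23 e) * o 18 s =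
      o 15 z * o 17 (z * φ s + φ (φ z) * φ (φ s) + w) * o 22 C * o 23 E := by
  have h := ident hD h3 (x := 0) (z := z) (w := w) (s := s) (y := 0) (r := 0) (map_zero φ) (map_zero φ) hv he
    [(18, [[9]]), (15, [[3]]), (17, [[6]]), (22, [[14]]), (23, [[15]]), (18, [[9]])]
    [(15, [[3]]), (17, [[3, 10], [5, 11], [6]]),
      (22, [[3, 9, 10], [4, 10, 11], [5, 9, 11], [6, 9], [7, 10], [8, 11], [14]]),
      (23, [[3, 4, 10], [3, 5, 9], [4, 5, 11], [15]])] (by decide) (by decide) (by decide +kernel)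
  refine ⟨_, _, ?_, ?_, by simpa [evalP, env, mul_assoc, add_assoc] using h⟩
  all_goals simp only [map_add, map_mul, h3, hv, he] <;> ring

theorem conj_17_15 (z s : K) {v e : K} (hv : φ v = v) (he : φ e = e) :
    o 17 s * (o 15 z * o 22 v * o 23 e) * o 17 s =
      o 15 z * o 22 v * o 23 (z * φ (φ s) + φ z * s + φ (φ z) * φ s + e) := by
  have h := ident hD h3 (x := 0) (z := z) (w := 0) (s := s) (y := 0) (r := 0) (map_zero φ) (map_zero φ) hv he
    [(17, [[9]]), (15, [[3]]), (22, [[14]]), (23, [[15]]), (17, [[9]])]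
    [(15, [[3]]), (22, [[14]]), (23, [[3, 11], [4, 9], [5, 10], [15]])] (by decide) (by decide) (by decide +kernel)
  simpa [evalP, env, mul_assoc, add_assoc] using h

theorem conj_17_18 (z s : K) {v e : K} (hv : φ v = v) (he : φ e = e) :
    o 17 s * (o 18 z * o 22 v * o 23 e) * o 17 s =
      o 18 z * o 22 (z * s + φ z * φ s + φ (φ z) * φ (φ s) + v) * o 23 e := by
  have h := ident hD h3 (x := 0) (z := z) (w := 0) (s := s) (y := 0) (r := 0) (map_zero φ) (map_zero φ) hv he
    [(17, [[9]]), (18, [[3]]), (22, [[14]]), (23, [[15]]), (17, [[9]])]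
    [(18, [[3]]), (22, [[3, 9], [4, 10], [5, 11], [14]]), (23, [[15]])] (by decide) (by decide) (by decide +kernel)
  simpa [evalP, env, mul_assoc, add_assoc] using h

theorem conj_15_18 (z : K) {k : K} (hk : φ k = k) :
    o 15 (φ (φ z) * k) * o 18 z * o 15 (φ (φ z) * k) =
      o 18 z * o 22 (z * φ z * φ (φ z) * k) * o 23 (z * φ z * φ (φ z) * k * k) := by
  have h := ident hD h3 (x := 0) (z := z) (w := 0) (s := 0) (y := 0) (v := 0) (e := 0) (map_zero φ) hk (map_zero φ)
    (map_zero φ) [(15, [[5, 13]]), (18, [[3]]), (15, [[5, 13]])]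
    [(18, [[3]]), (22, [[3, 4, 5, 13]]), (23, [[3, 4, 5, 13, 13]])] (by decide) (by decide) (by decide +kernel)
  simpa [evalP, env, mul_assoc] using h

theorem conj_15_17 (w s : K) {v e : K} (hv : φ v = v) (he : φ e = e) :
    o 15 s * (o 17 w * o 22 v * o 23 e) * o 15 s =
      o 17 w * o 22 v * o 23 (w * φ s + φ w * φ (φ s) + φ (φ w) * s + e) := by
  have h := ident hD h3 (x := 0) (z := 0) (w := w) (s := s) (y := 0) (r := 0) (map_zero φ) (map_zero φ) hv he
    [(15, [[9]]), (17, [[6]]), (22, [[14]]), (23, [[15]]), (15, [[9]])]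
    [(17, [[6]]), (22, [[14]]), (23, [[6, 10], [7, 11], [8, 9], [15]])] (by decide) (by decide) (by decide +kernel)
  simpa [evalP, env, mul_assoc, add_assoc] using h

theorem conj_18_17 (w s : K) {v : K} (hv : φ v = v) :
    o 18 s * (o 17 w * o 22 v) * o 18 s =
      o 17 w * o 22 (w * s + φ w * φ s + φ (φ w) * φ (φ s) + v) := by
  have h := ident hD h3 (x := 0) (z := 0) (w := w) (s := s) (y := 0) (r := 0) (e := 0) (map_zero φ) (map_zero φ) hv
    (map_zero φ) [(18, [[9]]), (17, [[6]]), (22, [[14]]), (18, [[9]])]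
    [(17, [[6]]), (22, [[6, 9], [7, 10], [8, 11], [14]])] (by decide) (by decide) (by decide +kernel)
  simpa [evalP, env, mul_assoc, add_assoc] using h

theorem conj_14_22 {r v e : K} (hr : φ r = r) (hv : φ v = v) (he : φ e = e) :
    o 14 r * (o 22 v * o 23 e) * o 14 r = o 22 v * o 23 (r * v + e) := by
  have h := ident hD h3 (x := 0) (z := 0) (w := 0) (s := 0) (y := 0) (map_zero φ) hr hv he
    [(14, [[13]]), (22, [[14]]), (23, [[15]]), (14, [[13]])]
    [(22, [[14]]), (23, [[13, 14], [15]])] (by decide) (by decide) (by decide +kernel)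
  simpa [evalP, env, mul_assoc, add_assoc] using h

end Cfsg.Agent.TwistE6D4.D4
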