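/-
The torus of a twisted group: diagonal elements with a symmetric family of parameters on the nodes.

* `chiX x`, `theta x` : the character s ↦ ∏ xᵢ^{A(i,s)} and its diagonal element; `theta_single` = h_{pᵢ}(a).
* `theta_mem_diagonal`, `theta_conj_gx`, `ng_mul_ng`.
* `ng_conj_theta` : n_{pᵢ}(t) θ(x) n_{pᵢ}(t)⁻¹ = θ(x · single i (coefX i x)).
* `TorSym`, `sigma_theta`.
-/
import Cfsg.Agent.Lib.TwistE6D4.Sigma
import Cfsg.Agent.Lib.ChevBN.Torus

set_option autoImplicit false

namespace Cfsg.Agent.TwistE6D4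

open Cfsg.Lie Cfsg.Lie.ChevalleyDatum Cfsg.Agent.Chev Matrix
open Cfsg.Agent.ChevSt (IsLin)
open Cfsg.Agent.ChevBN (ng hg xg dg)

variable {D : ChevalleyDatum} {K : Type*} [Field K]

theorem zpow_sum {G : Type*} [CommGroup G] {ι : Type*} (a : G) (s : Finset ι) (f : ι → ℤ) :
    ∏ i ∈ s, a ^ f i = a ^ ∑ i ∈ s, f i := by
  classical
  induction s using Finset.induction_on with
  | empty => simp
  | insert i s hi ih => rw [Finset.prod_insert hi, Finset.sum_insert hi, _root_.zpow_add, ih]

theorem xg_eq (hD : Good D) (r : ℕ) (t : K) : xg hD K r t = gx hD K r t := Units.ext rfl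

theorem ng_eq (hD : Good D) (r : ℕ) (t : K) :
    ng hD K r t = gx hD K r t * gx hD K (D.neg r) (-t⁻¹) * gx hD K r t := by
  simp only [ChevBN.ng, xg_eq]

/-- The character of a family of parameters on the nodes. -/
def chiX (x : Fin D.rank → Kˣ) (s : ℕ) : Kˣ := ∏ i, x i ^ D.cartan i.val s

theorem chiX_mul (x y : Fin D.rank → Kˣ) (s : ℕ) : chiX (x * y) s = chiX x s * chiX y s := by
  simp [chiX, _root_.mul_zpow, Finset.prod_mul_distrib]

theorem chiX_one (s : ℕ) : chiX (1 : Fin D.rank → Kˣ) s = 1 := by simp [chiX]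

theorem chiX_single (i : Fin D.rank) (a : Kˣ) (s : ℕ) :
    chiX (Pi.mulSingle i a) s = a ^ D.cartan i.val s := by
  rw [chiX, Finset.prod_eq_single i]
  · rw [Pi.mulSingle_eq_same]
  · intro j _ hj; rw [Pi.mulSingle_eq_of_ne hj, _root_.one_zpow]
  · simp

/-- The diagonal element of a family of scalars on the roots. -/
def dgUnit (χ : ℕ → Kˣ) : GL D.Idx K where
  val := dg χ
  inv := dg fun s => (χ s)⁻¹
  val_inv := by
    simp only [dg, Matrix.diagonal_mul_diagonal]
    rw [← Matrix.diagonal_one]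
    congr 1
    ext a
    rcases a with i | q <;> simp
  inv_val := by
    simp only [dg, Matrix.diagonal_mul_diagonal]
    rw [← Matrix.diagonal_one]
    congr 1
    ext a
    rcases a with i | q <;> simp

variable (D K) in
/-- The element of a family of parameters on the nodes. -/
def theta : (Fin D.rank → Kˣ) →* GL D.Idx K where
  toFun x := dgUnit (chiX x)
  map_one' := by
    refine Units.ext ?_
    show dg _ = (1 : Matrix D.Idx D.Idx K)
    rw [dg, ← Matrix.diagonal_one]
    congr 1
    ext a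
    rcases a with i | q <;> simp [chiX_one]
  map_mul' x y := by
    refine Units.ext ?_
    show dg _ = dg _ * dg _
    simp only [dg, Matrix.diagonal_mul_diagonal]
    congr 1
    ext a
    rcases a with i | q <;> simp [chiX_mul]

theorem coe_theta (x : Fin D.rank → Kˣ) : (theta D K x : Matrix D.Idx D.Idx K) = dg (chiX x) := rfl

theorem theta_single (hD : Good D) (i : Fin D.rank) (a : Kˣ) :
    theta D K (Pi.mulSingle i a) = hg hD K (D.simple i.val) (a : K) := by
  refine Units.ext ?_
  rw [coe_theta, ChevBN.coe_hg, ChevBN.hMat_eq_diag hD (hD.simple_lt i.val i.isLt) a.ne_zero]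
  congr 1
  funext s
  rw [chiX_single, ChevBN.pairing_simple hD i.isLt, Units.mk0_val]

theorem ng_mul_ng (hD : Good D) (i : Fin D.rank) (a b : Kˣ) :
    ng hD K (D.simple i.val) (a : K) * ng hD K (D.simple i.val) (b : K) =
      theta D K (Pi.mulSingle i (a * (-b)⁻¹)) := by
  rw [Pi.mulSingle_mul, Pi.mulSingle_inv, map_mul, map_inv, theta_single hD, theta_single hD]
  simp only [ChevBN.hg, _root_.mul_inv_rev, ChevBN.ng_inv, Units.val_neg, _root_.neg_neg]
  rw [mul_assoc, ← mul_assoc (ng hD K (D.simple i.val) (-1)), ← ChevBN.ng_inv hD (D.simple i.val) (1 : K)]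
  group

theorem theta_mem_diagonal (hD : Good D) (x : Fin D.rank → Kˣ) : theta D K x ∈ D.diagonalSubgroup K := by
  rw [← Finset.univ_prod_mulSingle x]
  show _ ∈ (D.diagonalSubgroup K).comap (theta D K)
  refine Subgroup.prod_mem _ fun i _ => ?_
  show theta D K (Pi.mulSingle i (x i)) ∈ D.diagonalSubgroup K
  rw [theta_single hD]
  exact Subgroup.subset_closure ⟨_, _, hD.simple_lt i.val i.isLt, (x i).ne_zero, ChevBN.coe_hg hD _ _⟩

theorem theta_conj_gx (hD : Good D) (x : Fin D.rank → Kˣ) {s : ℕ} (hs : s < D.nroots) (u : K) :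
    theta D K x * gx hD K s u * (theta D K x)⁻¹ = gx hD K s ((chiX x s : K) * u) := by
  obtain ⟨χ, hχ, hc⟩ := ChevBN.isToral_of_mem hD (theta_mem_diagonal hD x)
  have h : χ s = chiX x s := by
    have := congrFun (congrFun hχ (Sum.inr ⟨s, hs⟩)) (Sum.inr ⟨s, hs⟩)
    simp only [coe_theta, dg, Matrix.diagonal_apply_eq, Sum.elim_inr] at this
    exact (Units.ext this).symm
  rw [← xg_eq, hc, mul_inv_cancel_right, xg_eq, h]

/-- The factor by which a reflection changes the i-th parameter. -/
def coefX (i : Fin D.rank) : (Fin D.rank → Kˣ) →* Kˣ where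
  toFun x := ∏ j, x j ^ (-D.cartan j.val (D.simple i.val))
  map_one' := by simp
  map_mul' x y := by simp only [Pi.mul_apply, _root_.mul_zpow, Finset.prod_mul_distrib]

theorem coefX_single (i l : Fin D.rank) (a : Kˣ) :
    coefX i (Pi.mulSingle l a) = a ^ (-D.cartan l.val (D.simple i.val)) := by
  show ∏ j : Fin D.rank, (Pi.mulSingle l a : Fin D.rank → Kˣ) j ^ (-D.cartan j.val (D.simple i.val)) = _
  rw [Finset.prod_eq_single l]
  · rw [Pi.mulSingle_eq_same]
  · intro j _ hj; rw [Pi.mulSingle_eq_of_ne hj, _root_.one_zpow]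
  · simp

theorem chiX_refl (hD : Good D) (i : Fin D.rank) (x : Fin D.rank → Kˣ) {s : ℕ} (hs : s < D.nroots) :
    chiX (x * Pi.mulSingle i (coefX i x)) s = chiX x (Chev.refl D (D.simple i.val) s) := by
  rw [chiX_mul, chiX_single]
  show chiX x s * (∏ j, x j ^ (-D.cartan j.val (D.simple i.val))) ^ D.cartan i.val s = _
  simp only [chiX, ← Finset.prod_zpow, ← Finset.prod_mul_distrib, ← _root_.zpow_mul, ← _root_.zpow_add]
  refine Finset.prod_congr rfl fun j _ => ?_
  rw [ChevSt.IsLin.refl hD (ChevSt.isLin_cartan hD j.isLt) (hD.simple_lt i.val i.isLt) hs,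
    ChevBN.pairing_simple hD i.isLt]
  congr 1
  ring

theorem ng_conj_theta (hD : Good D) (i : Fin D.rank) {t : K} (ht : t ≠ 0) (x : Fin D.rank → Kˣ) :
    ng hD K (D.simple i.val) t * theta D K x * (ng hD K (D.simple i.val) t)⁻¹ =
      theta D K (x * Pi.mulSingle i (coefX i x)) := by
  set p := D.simple i.val with hp
  have hpl : p < D.nroots := hD.simple_lt i.val i.isLt
  set χ := chiX x
  set χ' := chiX (x * Pi.mulSingle i (coefX i x))
  rw [mul_inv_eq_iff_eq_mul]
  refine Units.ext (Matrix.ext fun a b => ?_)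
  rw [Units.val_mul, Units.val_mul, ChevBN.coe_ng, coe_theta, coe_theta]
  simp only [dg, Matrix.mul_diagonal, Matrix.diagonal_mul]
  rcases b with j | s
  · have h : D.nMat K p t a (Sum.inl j) = (D.nMat K p t *ᵥ Pi.single (Sum.inl j) 1) a := by
      rw [Matrix.mulVec_single_one]; rfl
    rw [h, hD.n_inl hpl ht]
    rcases a with k | q <;> simp [hv]
  · have h : D.nMat K p t a (Sum.inr s) = (D.nMat K p t *ᵥ ev D K s.val) a := by
      rw [Chev.mulVec_ev D _ s.isLt]
    rw [h, hD.n_root hpl s.isLt ht]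
    rcases a with k | q
    · simp [ev]
    · by_cases hq : q.val = Chev.refl D p s.val
      · have : χ' q.val = χ s.val := by
          simp only [χ', χ]
          rw [chiX_refl hD i x q.isLt, hq, ← hp, ChevSt.refl_refl hD hpl s.isLt]
        simp only [Sum.elim_inr]
        rw [show (χ' q.val : K) = (χ s.val : K) from congrArg Units.val this]
        ring
      · simp [ev, hq]

/-! ### Symmetric parameters -/

variable {T : Twist D}

/-- The symmetric families of parameters. -/
def TorSym (T : Twist D) (φ : K →+* K) : Subgroup (Fin D.rank → Kˣ) where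
  carrier := {x | ∀ i, x (T.pi i) = Units.map (φ : K →* K) (x i)}
  one_mem' i := by simp
  mul_mem' {x y} hx hy i := by simp [hx i, hy i]
  inv_mem' {x} hx i := by simp [hx i]

theorem mem_TorSym {φ : K →+* K} {x : Fin D.rank → Kˣ} :
    x ∈ TorSym T φ ↔ ∀ i, x (T.pi i) = Units.map (φ : K →* K) (x i) := Iff.rfl

theorem chiX_rho (hT : TwistOK T) {φ : K →+* K} {x : Fin D.rank → Kˣ} (hx : x ∈ TorSym T φ) {s : ℕ}
    (hs : s < D.nroots) : chiX x (T.rho s) = Units.map (φ : K →* K) (chiX x s) := by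
  rw [chiX, chiX, map_prod, ← hT.pi_bij.prod_comp fun i : Fin D.rank => x i ^ D.cartan i.val (T.rho s)]
  refine Finset.prod_congr rfl fun i _ => ?_
  rw [hT.cartan s hs i, map_zpow, hx i]

theorem sigma_theta (hT : TwistOK T) {φ : K →+* K} {x : Fin D.rank → Kˣ} (hx : x ∈ TorSym T φ) :
    sigma hT φ (theta D K x) = theta D K x := by
  show pUnit hT K * Matrix.GeneralLinearGroup.map φ (theta D K x) * (pUnit hT K)⁻¹ = _
  rw [mul_inv_eq_iff_eq_mul]
  refine Units.ext (Matrix.ext fun a b => ?_)
  rw [Units.val_mul, Units.val_mul, coe_theta]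
  show ((pMat hT).map (Int.cast : ℤ → K) * (dg (chiX x) : Matrix D.Idx D.Idx K).map φ) a b =
    ((dg (chiX x) : Matrix D.Idx D.Idx K) * (pMat hT).map (Int.cast : ℤ → K)) a b
  rw [dg, Matrix.diagonal_map (map_zero φ), Matrix.mul_diagonal, Matrix.diagonal_mul]
  by_cases h : a = iota hT b
  · subst h
    rcases b with j | q
    · simp [iota]
    · simp [iota, chiX_rho hT hx q.isLt, mul_comm]
  · simp [pMat, h]

end Cfsg.Agent.TwistE6D4
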