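/-
Tools for showing that a subgroup of a twisted group is the whole group.

* `conj_orb`, `nw_conj_theta`, `chiX_torVec_eq` : the torus;
* `full_of_gen`, `full_nw`, `full_refl` : when a subgroup contains a whole orbit root subgroup;
* `mem_of_coprime`, `gen_zpow`, `gen_sub` : splitting commuting factors; generators of the parameters.
-/
import Cfsg.Agent.Lib.TwistE6D4.Facts

set_option autoImplicit false

namespace Cfsg.Agent.TwistE6D4

open Cfsg.Lie Cfsg.Lie.ChevalleyDatum Cfsg.Agent.Chev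

variable {D : ChevalleyDatum}

/-- The representative of the orbit of a root, on the tables alone. -/
def repT (T : Twist D) (q : ℕ) : ℕ :=
  (T.reps.find? fun r => decide (∃ i < T.len r, T.rho^[i] r = q)).getD 0

theorem mem_of_coprime {G : Type*} [Group G] (S : Subgroup G) {h x : G} (hc : Commute h x) {N : ℕ}
    (hh : h ^ N = 1) (hx : x ^ (N + 1) = 1) (ha : h * x ∈ S) : h ∈ S ∧ x ∈ S := by
  have e : (h * x) ^ N = x⁻¹ := by
    rw [hc.mul_pow, hh, one_mul]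
    exact eq_inv_of_mul_eq_one_left (by rw [← pow_succ]; exact hx)
  have hxS : x ∈ S := inv_mem_iff.1 (e ▸ pow_mem ha N)
  exact ⟨by simpa using mul_mem ha (inv_mem hxS), hxS⟩

theorem gen_zpow {K : Type*} [Field K] [Fintype K] {ζ : Kˣ} (hζ : ∀ u, u ∈ Subgroup.zpowers ζ) {e : ℤ}
    (he : IsCoprime e ((Fintype.card K - 1 : ℕ) : ℤ)) {u : K} (hu : u ≠ 0) :
    ∃ n : ℕ, u = ((ζ ^ e : Kˣ) : K) ^ n := by
  obtain ⟨a, b, hab⟩ := he
  obtain ⟨m, hm⟩ := hζ (Units.mk0 u hu)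
  have h1 : ζ ^ ((Fintype.card K - 1 : ℕ) : ℤ) = 1 := by
    rw [zpow_natCast, ← Nat.card_eq_fintype_card, ← Nat.card_units]
    exact pow_card_eq_one'
  have h2 : Units.mk0 u hu ∈ Subgroup.zpowers (ζ ^ e) := ⟨a * m, by
    show (ζ ^ e) ^ (a * m) = _
    rw [← hm, ← zpow_mul, show e * (a * m) = m + ((Fintype.card K - 1 : ℕ) : ℤ) * (-(b * m)) by
      linear_combination m * hab, zpow_add, zpow_mul ζ ((Fintype.card K - 1 : ℕ) : ℤ), h1, one_zpow, mul_one]⟩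
  obtain ⟨n, hn⟩ := (isOfFinOrder_of_finite (ζ ^ e)).mem_powers_iff_mem_zpowers.2 h2
  exact ⟨n, by simpa using (congrArg Units.val hn).symm⟩

theorem gen_sub {K : Type*} [Field K] [Fintype K] {ζ : Kˣ} (hζ : ∀ u, u ∈ Subgroup.zpowers ζ) {q E : ℕ}
    (hq : 1 < q) (hE : E * (q - 1) = Fintype.card K - 1) {u : K} (hu : u ≠ 0) (hfix : u ^ q = u) :
    ∃ n : ℕ, u = (((ζ ^ E)⁻¹ : Kˣ) : K) ^ n := by
  obtain ⟨m, hm⟩ := (isOfFinOrder_of_finite ζ).mem_powers_iff_mem_zpowers.2 (hζ (Units.mk0 u hu))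
  have hm : ζ ^ m = Units.mk0 u hu := hm
  have h1 : (Units.mk0 u hu) ^ (q - 1) = 1 := by
    refine Units.ext ?_
    have : u ^ (q - 1) * u = 1 * u := by rw [← pow_succ, Nat.sub_add_cancel hq.le, hfix, one_mul]
    simpa using mul_right_cancel₀ hu this
  have hord : orderOf ζ = Fintype.card K - 1 := by
    rw [orderOf_eq_card_of_forall_mem_zpowers hζ, Nat.card_units, Nat.card_eq_fintype_card]
  rw [← hm, ← pow_mul, ← orderOf_dvd_iff_pow_eq_one, hord, ← hE] at h1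
  obtain ⟨j, rfl⟩ := Nat.dvd_of_mul_dvd_mul_right (by omega) h1
  obtain ⟨n, hn⟩ := (isOfFinOrder_of_finite ((ζ ^ E)⁻¹)).mem_powers_iff_mem_zpowers.2
    (show Units.mk0 u hu ∈ Subgroup.zpowers (ζ ^ E)⁻¹ by
      rw [Subgroup.zpowers_inv, ← hm, pow_mul]; exact pow_mem (Subgroup.mem_zpowers _) j)
  exact ⟨n, by simpa using (congrArg Units.val hn).symm⟩

section Chi

variable {K : Type*} [Field K]

theorem chiX_list_prod (s : ℕ) : ∀ L : List (Fin D.rank → Kˣ), chiX L.prod s = (L.map fun x => chiX x s).prod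
  | [] => by simp [chiX_one]
  | x :: L => by simp [chiX_mul, chiX_list_prod s L]

theorem chiX_neg (hD : Good D) (x : Fin D.rank → Kˣ) {s : ℕ} (hs : s < D.nroots) :
    chiX x (D.neg s) = (chiX x s)⁻¹ := by
  simp only [chiX, ← Finset.prod_inv_distrib]
  exact Finset.prod_congr rfl fun i _ => by rw [(ChevSt.isLin_cartan hD i.isLt).neg s hs, zpow_neg]

theorem theta_ext {x y : Fin D.rank → Kˣ} (h : ∀ s < D.nroots, chiX x s = chiX y s) :
    theta D K x = theta D K y := by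
  refine Units.ext ?_
  rw [coe_theta, coe_theta]
  refine Matrix.ext fun a b => ?_
  by_cases hab : a = b
  · subst hab
    rcases a with i | q <;> simp [ChevBN.dg, h _ (Fin.isLt _)]
  · simp [ChevBN.dg, Matrix.diagonal_apply_ne _ hab]

theorem chiX_wL (hD : Good D) {ι : Type*} (i : ι → Fin D.rank) : ∀ (L : List ι),
    L.Pairwise (fun k l => D.cartan (i k).val (D.simple (i l).val) = 0) →
    ∀ (x : Fin D.rank → Kˣ) {s : ℕ}, s < D.nroots →
      wL D (L.map fun k => D.simple (i k).val) s < D.nroots ∧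
        chiX (x * (L.map fun k => Pi.mulSingle (i k) (coefX (i k) x)).prod) s =
          chiX x (wL D (L.map fun k => D.simple (i k).val) s)
  | [], _, x, s, hs => ⟨hs, by simp [wL]⟩
  | k :: L, h, x, s, hs => by
    obtain ⟨h1, h2⟩ := List.pairwise_cons.1 h
    obtain ⟨hlt, e⟩ := chiX_wL hD i L h2 (x * Pi.mulSingle (i k) (coefX (i k) x)) hs
    refine ⟨ChevSt.refl_lt hD (hD.simple_lt _ (i k).isLt) hlt, ?_⟩
    have hc : (L.map fun l => Pi.mulSingle (i l) (coefX (i l) (x * Pi.mulSingle (i k) (coefX (i k) x)))) =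
        L.map fun l => (Pi.mulSingle (i l) (coefX (i l) x) : Fin D.rank → Kˣ) :=
      List.map_congr_left fun l hl => by rw [map_mul, coefX_single, h1 l hl, neg_zero, zpow_zero, mul_one]
    rw [List.map_cons, List.prod_cons, ← mul_assoc, ← hc, e, chiX_refl hD (i k) x hlt]
    rfl

end Chi

namespace Ctx

variable {K : Type*} [Field K] (C : Ctx D K)

theorem repOf_eq_repT (q : ℕ) : C.repOf q = repT C.T q := rfl

theorem chiX_iter {x : Fin D.rank → Kˣ} (hx : x ∈ TorSym C.T C.φ) {r : ℕ} (hr : r < D.nroots) :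
    ∀ i, chiX x (C.T.rho^[i] r) = C.itU i (chiX x r)
  | 0 => (C.itU_zero _).symm
  | i + 1 => by
    rw [Function.iterate_succ_apply', chiX_rho C.hT hx (C.hT.iter_lt hr i), chiX_iter hx hr i, C.itU_succ]

theorem conj_orb {x : Fin D.rank → Kˣ} (hx : x ∈ TorSym C.T C.φ) {r : ℕ} (hr : r ∈ C.T.reps) (t : K) :
    theta D K x * orb C.hD C.T C.φ r t * (theta D K x)⁻¹ = orb C.hD C.T C.φ r ((chiX x r : K) * t) := by
  have hr' := (C.hT.rep_lt r hr).1
  rw [← MulAut.conj_apply]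
  simp only [orb]
  rw [map_list_prod, List.map_map]
  refine congrArg List.prod (List.map_congr_left fun i _ => ?_)
  rw [Function.comp_apply, MulAut.conj_apply, theta_conj_gx C.hD x (C.hT.iter_lt hr' i), C.chiX_iter hx hr',
    C.coe_itU, cf, cf, ← RingHom.coe_pow, map_mul]
  congr 1
  ring

theorem orb_pow {r : ℕ} (hr : r ∈ C.T.reps) (t : K) :
    ∀ n : ℕ, orb C.hD C.T C.φ r t ^ n = orb C.hD C.T C.φ r ((n : K) * t)
  | 0 => by rw [pow_zero, Nat.cast_zero, zero_mul, C.orb_zero]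
  | n + 1 => by rw [pow_succ, orb_pow hr t n, ← C.orb_add hr, Nat.cast_succ, add_mul, one_mul]

theorem wF_node (a : Fin C.m) (s : ℕ) :
    wL D ((List.range (C.L a)).map fun k => D.simple (C.nd a k).val) s = wF C.T (C.node a) s := by
  rw [← C.wF_eq a s]
  congr 1
  exact List.map_congr_left fun k _ => (C.rk_eq a k).symm

theorem chiX_conj (a : Fin C.m) {x : Fin D.rank → Kˣ} (hx : x ∈ TorSym C.T C.φ) {s : ℕ} (hs : s < D.nroots) :
    chiX (x * C.torVec a (coefX (C.node a) x)) s = chiX x (wF C.T (C.node a) s) := by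
  obtain ⟨-, e⟩ := chiX_wL C.hD (fun k => C.nd a k) (List.range (C.L a))
    (range_pairwise fun k hk l hl hkl => (C.hR.orth_neg a k hk l hl hkl).2) x hs
  rw [← C.wF_node, ← e, torVec]
  simp only [C.coefX_nd hx]

theorem nw_conj_theta : ∀ (l : List (Fin C.m)) {x : Fin D.rank → Kˣ}, x ∈ TorSym C.T C.φ →
    ∃ y ∈ TorSym C.T C.φ, C.rgd.nw l * theta D K x * (C.rgd.nw l)⁻¹ = theta D K y ∧
      ∀ s < D.nroots, chiX y s = chiX x (wW C.T C.node l.reverse s)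
  | [], x, hx => ⟨x, hx, by simp, fun _ _ => rfl⟩
  | a :: l, x, hx => by
    obtain ⟨y, hy, e, hc⟩ := nw_conj_theta l hx
    refine ⟨_, mul_mem hy (C.torVec_mem a (C.coefX_Pm hy a)), ?_, fun s hs => ?_⟩
    · rw [RGD.RootData.nw_cons, show C.rgd.n a * C.rgd.nw l * theta D K x * (C.rgd.n a * C.rgd.nw l)⁻¹ =
        C.rgd.n a * (C.rgd.nw l * theta D K x * (C.rgd.nw l)⁻¹) * (C.rgd.n a)⁻¹ by group, e]
      exact C.ns_conj_theta a one_ne_zero hy
    · rw [C.chiX_conj a hy hs, hc _ (C.wF_lt a hs), List.reverse_cons]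
      simp only [wW, List.foldr_append, List.foldr_cons, List.foldr_nil]

theorem chiX_torVec_eq (a : Fin C.m) (u : Kˣ) (s : ℕ) :
    chiX (C.torVec a u) s = ((List.range (C.L a)).map fun k => C.itU k u ^ D.cartan (C.nd a k).val s).prod := by
  rw [torVec, chiX_list_prod, List.map_map]
  exact congrArg List.prod (List.map_congr_left fun k _ => chiX_single _ _ _)

/-! ### Subgroups containing orbit root subgroups -/

variable (S : Subgroup (GL D.Idx K))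

/-- `S` contains the root subgroup of an orbit. -/
def Full (r : ℕ) : Prop := C.Uo r ≤ S

variable {C} {S}

theorem Full.orb_mem {r : ℕ} (h : C.Full S r) (hr : r ∈ C.T.reps) {t : K}
    (ht : (⇑C.φ)^[C.T.len r] t = t) : orb C.hD C.T C.φ r t ∈ S := h (C.orb_mem_Uo hr ht)

theorem Full.op_mem {a : Fin C.m} (h : C.Full S (C.p a)) {t : K} (ht : C.Pm a t) : C.op a t ∈ S :=
  h (C.op_mem_Uo a ht)

theorem Full.om_mem {a : Fin C.m} (h : C.Full S (D.neg (C.p a))) {t : K} (ht : C.Pm a t) : C.om a t ∈ S := by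
  rw [C.om_eq]
  refine h.orb_mem (C.hR.rep_negSimple a).1 ?_
  rw [(C.hR.rep_negSimple a).2]
  exact ht

theorem full_of_gen {r : ℕ} (hr : r ∈ C.T.reps) {x : Fin D.rank → Kˣ} (hx : x ∈ TorSym C.T C.φ)
    (hxS : theta D K x ∈ S) {t : K} (ht : (⇑C.φ)^[C.T.len r] t = t) (ht0 : t ≠ 0)
    (htS : orb C.hD C.T C.φ r t ∈ S)
    (hgen : ∀ u : K, (⇑C.φ)^[C.T.len r] u = u → u ≠ 0 → ∃ n : ℕ, u = (chiX x r : K) ^ n) : C.Full S r := by
  intro g hg
  obtain ⟨u, hu, rfl⟩ := C.mem_Uo hr hg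
  rcases eq_or_ne u 0 with rfl | hu0
  · rw [C.orb_zero]; exact one_mem _
  have key : ∀ n : ℕ, orb C.hD C.T C.φ r ((chiX x r : K) ^ n * t) ∈ S := by
    intro n
    induction n with
    | zero => simpa using htS
    | succ n ih =>
      have := mul_mem (mul_mem hxS ih) (inv_mem hxS)
      rwa [C.conj_orb hx hr, ← mul_assoc, ← pow_succ'] at this
  obtain ⟨n, hn⟩ := hgen (u / t) (by rw [← RingHom.coe_pow] at hu ht ⊢; rw [map_div₀, hu, ht])
    (div_ne_zero hu0 ht0)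
  rw [← div_mul_cancel₀ u ht0, hn]
  exact key n

theorem exists_orb_nw {l : List (Fin C.m)} {r r' : ℕ} (hr : r ∈ C.T.reps) (hn : C.rgd.nw l ∈ S)
    (e : repT C.T (wW C.T C.node l r) = r') {t : K} (ht : (⇑C.φ)^[C.T.len r] t = t) (ht0 : t ≠ 0)
    (h : orb C.hD C.T C.φ r t ∈ S) :
    r' ∈ C.T.reps ∧ ∃ t', (⇑C.φ)^[C.T.len r'] t' = t' ∧ t' ≠ 0 ∧ orb C.hD C.T C.φ r' t' ∈ S := by
  have hU := C.rgd.map_conj_U l ⟨r, hr⟩
  have hr' : r' ∈ C.T.reps := by
    rw [← e, ← C.repOf_eq_repT]; exact (C.repOf_spec (C.ww_val l ⟨r, hr⟩).1).1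
  have hmem : C.rgd.nw l * orb C.hD C.T C.φ r t * (C.rgd.nw l)⁻¹ ∈ C.Uo r' := by
    have h1 : C.rgd.nw l * orb C.hD C.T C.φ r t * (C.rgd.nw l)⁻¹ ∈ C.rgd.U (C.rgd.ww l ⟨r, hr⟩) :=
      hU ▸ ⟨_, C.orb_mem_Uo hr ht, rfl⟩
    change _ ∈ C.Uo (C.rgd.ww l ⟨r, hr⟩).1 at h1
    rwa [(C.ww_val l ⟨r, hr⟩).2, C.repOf_eq_repT, e] at h1
  obtain ⟨t', ht', e'⟩ := C.mem_Uo hr' hmem
  refine ⟨hr', t', ht', fun h0 => ht0 (C.orb_eq_one_iff hr ?_), e' ▸ mul_mem (mul_mem hn h) (inv_mem hn)⟩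
  rw [h0, C.orb_zero] at e'
  exact conj_eq_one_iff.1 e'

theorem full_nw {l : List (Fin C.m)} {r r' : ℕ} (hr : r ∈ C.T.reps) (hn : C.rgd.nw l ∈ S) (h : C.Full S r)
    (e : repT C.T (wW C.T C.node l r) = r') : C.Full S r' := by
  have h1 : C.rgd.U (C.rgd.ww l ⟨r, hr⟩) ≤ S := by
    rw [← C.rgd.map_conj_U]
    rintro _ ⟨y, hy, rfl⟩
    exact mul_mem (mul_mem hn (h hy)) (inv_mem hn)
  change C.Uo (C.rgd.ww l ⟨r, hr⟩).1 ≤ S at h1
  rwa [(C.ww_val l ⟨r, hr⟩).2, C.repOf_eq_repT, e] at h1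

/-- If `S` contains the groups of `± v p_a` it contains a representative of that reflection. -/
theorem full_refl {v : List (Fin C.m)} {a : Fin C.m} {r r₁ s t t' : ℕ} (hs : s ∈ C.T.reps)
    (hp : C.Full S r) (hm : C.Full S r₁) (e₁ : repT C.T (wW C.T C.node v (C.p a)) = r)
    (e₂ : repT C.T (wW C.T C.node v (D.neg (C.p a))) = r₁)
    (h : C.Full S t) (e₃ : repT C.T (wW C.T C.node v s) = t)
    (e₄ : repT C.T (wW C.T C.node (v ++ [a]) s) = t') : C.Full S t' := by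
  set nv := C.rgd.nw v
  have hmap : ∀ {q q' : ℕ} (hq : q ∈ C.T.reps), repT C.T (wW C.T C.node v q) = q' →
      ∀ y ∈ C.Uo q, nv * y * nv⁻¹ ∈ C.Uo q' := by
    intro q q' hq e y hy
    have h1 : nv * y * nv⁻¹ ∈ C.rgd.U (C.rgd.ww v ⟨q, hq⟩) :=
      (C.rgd.map_conj_U v ⟨q, hq⟩).le ⟨y, hy, rfl⟩
    change _ ∈ C.Uo (C.rgd.ww v ⟨q, hq⟩).1 at h1
    rwa [(C.ww_val v ⟨q, hq⟩).2, C.repOf_eq_repT, e] at h1
  have hg : nv * C.ns a 1 * nv⁻¹ ∈ S := by
    have h1 : nv * C.op a 1 * nv⁻¹ ∈ S := hp (hmap (C.hR.rep_simple a) e₁ _ (C.op_mem_Uo a (C.Pm_one a)))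
    have h2 : nv * C.om a (-(1 : K)⁻¹) * nv⁻¹ ∈ S := by
      refine hm (hmap (C.hR.rep_negSimple a).1 e₂ _ ?_)
      rw [C.om_eq]
      refine C.orb_mem_Uo (C.hR.rep_negSimple a).1 ?_
      rw [show C.T.len (D.neg (C.p a)) = C.L a from (C.hR.rep_negSimple a).2]
      exact C.Pm_negInv (C.Pm_one a)
    rw [C.ns_eq, show nv * (C.op a 1 * C.om a (-(1 : K)⁻¹) * C.op a 1) * nv⁻¹ =
      nv * C.op a 1 * nv⁻¹ * (nv * C.om a (-(1 : K)⁻¹) * nv⁻¹) * (nv * C.op a 1 * nv⁻¹) by group]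
    exact mul_mem (mul_mem h1 h2) h1
  have h1 : C.rgd.U (C.rgd.ww (v ++ [a]) ⟨s, hs⟩) ≤ S := by
    rw [← C.rgd.map_conj_U]
    rintro _ ⟨y, hy, rfl⟩
    show C.rgd.nw (v ++ [a]) * y * (C.rgd.nw (v ++ [a]))⁻¹ ∈ S
    rw [RGD.RootData.nw_append, RGD.RootData.nw_cons, RGD.RootData.nw_nil, mul_one,
      show C.rgd.n a = C.ns a 1 from rfl, show nv * C.ns a 1 * y * (nv * C.ns a 1)⁻¹ =
        nv * C.ns a 1 * nv⁻¹ * (nv * y * nv⁻¹) * (nv * C.ns a 1 * nv⁻¹)⁻¹ by group]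
    exact mul_mem (mul_mem hg (h (hmap hs e₃ y hy))) (inv_mem hg)
  change C.Uo (C.rgd.ww (v ++ [a]) ⟨s, hs⟩).1 ≤ S at h1
  rwa [(C.ww_val (v ++ [a]) ⟨s, hs⟩).2, C.repOf_eq_repT, e₄] at h1

theorem torVec_mem_of_full {a : Fin C.m} (h1 : C.Full S (C.p a)) (h2 : C.Full S (D.neg (C.p a))) {t : Kˣ}
    (ht : C.Pm a (t : K)) : theta D K (C.torVec a t) ∈ S := by
  have hns : ∀ {u : K}, C.Pm a u → C.ns a u ∈ S := fun {u} hu => by
    rw [C.ns_eq]; exact mul_mem (mul_mem (h1.op_mem hu) (h2.om_mem (C.Pm_negInv hu))) (h1.op_mem hu)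
  rw [show t = t * (-(-1 : Kˣ))⁻¹ by simp, ← C.ns_mul_ns]
  exact mul_mem (hns ht) (hns (by simpa using C.Pm_neg (C.Pm_one a)))

theorem G0_le_of_full (h1 : ∀ a, C.Full S (C.p a)) (h2 : ∀ a, C.Full S (D.neg (C.p a))) : C.G0 ≤ S := by
  refine (Subgroup.closure_le _).2 ?_
  rintro g ⟨a, t, ht, rfl | rfl⟩
  · exact (h1 a).op_mem ht
  · exact (h2 a).om_mem ht

end Ctx

/-- Two elements generating a subgroup inside `G` generate it as a group. -/
theorem two_gen_of_le {Γ : Type*} [Group Γ] {G : Subgroup Γ} {a b : Γ} (ha : a ∈ G) (hb : b ∈ G)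
    (h : G ≤ Subgroup.closure {a, b}) :
    ∃ x y : ↥G, Subgroup.closure ({x, y} : Set ↥G) = ⊤ := by
  refine ⟨⟨a, ha⟩, ⟨b, hb⟩, Subgroup.map_injective (f := G.subtype) Subtype.val_injective ?_⟩
  rw [MonoidHom.map_closure, Set.image_pair, ← MonoidHom.range_eq_map, Subgroup.range_subtype]
  exact le_antisymm ((Subgroup.closure_le _).2 (by rintro z (rfl | rfl) <;> assumption)) h

end Cfsg.Agent.TwistE6D4
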