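/-
³D₄(q) is generated by `θ(x) x_b(1)` and `x_a(1) n₀`, where `θ(x)` centralises the long simple root group.

* `two_generated_twistedD4`.
-/
import Cfsg.Agent.Lib.TwistE6D4.TwoGen

set_option autoImplicit false
set_option maxRecDepth 100000

namespace Cfsg.Agent.TwistE6D4

open Cfsg.Lie Cfsg.Lie.ChevalleyDatum Cfsg.Agent.Chev

/-- The longest word. -/
def d4W0 : List (Fin 2) := (List.replicate 3 ([0, 1] : List (Fin 2))).flatten

theorem d4W0_rev : ∀ s < chevD4.nroots, wW d4Twist d4Node d4W0.reverse s = chevD4.neg s := by decide +kernel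

theorem d4W0_simple : ∀ a : Fin 2, repT d4Twist (wW d4Twist d4Node d4W0 (chevD4.simple (d4Node a).val)) =
    chevD4.neg (chevD4.simple (d4Node a).val) := by decide +kernel

theorem d4_cartan_tab :
    ∀ a : Fin 2, chevD4.cartan 0 (chevD4.simple (d4Node a).val) = [2, -1].getD a.val 0 ∧
      chevD4.cartan 2 (chevD4.simple (d4Node a).val) = [0, -1].getD a.val 0 ∧
      chevD4.cartan 3 (chevD4.simple (d4Node a).val) = [0, -1].getD a.val 0 ∧
      chevD4.cartan 1 (chevD4.simple (d4Node a).val) = [-1, 2].getD a.val 0 := by decide +kernel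

theorem d4_nd : (d4Twist.pi (d4Node 0)).val = 2 ∧ (d4Twist.pi (d4Twist.pi (d4Node 0))).val = 3 := by
  decide +kernel

variable {K : Type*} [Field K] [Fintype K] {q : ℕ}

theorem isCoprime_d4 (hq : 1 < q) :
    IsCoprime (1 + (q : ℤ) - (q : ℤ) ^ 2) ((q ^ 3 - 1 : ℕ) : ℤ) := by
  have h3 : ((q ^ 3 - 1 : ℕ) : ℤ) = (q : ℤ) ^ 3 - 1 := by
    rw [Nat.cast_sub (Nat.one_le_pow _ _ (by omega))]; push_cast; ring
  have hq' : IsCoprime (1 + (q : ℤ) - (q : ℤ) ^ 2) (q : ℤ) := ⟨1, (q : ℤ) - 1, by ring⟩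
  have h2 : IsCoprime (1 + (q : ℤ) - (q : ℤ) ^ 2) 2 := by
    obtain ⟨c, hc⟩ : (2 : ℤ) ∣ (q : ℤ) - (q : ℤ) ^ 2 := by
      rw [show (q : ℤ) - (q : ℤ) ^ 2 = -(((q : ℤ) - 1) * ((q : ℤ) - 1 + 1)) by ring]
      exact (Int.even_mul_succ_self _).two_dvd.neg_right
    exact ⟨1, -c, by linear_combination hc⟩
  rw [h3, show (q : ℤ) ^ 3 - 1 = 2 * q + (1 + (q : ℤ) - (q : ℤ) ^ 2) * (-(q : ℤ) - 1) by ring]
  exact (h2.mul_right hq').add_mul_left_right _

theorem two_generated_twistedD4 (hD : Good chevD4) (hq : IsPrimePow q) (hK : Fintype.card K = q ^ 3) :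
    ∃ a b : ↥(twistedD4 K q), Subgroup.closure ({a, b} : Set ↥(twistedD4 K q)) = ⊤ := by
  classical
  obtain ⟨φ, hG, hyp⟩ := exists_ctxD4 hD hq hK
  rw [hG]
  set C := ctxD4 hD φ with hC
  have hL0 : C.L 0 = 3 := d4_len 0
  have hL1 : C.L 1 = 1 := d4_len 1
  have hpow : ∀ (k : ℕ) (u : Kˣ), C.itU k u = u ^ q ^ k := fun k u =>
    Units.ext (by rw [C.coe_itU, Ctx.iter_pow hyp, Units.val_pow_eq_pow_val])
  have hid : ∀ t : K, (⇑φ)^[3] t = t := fun t => by
    rw [show (⇑φ)^[3] t = t ^ q ^ 3 from Ctx.iter_pow hyp t 3, ← hK, FiniteField.pow_card]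
  have hPm0 : ∀ t : K, C.Pm 0 t := fun t => by show (⇑φ)^[C.L 0] t = t; rw [hL0]; exact hid t
  have hPm1 : ∀ t : K, C.Pm 1 t ↔ t ^ q = t := fun t => by
    show (⇑φ)^[C.L 1] t = t ↔ _; rw [hL1, Function.iterate_one, hyp.pow]
  have hq1 := hyp.one_lt
  obtain ⟨ζ, hζ⟩ := IsCyclic.exists_generator (α := Kˣ)
  have hcard : ∀ u : Kˣ, u ^ (Fintype.card K - 1) = 1 := fun u => by
    rw [← Nat.card_eq_fintype_card, ← Nat.card_units]; exact pow_card_eq_one'
  -- characters of the torus elements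
  have hchi : ∀ (u : Kˣ) (a : Fin 2),
      chiX (C.torVec 0 u) (chevD4.simple (d4Node a).val) =
        u ^ ([2, -1].getD a.val 0 : ℤ) * (u ^ q) ^ ([0, -1].getD a.val 0 : ℤ) *
          (u ^ q ^ 2) ^ ([0, -1].getD a.val 0 : ℤ) ∧
      chiX (C.torVec 1 u) (chevD4.simple (d4Node a).val) = u ^ ([-1, 2].getD a.val 0 : ℤ) := by
    intro u a
    obtain ⟨c0, c2, c3, c1⟩ := d4_cartan_tab a
    constructor
    · rw [C.chiX_torVec_eq, hL0]
      simp only [List.range_succ, List.range_zero, List.nil_append, List.cons_append, List.map_cons, List.map_nil,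
        List.prod_cons, List.prod_nil, mul_one, hpow, pow_zero, pow_one]
      rw [show (C.nd 0 0).val = 0 from rfl, show (C.nd 0 1).val = 2 from d4_nd.1,
        show (C.nd 0 2).val = 3 from d4_nd.2, c0, c2, c3, mul_assoc]
    · rw [C.chiX_torVec_eq, hL1]
      simp only [List.range_succ, List.range_zero, List.nil_append, List.map_cons, List.map_nil,
        List.prod_cons, List.prod_nil, mul_one, hpow, pow_zero, pow_one]
      rw [show (C.nd 1 0).val = 1 from rfl, c1]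
  set v : Kˣ := ζ ^ (1 + q)
  set w : Kˣ := ζ ^ (1 + q + q ^ 2)
  have hzK : ζ ^ ((q : ℤ) ^ 3) = ζ := by
    rw [← Nat.cast_pow, zpow_natCast, ← hK]
    exact Units.ext (by simp [FiniteField.pow_card])
  have hwfix : C.Pm 1 (w : K) := by
    rw [hPm1, ← Units.val_pow_eq_pow_val]
    refine congrArg Units.val ?_
    rw [← pow_mul, show (1 + q + q ^ 2) * q = q + q ^ 2 + q ^ 3 by ring, pow_add,
      show ζ ^ q ^ 3 = ζ by rw [← hK]; exact Units.ext (by simp [FiniteField.pow_card]),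
      ← pow_succ, show q + q ^ 2 + 1 = 1 + q + q ^ 2 by ring]
  set x := C.torVec 0 v * C.torVec 1 w
  have hx : x ∈ TorSym C.T C.φ := mul_mem (C.torVec_mem 0 (hPm0 _)) (C.torVec_mem 1 hwfix)
  have hx1 : chiX x (C.p 1) = 1 := by
    show chiX x (chevD4.simple (d4Node 1).val) = 1
    rw [chiX_mul, (hchi v 1).1, (hchi w 1).2]
    simp only [v, w, Fin.isValue, Fin.val_one, Fin.val_zero, List.getD_cons_zero, List.getD_cons_succ,
      ← zpow_natCast, Nat.cast_add, Nat.cast_pow, Nat.cast_one, ← zpow_mul, ← zpow_add]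
    rw [show ∀ E : ℤ, E = 1 + -((q : ℤ) ^ 3) → ζ ^ E = 1 from fun E e => by
      rw [e, zpow_add, zpow_neg, hzK, zpow_one, mul_inv_cancel]]
    ring
  set g : Kˣ := chiX x (C.p 0) with hg
  have hge : g = ζ ^ (1 + (q : ℤ) - (q : ℤ) ^ 2) := by
    show chiX x (chevD4.simple (d4Node 0).val) = _
    rw [chiX_mul, (hchi v 0).1, (hchi w 0).2]
    simp only [v, w, Fin.isValue, Fin.val_one, Fin.val_zero, List.getD_cons_zero, List.getD_cons_succ,
      ← zpow_natCast, Nat.cast_add, Nat.cast_pow, Nat.cast_one, ← zpow_mul, ← zpow_add]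
    congr 1
    ring
  have hgen : ∀ u : K, u ≠ 0 → ∃ n : ℕ, u = (g : K) ^ n := fun u hu => by
    rw [hge]
    exact gen_zpow hζ (by rw [hK]; exact isCoprime_d4 hq1) hu
  have hg1 : (g : K) - 1 ≠ 0 := by
    intro e
    rw [sub_eq_zero] at e
    have h1 : ∀ u : Kˣ, u = 1 := fun u => by
      obtain ⟨n, hn⟩ := hgen (u : K) u.ne_zero
      exact Units.ext (by rw [hn, e, one_pow, Units.val_one])
    have h2 : Nat.card Kˣ = 1 := Nat.card_eq_one_iff_unique.2 ⟨⟨fun a b => (h1 a).trans (h1 b).symm⟩, ⟨1⟩⟩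
    rw [Nat.card_units, Nat.card_eq_fintype_card, hK] at h2
    have : 2 ^ 3 ≤ q ^ 3 := Nat.pow_le_pow_left hq1 3
    omega
  -- the generators
  set H := theta chevD4 K x
  set u₀ := C.op 1 (1 : K)
  set n₀ := C.rgd.nw d4W0
  set S := Subgroup.closure ({H * u₀, C.op 0 1 * n₀} : Set (GL chevD4.Idx K))
  have hn₀G : n₀ ∈ C.G0 := C.rgd_G ▸ C.rgd.N_le_G (C.rgd.nw_mem_N _)
  refine two_gen_of_le (mul_mem (C.theta_mem_G0 hx) (C.op_mem_G0 1 (C.Pm_one 1)))
    (mul_mem (C.op_mem_G0 0 (C.Pm_one 0)) hn₀G) ?_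
  have hA : H * u₀ ∈ S := Subgroup.subset_closure (Set.mem_insert _ _)
  have hB : C.op 0 1 * n₀ ∈ S := Subgroup.subset_closure (Set.mem_insert_of_mem _ rfl)
  have hcomm : Commute H u₀ := by
    have h := C.theta_conj_op hx 1 (1 : K)
    rw [hx1, Units.val_one, one_mul, mul_inv_eq_iff_eq_mul] at h
    exact h
  obtain ⟨hH, hu₀⟩ := mem_of_coprime S hcomm (N := Fintype.card K - 1)
    (by rw [← map_pow, show x ^ (Fintype.card K - 1) = 1 from funext fun i => hcard (x i), map_one])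
    (by rw [Nat.sub_add_cancel Fintype.card_pos]
        show C.op 1 (1 : K) ^ Fintype.card K = 1
        rw [C.op_eq, C.orb_pow (C.hR.rep_simple 1), FiniteField.cast_card_eq_zero, zero_mul, C.orb_zero]) hA
  obtain ⟨y, -, hy, hyc⟩ := C.nw_conj_theta d4W0 hx
  have hyi : theta chevD4 K y = H⁻¹ := by
    rw [show H⁻¹ = theta chevD4 K x⁻¹ from (map_inv _ x).symm]
    refine theta_ext fun s hs => ?_
    rw [hyc s hs, show wW C.T C.node d4W0.reverse s = chevD4.neg s from d4W0_rev s hs, chiX_neg hD x hs]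
    refine inv_eq_of_mul_eq_one_right ?_
    rw [← chiX_mul, mul_inv_cancel, chiX_one]
  have hcom : C.op 0 ((g : K) - 1) ∈ S := by
    have h := mul_mem hH (mul_mem (mul_mem hB hH) (inv_mem hB))
    rwa [show H * (C.op 0 1 * n₀ * H * (C.op 0 1 * n₀)⁻¹) =
        H * (C.op 0 1 * (n₀ * H * n₀⁻¹) * (C.op 0 1)⁻¹) by group, hy, hyi,
      show H * (C.op 0 1 * H⁻¹ * (C.op 0 1)⁻¹) = H * C.op 0 1 * H⁻¹ * (C.op 0 1)⁻¹ by group,
      C.theta_conj_op hx 0, mul_one, C.op_inv, C.op_eq, C.op_eq, ← C.orb_add (C.hR.rep_simple 0),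
      ← sub_eq_add_neg, ← C.op_eq] at h
  have hF0 : C.Full S (C.p 0) :=
    Ctx.full_of_gen (C.hR.rep_simple 0) hx hH (hPm0 _) hg1 (by rw [← C.op_eq]; exact hcom)
      fun u _ hu => hgen u hu
  have hn : n₀ ∈ S := by
    simpa using mul_mem (inv_mem (hF0.op_mem (C.Pm_one 0))) hB
  have hF0' : C.Full S (chevD4.neg (C.p 0)) := Ctx.full_nw (C.hR.rep_simple 0) hn hF0 (d4W0_simple 0)
  have hT : theta chevD4 K (C.torVec 0 ζ) ∈ S := Ctx.torVec_mem_of_full hF0 hF0' (hPm0 _)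
  have hF1 : C.Full S (C.p 1) := by
    refine Ctx.full_of_gen (C.hR.rep_simple 1) (C.torVec_mem 0 (hPm0 _)) hT (C.Pm_one 1) one_ne_zero
      (by rw [← C.op_eq]; exact hu₀) fun u hu hu0 => ?_
    rw [show chiX (C.torVec 0 ζ) (C.p 1) = (ζ ^ (q ^ 2 + q + 1))⁻¹ by
      rw [show C.p 1 = chevD4.simple (d4Node 1).val from rfl, (hchi ζ 1).1]
      simp [pow_add, mul_comm, mul_assoc]]
    exact gen_sub hζ hq1 (by rw [hK]; exact (geom_three hq1).symm) hu0 ((hPm1 u).1 hu)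
  have hF1' : C.Full S (chevD4.neg (C.p 1)) := Ctx.full_nw (C.hR.rep_simple 1) hn hF1 (d4W0_simple 1)
  exact Ctx.G0_le_of_full (fun a => by fin_cases a <;> assumption) (fun a => by fin_cases a <;> assumption)
where
  geom_three {q : ℕ} (hq : 1 < q) : q ^ 3 - 1 = (q ^ 2 + q + 1) * (q - 1) := by
    obtain ⟨r, rfl⟩ : ∃ r, q = r + 1 := ⟨q - 1, by omega⟩
    simp only [Nat.add_sub_cancel]
    exact Nat.sub_eq_of_eq_add (by ring)

end Cfsg.Agent.TwistE6D4
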