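/-
²E₆(q) is generated by `θ(x) x_L(1)` and `x_S(1) n`, where `x` is the coroot parameter of a short node, `L` and
`S` are simple orbits of the two lengths and `n` is a Weyl word inverting `θ(x)`.

* `two_generated_twistedE6`.
-/
import Cfsg.Agent.Lib.TwistE6D4.TwoGen

set_option autoImplicit false
set_option maxRecDepth 100000

namespace Cfsg.Agent.TwistE6D4

open Cfsg.Lie Cfsg.Lie.ChevalleyDatum Cfsg.Agent.Chev

/-- A word whose element inverts the coroot of the last node. -/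
def e6Gen : List (Fin 4) := [1, 2, 3, 2, 1, 2, 0, 1, 2, 3, 0, 1, 2, 0]

theorem e6Gen_inv : ∀ s < chevE6.nroots,
    chevE6.cartan 0 (wW e6Twist e6Node e6Gen.reverse s) = -chevE6.cartan 0 s ∧
      chevE6.cartan 5 (wW e6Twist e6Node e6Gen.reverse s) = -chevE6.cartan 5 s := by decide +kernel

/-- The images of roots under words used to generate the group. -/
theorem e6Gen_tab : ∀ p ∈ ([(e6Gen, 42, 4), (e6Gen, 4, 40), (e6Gen, 44, 27), (e6Gen, 46, 24), (e6Gen, 40, 49),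
      ([2], 39, 44), ([2], 32, 27), ([2], 40, 40), ([2, 1], 40, 29), ([2], 46, 46), ([2, 1], 46, 51),
      ([2], 7, 4), ([2, 1], 7, 10), ([2], 24, 20), ([2, 1], 24, 25), ([2], 10, 9), ([2], 27, 32),
      ([2], 44, 39), ([2], 49, 52), ([], 42, 42), ([], 29, 29), ([], 24, 24), ([], 10, 10), ([], 27, 27),
      ([], 44, 44), ([], 49, 49), ([2, 1, 0], 46, 20), ([2, 1, 0], 25, 51), ([2, 1, 0], 13, 9),
      ([2, 1, 0, 0], 13, 15), ([2, 1, 0], 41, 52), ([2, 1, 0, 0], 41, 56)] : List (List (Fin 4) × ℕ × ℕ)),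
    repT e6Twist (wW e6Twist e6Node p.1 p.2.1) = p.2.2 := by decide +kernel

theorem e6Gen_nodes :
    (chevE6.simple (e6Node 0).val = 46 ∧ chevE6.simple (e6Node 1).val = 39 ∧
      chevE6.simple (e6Node 2).val = 42 ∧ chevE6.simple (e6Node 3).val = 56) ∧
    (chevE6.neg 46 = 25 ∧ chevE6.neg 39 = 32 ∧ chevE6.neg 42 = 29 ∧ chevE6.neg 56 = 15) ∧
    (e6Twist.pi (e6Node 2)).val = 4 ∧ (e6Twist.pi (e6Node 3)).val = 5 := by decide +kernel

theorem e6Gen_cartan :
    (chevE6.cartan 0 42 = -1 ∧ chevE6.cartan 5 42 = 0) ∧ (chevE6.cartan 0 46 = 0 ∧ chevE6.cartan 5 46 = 0) ∧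
    (chevE6.cartan 2 24 = 1 ∧ chevE6.cartan 4 24 = 1) := by decide +kernel

theorem e6Gen_short : ∀ r ∈ ([4, 7, 9, 10, 13, 40, 41, 42, 49] : List ℕ),
    r ∈ e6Twist.reps ∧ e6Twist.len r = 2 := by decide +kernel

theorem e6Gen_long : ∀ r ∈ ([20, 24, 27, 44, 46] : List ℕ),
    r ∈ e6Twist.reps ∧ e6Twist.len r = 1 := by decide +kernel

theorem e6Gen_trace :
    (e6Twist.rho 42 = 37 ∧ e6Twist.rho 40 = 43 ∧ e6Twist.eps 42 = 1 ∧ e6Twist.eps 40 = -1) ∧
    (37 < chevE6.nroots ∧ 40 < chevE6.nroots ∧ 42 < chevE6.nroots ∧ 43 < chevE6.nroots ∧ 44 < chevE6.nroots) := by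
  decide +kernel

theorem e6Gen_comm :
    chevE6.commTerms 42 40 = [(44, -1, 1, 1)] ∧ chevE6.commTerms 37 43 = [(44, 1, 1, 1)] ∧
      chevE6.commTerms 42 43 = [] ∧ chevE6.commTerms 37 40 = [] ∧ chevE6.commTerms 37 44 = [] ∧
      chevE6.commTerms 43 44 = [] ∧ chevE6.commTerms 40 44 = [] := by decide +kernel

theorem e6Gen_ne :
    43 ≠ chevE6.neg 42 ∧ 40 ≠ chevE6.neg 37 ∧ 44 ≠ chevE6.neg 37 ∧ 44 ≠ chevE6.neg 43 ∧
      44 ≠ chevE6.neg 40 ∧ 40 ≠ chevE6.neg 42 ∧ 43 ≠ chevE6.neg 37 := by decide +kernel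

variable {K : Type*} [Field K]

theorem e6_cartan_long : chevE6.cartan 3 46 = -1 := by decide +kernel

theorem gx_comm_one (hD : Good chevE6) {r s k : ℕ} {c : ℤ} (hr : r < chevE6.nroots) (hs : s < chevE6.nroots)
    (h₁ : s ≠ r) (h₂ : s ≠ chevE6.neg r) (hterms : chevE6.commTerms r s = [(k, c, 1, 1)]) (t u : K) :
    gx hD K s u * gx hD K r t = gx hD K r t * gx hD K s u * gx hD K k ((c : K) * -t * u) := by
  refine Units.ext ?_
  simp only [Units.val_mul, coe_gx, hD.commutator hr hs h₁ h₂, ChevalleyDatum.commWord, hterms,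
    ChevalleyDatum.wordMat]
  simp

theorem four_comm {G : Type*} [Group G] {A B X Y Z₁ Z₂ : G} (hBX : Commute B X) (hAY : Commute A Y)
    (h₁ : A * X = X * A * Z₁) (h₂ : B * Y = Y * B * Z₂) (hB : Commute B Z₁) (hY : Commute Y Z₁) :
    A * B * (X * Y) = X * Y * (A * B) * (Z₁ * Z₂) :=
  calc A * B * (X * Y) = A * (B * X) * Y := by simp only [mul_assoc]
    _ = A * X * (B * Y) := by rw [hBX.eq]; simp only [mul_assoc]
    _ = X * A * (Z₁ * Y) * (B * Z₂) := by rw [h₁, h₂]; simp only [mul_assoc]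
    _ = X * (A * Y) * (Z₁ * B) * Z₂ := by rw [hY.symm.eq]; simp only [mul_assoc]
    _ = _ := by rw [hAY.eq, hB.symm.eq]; simp only [mul_assoc]

theorem two_generated_twistedE6 [Fintype K] {q : ℕ} (hD : Good chevE6) (hq : IsPrimePow q)
    (hK : Fintype.card K = q ^ 2) :
    ∃ a b : ↥(twistedE6 K q), Subgroup.closure ({a, b} : Set ↥(twistedE6 K q)) = ⊤ := by
  classical
  obtain ⟨φ, hG, hyp⟩ := exists_ctxE6 hD hq hK
  rw [hG]
  set C := ctxE6 hD φ with hC
  obtain ⟨⟨hp0, hp1, hp2, hp3⟩, ⟨hn0, hn1, hn2, hn3⟩, hnd2, hnd3⟩ := e6Gen_nodes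
  obtain ⟨⟨c042, c542⟩, ⟨c046, c546⟩, ⟨c224, c424⟩⟩ := e6Gen_cartan
  have hshort := e6Gen_short
  have hlong := e6Gen_long
  obtain ⟨⟨hr42, hr40, he42, he40⟩, ⟨l37, l40, l42, l43, l44⟩⟩ := e6Gen_trace
  obtain ⟨k1, k2, k3, k4, k5, k6, k7⟩ := e6Gen_comm
  obtain ⟨g1, g2, g3, g4, g5, g6, g7⟩ := e6Gen_ne
  have hL2 : C.L 2 = 2 := e6_len 2
  have hL3 : C.L 3 = 2 := e6_len 3
  have hpow : ∀ (k : ℕ) (u : Kˣ), C.itU k u = u ^ q ^ k := fun k u =>
    Units.ext (by rw [C.coe_itU, Ctx.iter_pow hyp, Units.val_pow_eq_pow_val])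
  have hid : ∀ t : K, (⇑φ)^[2] t = t := fun t => by
    rw [show (⇑φ)^[2] t = t ^ q ^ 2 from Ctx.iter_pow hyp t 2, ← hK, FiniteField.pow_card]
  have hfix2 : ∀ {r : ℕ}, e6Twist.len r = 2 → ∀ t : K, (⇑C.φ)^[C.T.len r] t = t := fun {r} h t => by
    show (⇑φ)^[e6Twist.len r] t = t; rw [h]; exact hid t
  have hfix1 : ∀ {r : ℕ}, e6Twist.len r = 1 → ∀ t : K, ((⇑C.φ)^[C.T.len r] t = t ↔ t ^ q = t) := fun {r} h t => by
    show (⇑φ)^[e6Twist.len r] t = t ↔ _; rw [h, Function.iterate_one, hyp.pow]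
  have hPm2 : ∀ t : K, C.Pm 2 t := fun t => by show (⇑φ)^[C.L 2] t = t; rw [hL2]; exact hid t
  have hPm3 : ∀ t : K, C.Pm 3 t := fun t => by show (⇑φ)^[C.L 3] t = t; rw [hL3]; exact hid t
  have hq1 := hyp.one_lt
  obtain ⟨ζ, hζ⟩ := IsCyclic.exists_generator (α := Kˣ)
  have hcard : ∀ u : Kˣ, u ^ (Fintype.card K - 1) = 1 := fun u => by
    rw [← Nat.card_eq_fintype_card, ← Nat.card_units]; exact pow_card_eq_one'
  have hchi3 : ∀ (u : Kˣ) (s : ℕ),
      chiX (C.torVec 3 u) s = u ^ chevE6.cartan 0 s * (u ^ q) ^ chevE6.cartan 5 s := by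
    intro u s
    rw [C.chiX_torVec_eq, hL3]
    simp only [List.range_succ, List.range_zero, List.nil_append, List.cons_append, List.map_cons, List.map_nil,
      List.prod_cons, List.prod_nil, mul_one, hpow, pow_zero, pow_one]
    rw [show (C.nd 3 0).val = 0 from rfl, show (C.nd 3 1).val = 5 from hnd3]
  have hchi2 : ∀ (u : Kˣ) (s : ℕ),
      chiX (C.torVec 2 u) s = u ^ chevE6.cartan 2 s * (u ^ q) ^ chevE6.cartan 4 s := by
    intro u s
    rw [C.chiX_torVec_eq, hL2]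
    simp only [List.range_succ, List.range_zero, List.nil_append, List.cons_append, List.map_cons, List.map_nil,
      List.prod_cons, List.prod_nil, mul_one, hpow, pow_zero, pow_one]
    rw [show (C.nd 2 0).val = 2 from rfl, show (C.nd 2 1).val = 4 from hnd2]
  -- the generators
  set x := C.torVec 3 ζ
  have hx : x ∈ TorSym C.T C.φ := C.torVec_mem 3 (hPm3 _)
  have hxS : chiX x (C.p 2) = ζ⁻¹ := by
    rw [show C.p 2 = 42 from hp2, hchi3, c042, c542, zpow_zero, mul_one, zpow_neg_one]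
  have hxL : chiX x (C.p 0) = 1 := by
    rw [show C.p 0 = 46 from hp0, hchi3, c046, c546, zpow_zero, zpow_zero, mul_one]
  set H := theta chevE6 K x
  set u₀ := C.op 0 (1 : K)
  set n := C.rgd.nw e6Gen
  set S := Subgroup.closure ({H * u₀, C.op 2 1 * n} : Set (GL chevE6.Idx K))
  have hnG : n ∈ C.G0 := C.rgd_G ▸ C.rgd.N_le_G (C.rgd.nw_mem_N _)
  refine two_gen_of_le (mul_mem (C.theta_mem_G0 hx) (C.op_mem_G0 0 (C.Pm_one 0)))
    (mul_mem (C.op_mem_G0 2 (C.Pm_one 2)) hnG) ?_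
  have hA : H * u₀ ∈ S := Subgroup.subset_closure (Set.mem_insert _ _)
  have hB : C.op 2 1 * n ∈ S := Subgroup.subset_closure (Set.mem_insert_of_mem _ rfl)
  have hcomm : Commute H u₀ := by
    have h := C.theta_conj_op hx 0 (1 : K)
    rw [hxL, Units.val_one, one_mul, mul_inv_eq_iff_eq_mul] at h
    exact h
  obtain ⟨hH, hu₀⟩ := mem_of_coprime S hcomm (N := Fintype.card K - 1)
    (by rw [← map_pow, show x ^ (Fintype.card K - 1) = 1 from funext fun i => hcard (x i), map_one])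
    (by rw [Nat.sub_add_cancel Fintype.card_pos]
        show C.op 0 (1 : K) ^ Fintype.card K = 1
        rw [C.op_eq, C.orb_pow (C.hR.rep_simple 0), FiniteField.cast_card_eq_zero, zero_mul, C.orb_zero]) hA
  obtain ⟨y, -, hy, hyc⟩ := C.nw_conj_theta e6Gen hx
  have hyi : theta chevE6 K y = H⁻¹ := by
    rw [show H⁻¹ = theta chevE6 K x⁻¹ from (map_inv _ x).symm]
    refine theta_ext fun s hs => ?_
    obtain ⟨e0, e5⟩ := e6Gen_inv s hs
    rw [hyc s hs, hchi3, show wW C.T C.node e6Gen.reverse s = wW e6Twist e6Node e6Gen.reverse s from rfl,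
      e0, e5, zpow_neg, zpow_neg, ← mul_inv, ← hchi3]
    refine inv_eq_of_mul_eq_one_right ?_
    rw [← chiX_mul, mul_inv_cancel, chiX_one]
  have hgen : ∀ u : K, u ≠ 0 → ∃ k : ℕ, u = ((ζ⁻¹ : Kˣ) : K) ^ k := fun u hu => by
    rw [← zpow_neg_one]; exact gen_zpow hζ isCoprime_one_left.neg_left hu
  have hz1 : ((ζ⁻¹ : Kˣ) : K) - 1 ≠ 0 := by
    intro e
    rw [sub_eq_zero] at e
    have h1 : ∀ u : Kˣ, u = 1 := fun u => by
      obtain ⟨k, hk⟩ := hgen (u : K) u.ne_zero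
      exact Units.ext (by rw [hk, e, one_pow, Units.val_one])
    have h2 : Nat.card Kˣ = 1 := Nat.card_eq_one_iff_unique.2 ⟨⟨fun a b => (h1 a).trans (h1 b).symm⟩, ⟨1⟩⟩
    rw [Nat.card_units, Nat.card_eq_fintype_card, hK] at h2
    have : 2 ^ 2 ≤ q ^ 2 := Nat.pow_le_pow_left hq1 2
    omega
  have hcom : C.op 2 (((ζ⁻¹ : Kˣ) : K) - 1) ∈ S := by
    have h := mul_mem hH (mul_mem (mul_mem hB hH) (inv_mem hB))
    rwa [show H * (C.op 2 1 * n * H * (C.op 2 1 * n)⁻¹) =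
        H * (C.op 2 1 * (n * H * n⁻¹) * (C.op 2 1)⁻¹) by group, hy, hyi,
      show H * (C.op 2 1 * H⁻¹ * (C.op 2 1)⁻¹) = H * C.op 2 1 * H⁻¹ * (C.op 2 1)⁻¹ by group,
      C.theta_conj_op hx 2, hxS, mul_one, C.op_inv, C.op_eq, C.op_eq, ← C.orb_add (C.hR.rep_simple 2),
      ← sub_eq_add_neg, ← C.op_eq] at h
  have hFp2 : C.Full S (C.p 2) :=
    Ctx.full_of_gen (C.hR.rep_simple 2) hx hH (hPm2 _) hz1 (by rw [← C.op_eq]; exact hcom)
      fun u _ hu => by rw [hxS]; exact hgen u hu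
  have F42 : C.Full S 42 := hp2 ▸ hFp2
  have hn : n ∈ S := by simpa using mul_mem (inv_mem (hFp2.op_mem (C.Pm_one 2))) hB
  have tab : ∀ (l : List (Fin 4)) (a b : ℕ), (l, a, b) ∈ ([(e6Gen, 42, 4), (e6Gen, 4, 40), (e6Gen, 44, 27),
      (e6Gen, 46, 24), (e6Gen, 40, 49),
      ([2], 39, 44), ([2], 32, 27), ([2], 40, 40), ([2, 1], 40, 29), ([2], 46, 46), ([2, 1], 46, 51),
      ([2], 7, 4), ([2, 1], 7, 10), ([2], 24, 20), ([2, 1], 24, 25), ([2], 10, 9), ([2], 27, 32),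
      ([2], 44, 39), ([2], 49, 52), ([], 42, 42), ([], 29, 29), ([], 24, 24), ([], 10, 10), ([], 27, 27),
      ([], 44, 44), ([], 49, 49), ([2, 1, 0], 46, 20), ([2, 1, 0], 25, 51), ([2, 1, 0], 13, 9),
      ([2, 1, 0, 0], 13, 15), ([2, 1, 0], 41, 52), ([2, 1, 0, 0], 41, 56)] : List (List (Fin 4) × ℕ × ℕ)) →
      repT C.T (wW C.T C.node l a) = b :=
    fun l a b h => e6Gen_tab (l, a, b) h
  have r2 : ∀ r ∈ ([4, 7, 9, 10, 13, 40, 41, 42, 49] : List ℕ), r ∈ C.T.reps := fun r h => (hshort r h).1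
  have r1 : ∀ r ∈ ([20, 24, 27, 44, 46] : List ℕ), r ∈ C.T.reps := fun r h => (hlong r h).1
  have F4 : C.Full S 4 := Ctx.full_nw (r2 42 (by simp)) hn F42 (tab _ _ _ (by simp))
  have F40 : C.Full S 40 := Ctx.full_nw (r2 4 (by simp)) hn F4 (tab _ _ _ (by simp))
  have F49 : C.Full S 49 := Ctx.full_nw (r2 40 (by simp)) hn F40 (tab _ _ _ (by simp))
  -- the trace
  have F44 : C.Full S 44 := by
    intro g hg
    obtain ⟨v, hv, rfl⟩ := C.mem_Uo (r1 44 (by simp)) hg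
    have hv' : φ v = v := by
      have := hv; rwa [show C.T.len 44 = 1 from (hlong 44 (by simp)).2, Function.iterate_one] at this
    obtain ⟨t0, ht0⟩ : ∃ t0 : K, t0 + φ t0 ≠ 0 := by
      by_contra hne
      push Not at hne
      have h2 : (1 : K) + 1 = 0 := by simpa using hne 1
      have h1 : ∀ t : K, t ^ q = t := fun t => by
        rw [← hyp.pow]; linear_combination hne t - t * h2
      have h3 := card_powFixed K (Q := q) (m := 2) hK
      rw [Nat.card_congr (Equiv.subtypeUnivEquiv h1), Nat.card_eq_fintype_card, hK] at h3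
      nlinarith
    set f := t0 + φ t0
    have hff : φ (v / f) = v / f := by
      rw [map_div₀, hv', map_add, show φ (φ t0) = t0 from hid t0, add_comm]
    set t := v / f * t0
    have hvt : v = t + φ t := by
      show v = v / f * t0 + φ (v / f * t0)
      rw [map_mul, hff, ← mul_add, div_mul_cancel₀ v ht0]
    have e40 : orb C.hD C.T C.φ 40 (1 : K) = gx hD K 40 1 * gx hD K 43 (-1) := by
      simp [orb, show C.T.len 40 = 2 from (hshort 40 (by simp)).2, List.range_succ, cf, esgn,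
        show C.T.rho 40 = 43 from hr40, show C.T.eps 40 = -1 from he40]
    have e42 : orb C.hD C.T C.φ 42 t = gx hD K 42 t * gx hD K 37 (φ t) := by
      simp [orb, show C.T.len 42 = 2 from (hshort 42 (by simp)).2, List.range_succ, cf, esgn,
        show C.T.rho 42 = 37 from hr42, show C.T.eps 42 = 1 from he42]
      rfl
    have m40 := F40.orb_mem (r2 40 (by simp)) (t := (1 : K)) (hfix2 (hshort 40 (by simp)).2 _)
    have m42 := F42.orb_mem (r2 42 (by simp)) (t := t) (hfix2 (hshort 42 (by simp)).2 _)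
    have c1 : gx hD K 40 (1 : K) * gx hD K 42 t = gx hD K 42 t * gx hD K 40 1 * gx hD K 44 t := by
      rw [gx_comm_one hD l42 l40 (by norm_num) g6 k1]; simp
    have c2 : gx hD K 43 (-1 : K) * gx hD K 37 (φ t) = gx hD K 37 (φ t) * gx hD K 43 (-1) * gx hD K 44 (φ t) := by
      rw [gx_comm_one hD l37 l43 (by norm_num) g7 k2]; simp
    have c3 : ∀ a b : K, Commute (gx hD K 42 a) (gx hD K 43 b) := commute_gx hD l42 l43 g1 k3
    have c4 : ∀ a b : K, Commute (gx hD K 37 a) (gx hD K 40 b) := commute_gx hD l37 l40 g2 k4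
    have c5 : ∀ a b : K, Commute (gx hD K 37 a) (gx hD K 44 b) := commute_gx hD l37 l44 g3 k5
    have c6 : ∀ a b : K, Commute (gx hD K 43 a) (gx hD K 44 b) := commute_gx hD l43 l44 g4 k6
    have key : orb C.hD C.T C.φ 40 (1 : K) * orb C.hD C.T C.φ 42 t =
        orb C.hD C.T C.φ 42 t * orb C.hD C.T C.φ 40 1 * gx hD K 44 v := by
      rw [e40, e42, hvt, gx_add]
      exact four_comm (c3 t (-1)).symm (c4 (φ t) 1).symm c1 c2 (c6 (-1) t) (c5 (φ t) t)
    rw [C.orb_of_len_one (hlong 44 (by simp)).2]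
    have e' : gx hD K 44 v = (orb C.hD C.T C.φ 42 t * orb C.hD C.T C.φ 40 1)⁻¹ *
        (orb C.hD C.T C.φ 40 1 * orb C.hD C.T C.φ 42 t) := by rw [key]; group
    rw [e']
    exact mul_mem (inv_mem (mul_mem m42 m40)) (mul_mem m40 m42)
  have F27 : C.Full S 27 := Ctx.full_nw (r1 44 (by simp)) hn F44 (tab _ _ _ (by simp))
  have q1 : repT C.T (wW C.T C.node [2] (C.p 1)) = 44 := by rw [show C.p 1 = 39 from hp1]; exact tab _ _ _ (by simp)
  have q1' : repT C.T (wW C.T C.node [2] (chevE6.neg (C.p 1))) = 27 := by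
    rw [show C.p 1 = 39 from hp1, hn1]; exact tab _ _ _ (by simp)
  -- reflection in 44
  have F29 : C.Full S 29 :=
    Ctx.full_refl (v := [2]) (a := 1) (r2 40 (by simp)) F44 F27 q1 q1' F40 (tab _ _ _ (by simp))
      (tab _ _ _ (by simp))
  have hFm2 : C.Full S (chevE6.neg (C.p 2)) := by rw [show C.p 2 = 42 from hp2, hn2]; exact F29
  have q2 : repT C.T (wW C.T C.node [] (C.p 2)) = 42 := by rw [show C.p 2 = 42 from hp2]; exact tab _ _ _ (by simp)
  have q2' : repT C.T (wW C.T C.node [] (chevE6.neg (C.p 2))) = 29 := by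
    rw [show C.p 2 = 42 from hp2, hn2]; exact tab _ _ _ (by simp)
  -- the long root group
  have hT : theta chevE6 K (C.torVec 2 ζ⁻¹) ∈ S := Ctx.torVec_mem_of_full hFp2 hFm2 (hPm2 _)
  have F24 : C.Full S 24 := by
    obtain ⟨h24, t, ht, ht0, htS⟩ := Ctx.exists_orb_nw (C := C) (S := S) (l := e6Gen) (r := 46) (r' := 24)
      (r1 46 (by simp)) hn (tab _ _ _ (by simp)) (t := (1 : K))
      ((hfix1 (hlong 46 (by simp)).2 1).2 (one_pow q)) one_ne_zero (by
        rw [← hp0, ← C.op_eq]; exact hu₀)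
    refine Ctx.full_of_gen h24 (C.torVec_mem 2 (hPm2 _)) hT ht ht0 htS fun u hu hu0 => ?_
    rw [hchi2, c224, c424, zpow_one, zpow_one, inv_pow, ← mul_inv, ← pow_succ']
    exact gen_sub hζ hq1 (by rw [hK]; simpa using (Nat.sq_sub_sq q 1).symm) hu0
      ((hfix1 (hlong 24 (by simp)).2 u).1 hu)
  have F20 : C.Full S 20 := Ctx.full_refl (v := []) (a := 2) (r1 24 (by simp)) F42 F29 q2 q2' F24
    (tab _ _ _ (by simp)) (tab _ _ _ (by simp))
  have F25 : C.Full S 25 := Ctx.full_refl (v := [2]) (a := 1) (r1 24 (by simp)) F44 F27 q1 q1' F20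
    (tab _ _ _ (by simp)) (tab _ _ _ (by simp))
  -- the long simple orbit of node 0 and the other reflections
  have F32 : C.Full S 32 := Ctx.full_refl (v := []) (a := 2) (r1 27 (by simp)) F42 F29 q2 q2' F27
    (tab _ _ _ (by simp)) (tab _ _ _ (by simp))
  have F39 : C.Full S 39 := Ctx.full_refl (v := []) (a := 2) (r1 44 (by simp)) F42 F29 q2 q2' F44
    (tab _ _ _ (by simp)) (tab _ _ _ (by simp))
  have F46 : C.Full S 46 := by
    have e1 : C.Full S (C.p 1) := by rw [show C.p 1 = 39 from hp1]; exact F39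
    have e2 : C.Full S (chevE6.neg (C.p 1)) := by rw [show C.p 1 = 39 from hp1, hn1]; exact F32
    have hL1 : C.L 1 = 1 := e6_len 1
    set E := q + 1 with hE
    have hEq : E * (q - 1) = Fintype.card K - 1 := by rw [hK]; simpa using (Nat.sq_sub_sq q 1).symm
    have hu : C.Pm 1 ((ζ ^ E : Kˣ) : K) := by
      show (⇑φ)^[C.L 1] _ = _
      rw [hL1, Function.iterate_one, hyp.pow, ← Units.val_pow_eq_pow_val]
      refine congrArg Units.val ?_
      rw [← pow_mul, show E * q = E * (q - 1) + E by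
        rw [Nat.mul_sub, mul_one, Nat.sub_add_cancel (Nat.le_mul_of_pos_right _ (by omega))],
        pow_add, hEq, hcard, one_mul]
    have ht : theta chevE6 K (C.torVec 1 (ζ ^ E)) ∈ S := Ctx.torVec_mem_of_full e1 e2 hu
    refine Ctx.full_of_gen (r1 46 (by simp)) (C.torVec_mem 1 hu) ht
      ((hfix1 (hlong 46 (by simp)).2 1).2 (one_pow q)) one_ne_zero (by rw [← hp0, ← C.op_eq]; exact hu₀)
      fun u hu' hu0 => ?_
    rw [C.chiX_torVec_eq, hL1]
    simp only [List.range_succ, List.range_zero, List.nil_append, List.map_cons, List.map_nil, List.prod_cons,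
      List.prod_nil, mul_one, hpow, pow_zero, pow_one]
    rw [show (C.nd 1 0).val = 3 from rfl, show chevE6.cartan 3 46 = -1 from e6_cartan_long, zpow_neg_one]
    exact gen_sub hζ hq1 hEq hu0 ((hfix1 (hlong 46 (by simp)).2 u).1 hu')
  have F51 : C.Full S 51 := Ctx.full_refl (v := [2]) (a := 1) (r1 46 (by simp)) F44 F27 q1 q1' F46
    (tab _ _ _ (by simp)) (tab _ _ _ (by simp))
  have F10 : C.Full S 10 := Ctx.full_refl (v := [2]) (a := 1) (r2 7 (by simp)) F44 F27 q1 q1' F4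
    (tab _ _ _ (by simp)) (tab _ _ _ (by simp))
  have F9 : C.Full S 9 := Ctx.full_refl (v := []) (a := 2) (r2 10 (by simp)) F42 F29 q2 q2' F10
    (tab _ _ _ (by simp)) (tab _ _ _ (by simp))
  have F52 : C.Full S 52 := Ctx.full_refl (v := []) (a := 2) (r2 49 (by simp)) F42 F29 q2 q2' F49
    (tab _ _ _ (by simp)) (tab _ _ _ (by simp))
  have q0 : repT C.T (wW C.T C.node [2, 1, 0] (C.p 0)) = 20 := by
    rw [show C.p 0 = 46 from hp0]; exact tab _ _ _ (by simp)
  have q0' : repT C.T (wW C.T C.node [2, 1, 0] (chevE6.neg (C.p 0))) = 51 := by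
    rw [show C.p 0 = 46 from hp0, hn0]; exact tab _ _ _ (by simp)
  have F15 : C.Full S 15 := Ctx.full_refl (v := [2, 1, 0]) (a := 0) (r2 13 (by simp)) F20 F51 q0 q0' F9
    (tab _ _ _ (by simp)) (tab _ _ _ (by simp))
  have F56 : C.Full S 56 := Ctx.full_refl (v := [2, 1, 0]) (a := 0) (r2 41 (by simp)) F20 F51 q0 q0' F52
    (tab _ _ _ (by simp)) (tab _ _ _ (by simp))
  refine Ctx.G0_le_of_full (fun a => ?_) (fun a => ?_)
  · fin_cases a
    · show C.Full S (chevE6.simple (e6Node 0).val); rw [hp0]; exact F46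
    · show C.Full S (chevE6.simple (e6Node 1).val); rw [hp1]; exact F39
    · show C.Full S (chevE6.simple (e6Node 2).val); rw [hp2]; exact F42
    · show C.Full S (chevE6.simple (e6Node 3).val); rw [hp3]; exact F56
  · fin_cases a
    · show C.Full S (chevE6.neg (chevE6.simple (e6Node 0).val)); rw [hp0, hn0]; exact F25
    · show C.Full S (chevE6.neg (chevE6.simple (e6Node 1).val)); rw [hp1, hn1]; exact F32
    · exact hFm2
    · show C.Full S (chevE6.neg (chevE6.simple (e6Node 3).val)); rw [hp3, hn3]; exact F15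

end Cfsg.Agent.TwistE6D4
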